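import Cfsg.Agent.Mrg.Omega.ThmC.TwoData
import Cfsg.Agent.Mrg.Omega.IITwo.Count
import Cfsg.Agent.Mrg.Omega.IId.SideOf
import Cfsg.Agent.Mrg.Omega.BTwo.Entry
import Cfsg.Agent.Lib.SylowNormalInf
import Cfsg.Agent.Mrg.Omega.IId.Cv.MixPlug
import Cfsg.Agent.Mrg.Omega.IId.M4.Entry
import Cfsg.Agent.Mrg.Omega.BTwo.Conj
import Cfsg.Agent.Mrg.Omega.IId.CvBig.Bts
import Cfsg.Agent.Mrg.Omega.IId.M4.Graph
import Cfsg.Agent.Mrg.Omega.IId.ExcFree
import Cfsg.Agent.Mrg.Omega.IId.ThmCD.Cor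
import Cfsg.Agent.Mrg.Omega.IId.ThmCD.Blk
import Cfsg.Agent.Mrg.Omega.IId.Cv.MixEnd
import Cfsg.Agent.Mrg.Omega.IId.Cv.Cut
import Cfsg.Agent.Mrg.Omega.NatPair.Pair
import Cfsg.Agent.Omega.NatPair.Mod
import Cfsg.Agent.Mrg.Omega.NatPair.Quad
import Cfsg.Agent.Mrg.Omega.IId.Cv.TwoFourEnd

-- merged: Cfsg.Agent.Mrg.Omega.IId.CvBig.CEl
section

/-!
# THEOREM C for single elements, all `q` (helper468, bb OMEGA #21415)

`S` a Sylow 2-subgroup, `S ≤ P ≤ N(Q)`, `V m ≤ Ω₁Z(Q)`, `X m ≤ P` irreducible on `V m`, trivial on `V l`, `l ≠ m`, and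
`[Ω₁Z(Q), X m] ≤ V m`; `S` permutes the elements `z m ∈ V m` transitively; `O₂(C_G(z o)) ∩ P` centralises `V m`, `m ≠ o`.

* `ElD.le_S` : `O₂(C_G(z o)) ≤ S`.
-/

set_option autoImplicit false
set_option linter.unusedSectionVars false

namespace Cfsg.Agent.Omega.IId.CEl

open scoped Pointwise
open Subgroup Cfsg Cfsg.Agent.MinSimple.VModule Cfsg.Agent.Omega.ThmC
open Cfsg.Agent.ZN (zc o2)
open Cfsg.Agent.Omega.IId.ThmCD (count le_sylow_of_normalized nor_centralizer nor_inf nor_o2)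
open Cfsg.Agent.Omega.IITwo.Count (conj_mem conj_mem' mem_norm)

universe u

variable {G : Type u} [Group G]

/-- The data. -/
structure ElD (S : Sylow 2 G) (P Q : Subgroup G) {ι : Type} (V X : ι → Subgroup G) (z : ι → G) : Prop where
  SP : (S : Subgroup G) ≤ P
  PQ : P ≤ normalizer (Q : Set G)
  QP : Q ≤ P
  Q2 : IsPGroup 2 Q
  CQ : centralizer (Q : Set G) ≤ Q
  VQ : ∀ m, V m ≤ zc Q
  XP : ∀ m, X m ≤ P
  Xc : ∀ m l, l ≠ m → ∀ x ∈ X m, ∀ v ∈ V l, x * v = v * x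
  Xz : ∀ m, ∀ x ∈ X m, ∀ y ∈ zc Q, x * y * x⁻¹ * y⁻¹ ∈ V m
  irr : ∀ m, ∀ U ≤ V m, U ≠ ⊥ → X m ≤ normalizer (U : Set G) → V m ≤ U
  mov : ∀ m, ∃ x ∈ X m, ∃ v ∈ V m, x * v ≠ v * x
  zV : ∀ m, z m ∈ V m
  z1 : ∀ m, z m ≠ 1
  zinj : Function.Injective z
  zS : ∀ s ∈ (S : Subgroup G), ∀ l, ∃ m, s * z l * s⁻¹ = z m
  ztr : ∀ l m, ∃ s ∈ (S : Subgroup G), s * z l * s⁻¹ = z m
  h0 : ∀ o m, m ≠ o → ∀ w ∈ o2 (centralizer ({z o} : Set G)), w ∈ P → ∀ v ∈ V m, w * v = v * w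

/-- conjugation and centralisers -/
theorem nor_cent {U : Subgroup G} {g : G} (hg : g ∈ normalizer (U : Set G)) :
    g ∈ normalizer (centralizer (U : Set G) : Set G) := by
  refine nor_centralizer (fun x hx => (mem_normalizer_iff.1 hg x).1 hx) fun x hx => ?_
  have := (mem_normalizer_iff.1 (inv_mem hg) x).1 hx
  rwa [inv_inv] at this

theorem comm_iff {a b : G} : a * b = b * a ↔ a * b * a⁻¹ = b := mul_inv_eq_iff_eq_mul.symm

namespace ElD

variable {S : Sylow 2 G} {P Q : Subgroup G} {ι : Type} {V X : ι → Subgroup G} {z : ι → G}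

section
variable [Finite G] (d : ElD S P Q V X z)
include d

theorem X_nor (m : ι) : X m ≤ normalizer (V m : Set G) := by
  intro x hx
  refine mem_norm fun v hv => ?_
  have h1 := mul_mem (d.Xz m x hx v (d.VQ m hv)) hv
  have e : x * v * x⁻¹ * v⁻¹ * v = x * v * x⁻¹ := by group
  rwa [e] at h1

theorem sq {y : G} (hy : y ∈ zc Q) : y * y = 1 := by
  have := zc_sq Q y hy
  rwa [pow_two] at this

/-- `W ∩ C(z m : m) ≤ S` -/
theorem mem_S {o : ι} {w : G} (hw : w ∈ o2 (centralizer ({z o} : Set G))) (h : ∀ m, w * z m = z m * w) :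
    w ∈ (S : Subgroup G) := by
  have hN : (S : Subgroup G) ≤ normalizer (centralizer (Set.range z) : Set G) := by
    intro s hs
    refine nor_centralizer ?_ ?_
    · rintro _ ⟨l, rfl⟩
      obtain ⟨m, hm⟩ := d.zS s hs l
      exact ⟨m, hm.symm⟩
    · rintro _ ⟨l, rfl⟩
      obtain ⟨m, hm⟩ := d.zS s⁻¹ (inv_mem hs) l
      exact ⟨m, by rw [← hm, inv_inv]⟩
  have h1 : centralizer (Set.range z) ≤ centralizer ({z o} : Set G) :=
    centralizer_le (by rintro _ rfl; exact ⟨o, rfl⟩)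
  have h2 : o2 (centralizer ({z o} : Set G)) ⊓ centralizer (Set.range z) ≤ o2 (centralizer (Set.range z)) := by
    refine le_o2 inf_le_right ((o2_isPGroup _).to_le inf_le_left) fun g hg => ?_
    exact nor_inf (le_normalizer_o2 _ (h1 hg)) (le_normalizer hg)
  have h3 : o2 (centralizer (Set.range z)) ≤ S :=
    le_sylow_of_normalized S (o2_isPGroup _) fun s hs => nor_o2 (hN hs)
  refine h3 (h2 ⟨hw, mem_centralizer_iff.2 ?_⟩)
  rintro _ ⟨m, rfl⟩
  exact (h m).symm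

/-- `W ∩ P = C_W(z m : m)` -/
theorem mem_P_iff {o : ι} {w : G} (hw : w ∈ o2 (centralizer ({z o} : Set G))) :
    w ∈ P ↔ ∀ m, w * z m = z m * w := by
  constructor
  · intro h m
    by_cases hm : m = o
    · rw [hm]; exact mem_centralizer_singleton_iff.1 (o2_le _ hw)
    · exact d.h0 o m hm w hw h _ (d.zV m)
  · exact fun h => d.SP (d.mem_S hw h)

/-- **`O₂(C_G(z o)) ≤ S`.** -/
theorem le_S [Finite ι] (o : ι) : o2 (centralizer ({z o} : Set G)) ≤ (S : Subgroup G) := by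
  classical
  have hfact : Fact (Nat.Prime 2) := ⟨Nat.prime_two⟩
  by_contra hWS
  set W := o2 (centralizer ({z o} : Set G)) with hW
  have hW2 : IsPGroup 2 W := o2_isPGroup _
  have hCW : centralizer ({z o} : Set G) ≤ normalizer (W : Set G) := le_normalizer_o2 _
  set K₀ := W ⊓ P with hK₀
  have hK₀z : ∀ w ∈ K₀, ∀ m, w * z m = z m * w := fun w hw => (d.mem_P_iff hw.1).1 hw.2
  have hzK₀ : ∀ w ∈ W, (∀ m, w * z m = z m * w) → w ∈ K₀ := fun w hw h => ⟨hw, (d.mem_P_iff hw).2 h⟩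
  have hK₀V : ∀ m, m ≠ o → ∀ w ∈ K₀, ∀ v ∈ V m, w * v = v * w := fun m hm w hw => d.h0 o m hm w hw.1 hw.2
  have hWP : ¬ W ≤ P := fun h => hWS fun w hw => d.mem_S hw ((d.mem_P_iff hw).1 (h hw))
  -- `Q`
  have hQC : Q ≤ centralizer ({z o} : Set G) := fun g hg =>
    mem_centralizer_singleton_iff.2 ((mem_zc.1 (d.VQ o (d.zV o))).2.1 g hg)
  have hXC : ∀ m, m ≠ o → X m ≤ centralizer ({z o} : Set G) := fun m hm x hx =>
    mem_centralizer_singleton_iff.2 (d.Xc m o (Ne.symm hm) x hx _ (d.zV o))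
  set K := K₀ ⊔ Q with hK
  have hKP : K ≤ P := sup_le inf_le_right d.QP
  obtain ⟨u, huW, huK₀, huK⟩ : ∃ u ∈ W, u ∉ K₀ ∧ u ∈ normalizer (K : Set G) := by
    have hQn : Q ≤ normalizer (W : Set G) := hQC.trans hCW
    have hA : IsPGroup 2 ↥(Q ⊔ W) := d.Q2.to_sup_of_normal_right' hW2 hQn
    obtain ⟨n, hn, hn1, hn2⟩ := exists_normalizer hA (B := K) (sup_le (inf_le_left.trans le_sup_right) le_sup_left)
      fun hle => hWP ((le_sup_right.trans hle).trans hKP)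
    have h1 : n ∈ (Q : Set G) * (W : Set G) := by
      rw [← coe_mul_of_left_le_normalizer_right Q W hQn]
      exact hn
    obtain ⟨q, hq, w, hw, rfl⟩ := h1
    have hq1 : q ∈ K := le_sup_right (a := K₀) hq
    have hw2 : w ∈ normalizer (K : Set G) := by
      have := mul_mem (inv_mem (le_normalizer hq1)) hn2
      simpa using this
    exact ⟨w, hw, fun h => hn1 (mul_mem hq1 (le_sup_left (b := Q) h)), hw2⟩
  set W' := W ⊓ normalizer (K : Set G) with hW'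
  -- `ZK`
  set ZK := zc Q ⊓ centralizer (K₀ : Set G) with hZK
  have hZKc : ∀ y ∈ ZK, ∀ w ∈ K₀, w * y = y * w := fun y hy => mem_centralizer_iff.1 hy.2
  have hVZ : ∀ m, m ≠ o → V m ≤ ZK := fun m hm v hv =>
    ⟨d.VQ m hv, mem_centralizer_iff.2 fun w hw => hK₀V m hm w hw v hv⟩
  have hzZ : ∀ m, z m ∈ ZK := fun m => ⟨d.VQ m (d.zV m), mem_centralizer_iff.2 fun w hw => hK₀z w hw m⟩
  have hW'Z : W' ≤ normalizer (ZK : Set G) := by
    intro w hw
    refine mem_norm fun y hy => ?_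
    have hcK : ∀ g ∈ K, g * y = y * g := by
      have : K ≤ centralizer ({y} : Set G) := sup_le
        (fun g hg => mem_centralizer_singleton_iff.2 (hZKc y hy g hg))
        (fun g hg => mem_centralizer_singleton_iff.2 ((mem_zc.1 hy.1).2.1 g hg))
      exact fun g hg => mem_centralizer_singleton_iff.1 (this hg)
    have hcK' : ∀ g ∈ K, g * (w * y * w⁻¹) = w * y * w⁻¹ * g := by
      intro g hg
      have h1 := hcK (w⁻¹ * g * w) (by
        have := (mem_normalizer_iff.1 (inv_mem hw.2) g).1 hg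
        rwa [inv_inv] at this)
      calc g * (w * y * w⁻¹) = w * (w⁻¹ * g * w * y) * w⁻¹ := by group
        _ = w * (y * (w⁻¹ * g * w)) * w⁻¹ := by rw [h1]
        _ = w * y * w⁻¹ * g := by group
    refine ⟨mem_zc.2 ⟨d.CQ (mem_centralizer_iff.2 fun g hg => hcK' g (le_sup_right (a := K₀) hg)),
      fun g hg => hcK' g (le_sup_right (a := K₀) hg), ?_⟩,
      mem_centralizer_iff.2 fun g hg => hcK' g (le_sup_left (b := Q) hg)⟩
    have h2 := d.sq hy.1
    calc (w * y * w⁻¹) ^ 2 = w * (y * y) * w⁻¹ := by rw [pow_two]; group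
      _ = 1 := by rw [h2]; group
  have hfaith : ∀ w ∈ W', (∀ y ∈ ZK, w * y = y * w) → w ∈ K₀ := fun w hw h => hzK₀ w hw.1 fun m => h _ (hzZ m)
  -- `X m`
  have hXK₀ : ∀ m, m ≠ o → X m ≤ normalizer (K₀ : Set G) := fun m hm x hx =>
    nor_inf (hCW (hXC m hm hx)) (le_normalizer (d.XP m hx))
  have hXQ : ∀ m, X m ≤ normalizer (Q : Set G) := fun m => (d.XP m).trans d.PQ
  have hXZ : ∀ m, m ≠ o → X m ≤ normalizer (ZK : Set G) := fun m hm x hx =>
    nor_inf (normalizer_le_normalizer_zc Q (hXQ m hx)) (nor_cent (hXK₀ m hm hx))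
  have hXK : ∀ m, m ≠ o → X m ≤ normalizer (K : Set G) := by
    intro m hm x hx
    refine mem_norm fun y hy => ?_
    have h1 : K.map (MulAut.conj x).toMonoidHom ≤ K := by
      rw [hK, Subgroup.map_sup]
      refine sup_le_sup ?_ ?_
      · rintro _ ⟨w, hw, rfl⟩
        exact conj_mem (hXK₀ m hm hx) hw
      · rintro _ ⟨w, hw, rfl⟩
        exact conj_mem (hXQ m hx) hw
    exact h1 ⟨y, hy, rfl⟩
  have hXW' : ∀ m, m ≠ o → X m ≤ normalizer (W' : Set G) := fun m hm x hx =>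
    nor_inf (hCW (hXC m hm hx)) (le_normalizer (hXK m hm hx))
  -- the minimal `B`
  obtain ⟨B, ⟨hB₀, hBW, hBn, hXB⟩, hmin⟩ := wellFounded_lt.has_min
    {B : Subgroup G | K₀ ≤ B ∧ B ≤ W' ∧ ¬ B ≤ K₀ ∧ ∀ m, m ≠ o → X m ≤ normalizer (B : Set G)}
    ⟨W', le_inf inf_le_left (le_sup_left.trans le_normalizer), le_rfl, fun h => huK₀ (h ⟨huW, huK⟩), hXW'⟩
  have hmin' : ∀ B' ≤ B, K₀ ≤ B' → (∀ m, m ≠ o → X m ≤ normalizer (B' : Set G)) → B' ≤ K₀ ∨ B ≤ B' := by
    intro B' h1 h2 h3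
    by_contra hcon
    push Not at hcon
    exact hmin B' ⟨h2, h1.trans hBW, hcon.1, h3⟩ (lt_of_le_of_ne h1 fun h => hcon.2 h.ge)
  have hB2 : IsPGroup 2 B := hW2.to_le (hBW.trans inf_le_left)
  have hBZ : B ≤ normalizer (ZK : Set G) := hBW.trans hW'Z
  -- `C₁`, `C₂`
  set C₁ := ZK ⊓ centralizer (B : Set G) with hC₁
  have hXC₁ : ∀ m, m ≠ o → X m ≤ normalizer (C₁ : Set G) := fun m hm x hx =>
    nor_inf (hXZ m hm hx) (nor_cent (hXB m hm hx))
  have hZcomm : ∀ x ∈ ZK, ∀ y ∈ ZK, x * y = y * x := fun x hx y hy => zc_comm Q x hx.1 y hy.1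
  let C₂ : Subgroup G :=
    { carrier := {y | y ∈ ZK ∧ ∀ b ∈ B, b * y * b⁻¹ * y⁻¹ ∈ C₁}
      one_mem' := ⟨one_mem _, fun b _ => by
        have e : b * 1 * b⁻¹ * 1⁻¹ = 1 := by group
        rw [e]; exact one_mem _⟩
      mul_mem' := by
        rintro y y' ⟨hy, hy1⟩ ⟨hy', hy1'⟩
        refine ⟨mul_mem hy hy', fun b hb => ?_⟩
        have h1 := hZcomm y hy _ (hy1' b hb).1
        have e : b * (y * y') * b⁻¹ * (y * y')⁻¹ = (b * y * b⁻¹ * y⁻¹) * (y * (b * y' * b⁻¹ * y'⁻¹) * y⁻¹) := by group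
        rw [e, h1, mul_inv_cancel_right]
        exact mul_mem (hy1 b hb) (hy1' b hb)
      inv_mem' := by
        rintro y ⟨hy, hy1⟩
        have h1 : y⁻¹ = y := inv_eq_of_mul_eq_one_left (d.sq hy.1)
        rw [h1]
        exact ⟨hy, hy1⟩ }
  have hC₂Z : C₂ ≤ ZK := fun y hy => hy.1
  have hC₁₂ : C₁ ≤ C₂ := by
    intro y hy
    refine ⟨hy.1, fun b hb => ?_⟩
    have h1 : b * y = y * b := mem_centralizer_iff.1 hy.2 b hb
    have e : b * y * b⁻¹ * y⁻¹ = 1 := by rw [h1]; group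
    rw [e]; exact one_mem _
  have hXC₂ : ∀ m, m ≠ o → X m ≤ normalizer (C₂ : Set G) := by
    intro m hm x hx
    refine mem_norm ?_
    rintro y ⟨hy, hy1⟩
    refine ⟨conj_mem (hXZ m hm hx) hy, fun b hb => ?_⟩
    have h1 := conj_mem (hXC₁ m hm hx) (hy1 _ (conj_mem' (hXB m hm hx) hb))
    have e : x * (x⁻¹ * b * x * y * (x⁻¹ * b * x)⁻¹ * y⁻¹) * x⁻¹ = b * (x * y * x⁻¹) * b⁻¹ * (x * y * x⁻¹)⁻¹ := by
      group
    rwa [e] at h1
  obtain ⟨y₀, hy₀, hy₀1, hy₀2⟩ := SideOf.exists_fixed_mod (A := C₁) (B := ZK) (T := B)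
    (fun h => hBn fun b hb => hfaith b (hBW hb) fun y hy => mem_centralizer_iff.1 (h hy).2 b hb)
    (fun y hy => mem_norm fun c hc => by
      rw [hZcomm y hy c hc.1, mul_inv_cancel_right]; exact hc)
    (SideOf.isPGroup_of_sq fun y hy => d.sq hy.1) hB2
    (fun b hb => nor_inf (hBZ hb) (nor_cent (le_normalizer hb))) hBZ
  have hy₀C : y₀ ∈ C₂ := ⟨hy₀, hy₀2⟩
  have hVne : ∀ m, V m ≠ ⊥ := fun m h => d.z1 m (by have := d.zV m; rwa [h, mem_bot] at this)
  -- the scalar lemma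
  have hScal : ∀ m, m ≠ o → (∀ x ∈ X m, ∀ b ∈ B, b⁻¹ * (x * b * x⁻¹) ∈ K₀) → V m ≤ C₁ := by
    intro m hm h
    have h' : ∀ x ∈ X m, ∀ b ∈ B, ∃ w ∈ K₀, b * x * b⁻¹ = w * x := by
      intro x hx b hb
      refine ⟨_, h x hx b⁻¹ (inv_mem hb), by group⟩
    let U : Subgroup G :=
      { carrier := {v | v ∈ V m ∧ ∀ b ∈ B, b * v * b⁻¹ ∈ V m}
        one_mem' := ⟨one_mem _, fun b _ => by
          have e : b * 1 * b⁻¹ = 1 := by group
          rw [e]; exact one_mem _⟩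
        mul_mem' := by
          rintro y y' ⟨hy, hy1⟩ ⟨hy', hy1'⟩
          refine ⟨mul_mem hy hy', fun b hb => ?_⟩
          have e : b * (y * y') * b⁻¹ = (b * y * b⁻¹) * (b * y' * b⁻¹) := by group
          rw [e]
          exact mul_mem (hy1 b hb) (hy1' b hb)
        inv_mem' := by
          rintro y ⟨hy, hy1⟩
          have h1 : y⁻¹ = y := inv_eq_of_mul_eq_one_left (d.sq (d.VQ m hy))
          rw [h1]
          exact ⟨hy, hy1⟩ }
    have hUV : U ≤ V m := fun v hv => hv.1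
    have hXU : X m ≤ normalizer (U : Set G) := by
      intro x hx
      refine mem_norm ?_
      rintro v ⟨hv, hv1⟩
      refine ⟨conj_mem (d.X_nor m hx) hv, fun b hb => ?_⟩
      obtain ⟨w, hw, e⟩ := h' x hx b hb
      have h1 : x * (b * v * b⁻¹) * x⁻¹ ∈ V m := conj_mem (d.X_nor m hx) (hv1 b hb)
      have h2 := hK₀V m hm w hw _ h1
      have e2 : b * (x * v * x⁻¹) * b⁻¹ = (b * x * b⁻¹) * (b * v * b⁻¹) * (b * x * b⁻¹)⁻¹ := by group
      have e3 : w * x * (b * v * b⁻¹) * (w * x)⁻¹ = w * (x * (b * v * b⁻¹) * x⁻¹) * w⁻¹ := by group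
      rw [e2, e, e3, h2, mul_inv_cancel_right]
      exact h1
    have hU1 : U ≠ ⊥ := by
      obtain ⟨x, hx, v, hv, hxv⟩ := d.mov m
      have h1 : x * v * x⁻¹ * v⁻¹ ∈ U := by
        refine ⟨d.Xz m x hx v (d.VQ m hv), fun b hb => ?_⟩
        obtain ⟨w, hw, e⟩ := h' x hx b hb
        have hy : b * v * b⁻¹ ∈ ZK := conj_mem (hBZ hb) (hVZ m hm hv)
        have h1 := hZKc _ (conj_mem (hXZ m hm hx) hy) w hw
        have e2 : b * (x * v * x⁻¹ * v⁻¹) * b⁻¹ = (b * x * b⁻¹) * (b * v * b⁻¹) * (b * x * b⁻¹)⁻¹ * (b * v * b⁻¹)⁻¹ := by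
          group
        have e3 : w * x * (b * v * b⁻¹) * (w * x)⁻¹ = w * (x * (b * v * b⁻¹) * x⁻¹) * w⁻¹ := by group
        rw [e2, e, e3, h1, mul_inv_cancel_right]
        exact d.Xz m x hx _ hy.1
      intro h0
      rw [h0, mem_bot] at h1
      apply hxv
      calc x * v = (x * v * x⁻¹ * v⁻¹) * (v * x) := by group
        _ = v * x := by rw [h1, one_mul]
    have hVU := d.irr m U hUV hU1 hXU
    have hBV : B ≤ normalizer (V m : Set G) := fun b hb => mem_norm fun v hv => (hVU hv).2 b hb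
    obtain ⟨v, hv, hv1, hv2⟩ := Half.exists_fixed (V := V m) (T := B)
      (SideOf.isPGroup_of_sq fun y hy => d.sq (d.VQ m hy)) (hVne m) hB2 hBV
    have h1 : v ∈ V m ⊓ C₁ := ⟨hv, hVZ m hm hv, mem_centralizer_iff.2 fun b hb => comm_iff.2 (hv2 b hb)⟩
    have h2 := d.irr m (V m ⊓ C₁) inf_le_left (fun h0 => hv1 (by rwa [h0, mem_bot] at h1))
      (fun x hx => nor_inf (d.X_nor m hx) (hXC₁ m hm hx))
    exact h2.trans inf_le_right
  -- `X m` centralises `C₁` if `V m` is not in `C₁`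
  have hcen : ∀ m, m ≠ o → ∀ C : Subgroup G, C ≤ ZK → X m ≤ normalizer (C : Set G) → ¬ V m ≤ C →
      ∀ x ∈ X m, ∀ c ∈ C, x * c = c * x := by
    intro m hm C hCZ hXC' hV x hx c hc
    have h0 : V m ⊓ C = ⊥ := by
      by_contra hne
      exact hV ((d.irr m _ inf_le_left hne fun x hx => nor_inf (d.X_nor m hx) (hXC' hx)).trans inf_le_right)
    have h1 : x * c * x⁻¹ * c⁻¹ ∈ V m ⊓ C :=
      mem_inf.2 ⟨d.Xz m x hx c (hCZ hc).1, mul_mem (conj_mem (hXC' hx) hc) (C.inv_mem hc)⟩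
    rw [h0, mem_bot] at h1
    calc x * c = (x * c * x⁻¹ * c⁻¹) * (c * x) := by group
      _ = c * x := by rw [h1, one_mul]
  have hcomm : ∀ x, (∀ c ∈ C₁, x * c = c * x) → ∀ y ∈ C₂, x * y = y * x → ∀ b ∈ B,
      b⁻¹ * (x * b * x⁻¹) * y = y * (b⁻¹ * (x * b * x⁻¹)) := by
    intro x hx y hy hxy b hb
    have h1 := hx _ (hy.2 b hb)
    have h2 : x * (b * y * b⁻¹) = b * y * b⁻¹ * x := by
      calc x * (b * y * b⁻¹) = x * (b * y * b⁻¹ * y⁻¹) * y := by group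
        _ = (b * y * b⁻¹ * y⁻¹) * (x * y) := by rw [h1]; group
        _ = b * y * b⁻¹ * x := by rw [hxy]; group
    have h3 : x⁻¹ * y = y * x⁻¹ := by
      calc x⁻¹ * y = x⁻¹ * (y * x) * x⁻¹ := by group
        _ = y * x⁻¹ := by rw [← hxy]; group
    calc b⁻¹ * (x * b * x⁻¹) * y = b⁻¹ * x * b * (x⁻¹ * y) := by group
      _ = b⁻¹ * (x * (b * y * b⁻¹)) * b * x⁻¹ := by rw [h3]; group
      _ = y * (b⁻¹ * (x * b * x⁻¹)) := by rw [h2]; group
  have hxb : ∀ m, m ≠ o → ∀ x ∈ X m, ∀ b ∈ B, b⁻¹ * (x * b * x⁻¹) ∈ B := fun m hm x hx b hb =>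
    mul_mem (inv_mem hb) (conj_mem (hXB m hm hx) hb)
  -- some `V m` is not in `C₁`
  obtain ⟨m, hm, hVm⟩ : ∃ m, m ≠ o ∧ ¬ V m ≤ C₁ := by
    by_contra hcon
    push Not at hcon
    refine hBn fun b hb => hzK₀ b (hBW hb).1 fun m => ?_
    by_cases hm : m = o
    · rw [hm]; exact mem_centralizer_singleton_iff.1 (o2_le _ (hBW hb).1)
    · exact mem_centralizer_iff.1 (hcon m hm (d.zV m)).2 b hb
  have hVm₂ : V m ≤ C₂ := by
    by_contra hV
    have h1 := hcen m hm C₂ hC₂Z (hXC₂ m hm) hV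
    rcases hmin' (B ⊓ centralizer (C₂ : Set G)) inf_le_left
      (le_inf hB₀ fun w hw => mem_centralizer_iff.2 fun y hy => (hZKc y (hC₂Z hy) w hw).symm)
      (fun l hl x hx => nor_inf (hXB l hl hx) (nor_cent (hXC₂ l hl hx))) with h2 | h2
    · refine hVm (hScal m hm fun x hx b hb => h2 ⟨hxb m hm x hx b hb, mem_centralizer_iff.2 fun y hy => ?_⟩)
      exact (hcomm x (fun c hc => h1 x hx c (hC₁₂ hc)) y hy (h1 x hx y hy) b hb).symm
    · exact hy₀1 ⟨hy₀, mem_centralizer_iff.2 fun b hb => (mem_centralizer_iff.1 (h2 hb).2 y₀ hy₀C).symm⟩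
  have hall : ∀ n, n ≠ o → n ≠ m → V n ≤ C₁ := by
    intro n hn hnm
    by_contra hV
    have h1 := hcen n hn C₁ inf_le_left (hXC₁ n hn) hV
    rcases hmin' (B ⊓ centralizer (V m : Set G)) inf_le_left
      (le_inf hB₀ fun w hw => mem_centralizer_iff.2 fun y hy => (hK₀V m hm w hw y hy).symm)
      (fun l hl x hx => nor_inf (hXB l hl hx) (nor_cent (by
        by_cases hlm : l = m
        · rw [← hlm]; exact d.X_nor l hx
        · exact mem_norm fun v hv => by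
            rw [d.Xc l m (Ne.symm hlm) x hx v hv, mul_inv_cancel_right]; exact hv))) with h2 | h2
    · refine hV (hScal n hn fun x hx b hb => h2 ⟨hxb n hn x hx b hb, mem_centralizer_iff.2 fun y hy => ?_⟩)
      exact (hcomm x (fun c hc => h1 x hx c hc) y (hVm₂ hy) (d.Xc n m (Ne.symm hnm) x hx y hy) b hb).symm
    · exact hVm fun v hv => ⟨hVZ m hm hv, mem_centralizer_iff.2 fun b hb =>
        (mem_centralizer_iff.1 (h2 hb).2 v hv).symm⟩
  -- the count
  have hBz : ∀ l, l ≠ m → ∀ b ∈ B, b * z l = z l * b := by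
    intro l hl b hb
    by_cases hlo : l = o
    · rw [hlo]; exact mem_centralizer_singleton_iff.1 (o2_le _ (hBW hb).1)
    · exact mem_centralizer_iff.1 (hall l hlo hl (d.zV l)).2 b hb
  have hBK : centralizer ({z m} : Set G) ⊓ B = K₀ := by
    ext b
    constructor
    · rintro ⟨h1, h2⟩
      refine hzK₀ b (hBW h2).1 fun l => ?_
      by_cases hl : l = m
      · rw [hl]; exact mem_centralizer_singleton_iff.1 h1
      · exact hBz l hl b h2
    · exact fun h => ⟨mem_centralizer_singleton_iff.2 (hK₀z b h m), hB₀ h⟩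
  have hr : (centralizer ({z m} : Set G)).relIndex B = K₀.relIndex B := by
    rw [← hBK, inf_relIndex_right]
  have h4 : 4 ≤ K₀.relIndex B := by
    obtain ⟨n, hn⟩ := IsPGroup.iff_card.1 hB2
    have h1 : K₀.relIndex B ∣ 2 ^ n := by
      rw [← hn]
      exact (K₀.subgroupOf B).index_dvd_card
    obtain ⟨j, -, hj⟩ := (Nat.dvd_prime_pow Nat.prime_two).1 h1
    rw [hj]
    have h2 : j ≠ 0 := by
      rintro rfl
      rw [pow_zero, relIndex_eq_one] at hj
      exact hBn hj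
    have h3 : j ≠ 1 := by
      rintro rfl
      rw [pow_one] at hj
      refine hVm (hScal m hm fun x hx b hb => ?_)
      have h5 : (K₀.subgroupOf B).index = 2 := hj
      have h6 := Subgroup.mul_mem_iff_of_index_two h5 (a := ⟨b⁻¹, inv_mem hb⟩) (b := ⟨x * b * x⁻¹, conj_mem (hXB m hm hx) hb⟩)
      have h7 : b⁻¹ * (x * b * x⁻¹) ∈ K₀ ↔ (b⁻¹ ∈ K₀ ↔ x * b * x⁻¹ ∈ K₀) := h6
      rw [h7, K₀.inv_mem_iff]
      exact mem_normalizer_iff.1 (hXK₀ m hm hx) b
    calc 4 = 2 ^ 2 := rfl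
      _ ≤ 2 ^ j := Nat.pow_le_pow_right (by norm_num) (by omega)
  refine count S z d.zinj d.zS d.ztr o B {m} (by simpa using Ne.symm hm) (Or.inl (Finset.card_singleton m))
    (hBW.trans inf_le_left) (fun l hl b hb => ?_) (fun j hj => ?_)
  · exact mem_centralizer_singleton_iff.2 (hBz l (by simpa using hl) b hb)
  · rw [Finset.mem_singleton] at hj
    rw [hj, Finset.card_singleton, pow_one, hr]
    exact h4

end

end ElD

end Cfsg.Agent.Omega.IId.CEl

end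

-- merged: Cfsg.Agent.Mrg.Omega.MixOne.OrbitS
section

section


/-!
# THEOREM MIX-K (helper932): mixed pairs, a Sylow 2-subgroup of `N_G(R)` normalises one of the two lines

`s : SideW V R B C` : the situation at the line `V` (points `R i`); `I i = B i ⊓ YY (B i) (C i)`,
`B₀ = ⨅ B k`, `D = ⨅ YY (B k) (C k)`.

* `SideW.inf_le` : `T` a 2-group of odd index in `N(R o)`, `b ∈ B o` moves `V`, `[b, T] ≤ R o` :
  `B j ⊓ YY (B j) (C j) ≤ R j B₀` for `j ≠ o`, hence for `j = o`;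
* `SideW.Y_le` : `YY (B o) (C o) ≤ R o D`;
* `SideW.exists_ne` : every `A ≤ YY (B o) (C o)` with `|R o| < |A|` meets `D`;
* `SideW.false_of` : the contradiction from `R o ≤ O₂(C(z))`, `O₂(C(z)) ≤ C(v)`, `v` moves `V`, for the `z ∈ A#`.
-/

set_option autoImplicit false

namespace Cfsg.Agent.Omega.MixOne

open Subgroup Cfsg.Agent.Omega.BTwo Cfsg.Agent.Omega.Mix

namespace OrbitS

variable {G : Type*} [Group G] [Finite G]

/-- `T` a 2-group of odd index in `H`, `O` normal in `H`, `I ≤ O` a 2-group: `I^g ≤ T` for some `g ∈ O` -/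
theorem exists_conj {H T O I : Subgroup G} (hT : IsPGroup 2 T) (hs : ¬ 2 ∣ T.relIndex H)
    (hO : O ≤ H) (hn : H ≤ normalizer (O : Set G)) (hIO : I ≤ O) (hI : IsPGroup 2 I) :
    ∃ g ∈ O, ∀ u ∈ I, g * u * g⁻¹ ∈ T := by
  have : Fact (Nat.Prime 2) := ⟨Nat.prime_two⟩
  have hT' : IsPGroup 2 (T.subgroupOf H) := hT.comap_of_injective _ H.subtype_injective
  have : (O.subgroupOf H).Normal := normal_subgroupOf_of_le_normalizer hn
  have h1 := Lib.SylowNormalInf.not_dvd_relIndex (hT'.toSylow hs) (O.subgroupOf H)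
  have h2 : (((hT'.toSylow hs : Sylow 2 H) : Subgroup H)).relIndex (O.subgroupOf H) = T.relIndex O := by
    change (T.subgroupOf H).relIndex (O.subgroupOf H) = T.relIndex O
    rw [Subgroup.relIndex_subgroupOf hO]
  rw [h2] at h1
  have hI' : IsPGroup 2 (I.subgroupOf O) := hI.comap_subtype
  obtain ⟨S2, hS2⟩ := hI'.exists_le_sylow
  obtain ⟨c, hc⟩ := MulAction.exists_smul_eq O S2
    ((hT.comap_of_injective _ O.subtype_injective).toSylow h1)
  refine ⟨c, c.2, fun x hx => ?_⟩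
  have h3 : (⟨x, hIO hx⟩ : O) ∈ (S2 : Subgroup O) := hS2 (Subgroup.mem_subgroupOf.mpr hx)
  have h4 : c * ⟨x, hIO hx⟩ * c⁻¹ ∈ ((c • S2 : Sylow 2 O) : Subgroup O) := by
    rw [Sylow.coe_subgroup_smul]
    exact Subgroup.smul_mem_pointwise_smul _ (MulAut.conj c) _ h3
  rw [hc] at h4
  exact mem_subgroupOf.1 h4

end OrbitS

namespace SideW

variable {G : Type*} [Group G] [Finite G] {ι : Type*} {V : Subgroup G} {R B C : ι → Subgroup G}
  (s : SideW V R B C)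
include s

/-- `I j ≤ R j B₀`, `j ≠ o` -/
theorem inf_le_of_ne {T : Subgroup G} {o j : ι} (hj : j ≠ o) (hT : IsPGroup 2 T)
    (hTR : ¬ 2 ∣ T.relIndex (normalizer (R o : Set G))) {b : G} (hb : b ∈ B o)
    (hbV : ¬ ∀ v ∈ V, b * v = v * b) (hbT : ∀ t ∈ T, b * t * b⁻¹ * t⁻¹ ∈ R o) {u : G} (hu : u ∈ B j)
    (huY : u ∈ YY (B j) (C j)) : ∃ r ∈ R j, ∃ x ∈ ⨅ k, B k, u = r * x := by
  obtain ⟨H, hH⟩ : ∃ H, H = normalizer (R o : Set G) := ⟨_, rfl⟩
  obtain ⟨K, hK⟩ : ∃ K, K = B o ⊓ YY (B o) (C o) := ⟨_, rfl⟩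
  have hHB : ∀ g ∈ H, ∀ w ∈ B o, g * w * g⁻¹ ∈ B o := fun g hg w hw =>
    conj_mem_of_normalizer (s.nB o (hH ▸ hg)) hw
  have hHK : ∀ g ∈ H, ∀ w ∈ K, g * w * g⁻¹ ∈ K := fun g hg w hw => by
    rw [hK] at hw ⊢
    exact ⟨hHB g hg w hw.1, conj_mem_of_normalizer (s.nY o (hH ▸ hg)) hw.2⟩
  -- `O` : the elements of `H` acting trivially on `B o / K`
  let O : Subgroup G :=
    { carrier := {g | g ∈ H ∧ ∀ w ∈ B o, g * w * g⁻¹ * w⁻¹ ∈ K}
      one_mem' := ⟨one_mem _, fun w _ => by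
        have e : (1 : G) * w * 1⁻¹ * w⁻¹ = 1 := by group
        rw [e]; exact one_mem _⟩
      mul_mem' := by
        rintro g h ⟨hg, hg1⟩ ⟨hh, hh1⟩
        refine ⟨mul_mem hg hh, fun w hw => ?_⟩
        have e : g * h * w * (g * h)⁻¹ * w⁻¹ =
            (g * (h * w * h⁻¹ * w⁻¹) * g⁻¹) * (g * w * g⁻¹ * w⁻¹) := by group
        rw [e]
        exact mul_mem (hHK g hg _ (hh1 w hw)) (hg1 w hw)
      inv_mem' := by
        rintro g ⟨hg, hg1⟩
        refine ⟨inv_mem hg, fun w hw => ?_⟩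
        have h1 := inv_mem (hHK g⁻¹ (inv_mem hg) _ (hg1 w hw))
        have e : (g⁻¹ * (g * w * g⁻¹ * w⁻¹) * g⁻¹⁻¹)⁻¹ = g⁻¹ * w * g⁻¹⁻¹ * w⁻¹ := by group
        rwa [e] at h1 }
  have hOH : O ≤ H := fun g hg => hg.1
  have hn : H ≤ normalizer (O : Set G) := by
    have key : ∀ h ∈ H, ∀ g ∈ O, h * g * h⁻¹ ∈ O := by
      rintro h hh g ⟨hg, hg1⟩
      refine ⟨mul_mem (mul_mem hh hg) (inv_mem hh), fun w hw => ?_⟩
      have h1 : h⁻¹ * w * h ∈ B o := by
        have := hHB h⁻¹ (inv_mem hh) w hw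
        rwa [inv_inv] at this
      have h2 := hHK h hh _ (hg1 _ h1)
      have e : h * (g * (h⁻¹ * w * h) * g⁻¹ * (h⁻¹ * w * h)⁻¹) * h⁻¹ =
          h * g * h⁻¹ * w * (h * g * h⁻¹)⁻¹ * w⁻¹ := by group
      rwa [e] at h2
    intro h hh
    rw [mem_normalizer_iff]
    intro g
    refine ⟨key h hh g, fun hg => ?_⟩
    have h1 := key h⁻¹ (inv_mem hh) _ hg
    have e : h⁻¹ * (h * g * h⁻¹) * h⁻¹⁻¹ = g := by group
    rwa [e] at h1
  -- `I j ≤ O`
  obtain ⟨I, hI⟩ : ∃ I, I = B j ⊓ YY (B j) (C j) := ⟨_, rfl⟩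
  have hIO : I ≤ O := by
    intro x hx
    rw [hI] at hx
    have hxH : x ∈ H := by
      rw [hH]; exact s.cV_le_NR (s.Y_V hx.2) o
    refine ⟨hxH, fun w hw => ?_⟩
    have h1 : x * w * x⁻¹ * w⁻¹ ∈ B o := mul_mem (hHB x hxH w hw) (inv_mem hw)
    have h2 := inv_mem (s.comm_B_Y hw hx.2)
    have e : (w * x * w⁻¹ * x⁻¹)⁻¹ = x * w * x⁻¹ * w⁻¹ := by group
    rw [e] at h2
    rw [hK]
    exact ⟨h1, h2⟩
  have hI2 : IsPGroup 2 I := by
    intro x
    refine ⟨1, ?_⟩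
    rw [pow_one, pow_two]
    have hIB : I ≤ B j := by rw [hI]; exact inf_le_left
    exact Subtype.ext (s.B_sq j x (hIB x.2))
  rw [← hH] at hTR
  obtain ⟨g, hg, hgT⟩ := OrbitS.exists_conj hT hTR hOH hn hIO hI2
  -- `b' = g⁻¹ b g`
  have hgH : g ∈ H := hOH hg
  have hb'B : g⁻¹ * b * g ∈ B o := by
    have := hHB g⁻¹ (inv_mem hgH) b hb
    rwa [inv_inv] at this
  have hb'K : g⁻¹ * b * g * b⁻¹ ∈ K := by
    have := (inv_mem hg).2 b hb
    rwa [inv_inv] at this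
  have hb'V : ¬ ∀ v ∈ V, g⁻¹ * b * g * v = v * (g⁻¹ * b * g) := by
    intro hall
    apply hbV
    intro v hv
    rw [hK] at hb'K
    have h1 := s.Y_V hb'K.2 v hv
    have h2 := hall v hv
    have e : b = (g⁻¹ * b * g * b⁻¹)⁻¹ * (g⁻¹ * b * g) := by group
    have h3 : (g⁻¹ * b * g * b⁻¹)⁻¹ * v = v * (g⁻¹ * b * g * b⁻¹)⁻¹ := by
      rw [inv_mul_eq_iff_eq_mul, ← mul_assoc, h1, mul_inv_cancel_right]
    calc b * v = (g⁻¹ * b * g * b⁻¹)⁻¹ * (g⁻¹ * b * g) * v := by rw [← e]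
      _ = (g⁻¹ * b * g * b⁻¹)⁻¹ * (g⁻¹ * b * g * v) := by group
      _ = (g⁻¹ * b * g * b⁻¹)⁻¹ * v * (g⁻¹ * b * g) := by rw [h2]; group
      _ = v * ((g⁻¹ * b * g * b⁻¹)⁻¹ * (g⁻¹ * b * g)) := by rw [h3]; group
      _ = v * b := by rw [← e]
  refine s.mem_R_of_comm (Ne.symm hj) hb'B hb'V hu ?_
  have hu' := hgT u (by rw [hI]; exact ⟨hu, huY⟩)
  have h1 := hbT _ hu'
  have hgN : g⁻¹ ∈ normalizer (R o : Set G) := by rw [← hH]; exact inv_mem hgH
  have h2 := conj_mem_of_normalizer hgN h1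
  have e : g⁻¹ * (b * (g * u * g⁻¹) * b⁻¹ * (g * u * g⁻¹)⁻¹) * g⁻¹⁻¹ =
      g⁻¹ * b * g * u * (g⁻¹ * b * g)⁻¹ * u⁻¹ := by group
  rwa [e] at h2

/-- `I o ≤ R o B₀` -/
theorem inf_le_self {T : Subgroup G} {o : ι} (hT : IsPGroup 2 T)
    (hTR : ¬ 2 ∣ T.relIndex (normalizer (R o : Set G))) {b : G} (hb : b ∈ B o)
    (hbV : ¬ ∀ v ∈ V, b * v = v * b) (hbT : ∀ t ∈ T, b * t * b⁻¹ * t⁻¹ ∈ R o) {u : G} (hu : u ∈ B o)
    (huY : u ∈ YY (B o) (C o)) : ∃ r ∈ R o, ∃ x ∈ ⨅ k, B k, u = r * x := by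
  obtain ⟨j, hj, -⟩ := s.third o o
  obtain ⟨m, -, -, x, hx, e⟩ := s.trans_B o j
  have hxN : x ∈ normalizer (V : Set G) := s.B_NV m hx
  have h1 : x * u * x⁻¹ ∈ B j := by rw [← s.cB x o j e]; exact conj_mem_cj hu
  have h2 : x * u * x⁻¹ ∈ YY (B j) (C j) := by rw [← s.cY e]; exact conj_mem_cj huY
  obtain ⟨r, hr, y, hy, h3⟩ := s.inf_le_of_ne hj hT hTR hb hbV hbT h1 h2
  refine ⟨x⁻¹ * r * x, ?_, y, hy, ?_⟩
  · rw [← e, mem_cj] at hr
    exact hr
  · have hyx : x * y = y * x := s.B0_comm hy m x hx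
    calc u = x⁻¹ * (x * u * x⁻¹) * x := by group
      _ = x⁻¹ * r * (y * x) := by rw [h3]; group
      _ = x⁻¹ * r * x * y := by rw [← hyx]; group

/-- `Y o ≤ R o D` -/
theorem Y_le {T : Subgroup G} {o : ι} (hT : IsPGroup 2 T)
    (hTR : ¬ 2 ∣ T.relIndex (normalizer (R o : Set G))) {b : G} (hb : b ∈ B o)
    (hbV : ¬ ∀ v ∈ V, b * v = v * b) (hbT : ∀ t ∈ T, b * t * b⁻¹ * t⁻¹ ∈ R o) {y : G}
    (hy : y ∈ YY (B o) (C o)) : ∃ r ∈ R o, ∃ d ∈ ⨅ k, YY (B k) (C k), y = r * d := by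
  obtain ⟨u, hu, huY, d, hd, rfl⟩ := s.exists_D hy
  obtain ⟨r, hr, x, hx, rfl⟩ := s.inf_le_self hT hTR hb hbV hbT (TT_le _ _ hu) huY
  exact ⟨r, hr, x * d, mul_mem (s.B0_le_D hx) hd, by rw [mul_assoc]⟩

/-- `A ≤ Y o` with `|R o| < |A|` meets `D` -/
theorem exists_ne {T : Subgroup G} {o : ι} (hT : IsPGroup 2 T)
    (hTR : ¬ 2 ∣ T.relIndex (normalizer (R o : Set G))) {b : G} (hb : b ∈ B o)
    (hbV : ¬ ∀ v ∈ V, b * v = v * b) (hbT : ∀ t ∈ T, b * t * b⁻¹ * t⁻¹ ∈ R o) {A : Subgroup G}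
    (hA : A ≤ YY (B o) (C o)) (hcard : Nat.card (R o) < Nat.card A) :
    ∃ z ∈ A, z ≠ 1 ∧ z ∈ ⨅ k, YY (B k) (C k) := by
  classical
  have key : ∀ a : A, ∃ r : R o, ∃ d ∈ ⨅ k, YY (B k) (C k), (a : G) = r * d := fun a => by
    obtain ⟨r, hr, d, hd, e⟩ := s.Y_le hT hTR hb hbV hbT (hA a.2)
    exact ⟨⟨r, hr⟩, d, hd, e⟩
  choose f hf using key
  have hni : ¬ Function.Injective f := fun hi => by
    have := Nat.card_le_card_of_injective f hi
    omega
  rw [Function.Injective] at hni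
  push Not at hni
  obtain ⟨x, y, hxy, hne⟩ := hni
  obtain ⟨d, hd, e1⟩ := hf x
  obtain ⟨d', hd', e2⟩ := hf y
  refine ⟨(x : G)⁻¹ * y, mul_mem (inv_mem x.2) y.2, fun h => hne ?_, ?_⟩
  · exact Subtype.ext (inv_mul_eq_one.1 h)
  · have e3 : (x : G)⁻¹ * y = d⁻¹ * d' := by
      rw [e1, e2, hxy]; group
    rw [e3]
    exact mul_mem (inv_mem hd) hd'

/-- **THEOREM MIX-K** -/
theorem false_of {T : Subgroup G} {o : ι} (hT : IsPGroup 2 T)
    (hTR : ¬ 2 ∣ T.relIndex (normalizer (R o : Set G))) {b : G} (hb : b ∈ B o)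
    (hbV : ¬ ∀ v ∈ V, b * v = v * b) (hbT : ∀ t ∈ T, b * t * b⁻¹ * t⁻¹ ∈ R o) {A : Subgroup G}
    (hA : A ≤ YY (B o) (C o)) (hcard : Nat.card (R o) < Nat.card A)
    (hV : V ≤ ⨆ i, R i) {v : G} (hv : ¬ ∀ x ∈ V, v * x = x * v)
    (hz : ∀ z ∈ A, z ≠ 1 → R o ≤ O2 (centralizer ({z} : Set G)) ∧
      ∀ x ∈ O2 (centralizer ({z} : Set G)), v * x = x * v) : False := by
  obtain ⟨z, hzA, hz1, hzD⟩ := s.exists_ne hT hTR hb hbV hbT hA hcard
  obtain ⟨h1, h2⟩ := hz z hzA hz1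
  have hBz : ∀ k, B k ≤ centralizer ({z} : Set G) := fun k x hx => by
    rw [mem_centralizer_singleton_iff]
    exact (D_comm hzD k x hx).symm
  apply hv
  have h3 : V ≤ O2 (centralizer ({z} : Set G)) := by
    refine hV.trans (iSup_le fun i => ?_)
    obtain ⟨m, -, -, x, hx, e⟩ := s.trans_B o i
    rw [← e]
    have h4 := cj_mono (g := x) h1
    rwa [cj_eq_self_iff.2 (le_normalizer_O2 _ (hBz m hx))] at h4
  exact fun x hx => h2 x (h3 hx)

end SideW

end Cfsg.Agent.Omega.MixOne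

end

section


/-!
# LEMMA ONE (helper19, bb OMEGA #23393): the abstract part

`s : SideW V R B C`, `T` a 2-group of odd index in `N_G(R o)`, `b ∈ B o` moves `V`, `[b, T] ≤ R o`.

* `SideW.mem_D_of_tor` : `d ∈ C(B o C o) ∩ C(T)`; `⟨B k⟩ ∩ N(R o)` and `C(d) ∩ N(R o)` are transitive on `R o - 1`, `|R o| > 2`.
  Then `d` commutes with all `B k`, `C k`.
-/

set_option autoImplicit false

namespace Cfsg.Agent.Omega.MixOne.SideW

open Subgroup Cfsg.Agent.Omega.BTwo Cfsg.Agent.Omega.Mix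

variable {G : Type*} [Group G] [Finite G] {ι : Type*} {V : Subgroup G} {R B C : ι → Subgroup G}
  (s : SideW V R B C)
include s

/-- **LEMMA ONE, (1), (2)**: `d ∈ Y o = R o D` lies in `D`. -/
theorem mem_D_of_tor {T : Subgroup G} {o : ι} (hT : IsPGroup 2 T) (hTN : T ≤ normalizer (R o : Set G))
    (hTR : ¬ 2 ∣ T.relIndex (normalizer (R o : Set G))) {b : G} (hb : b ∈ B o)
    (hbV : ¬ ∀ v ∈ V, b * v = v * b) (hbT : ∀ t ∈ T, b * t * b⁻¹ * t⁻¹ ∈ R o) (h3 : 2 < Nat.card (R o))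
    (h2 : 2 ∣ Nat.card (R o))
    (tor : ∀ r ∈ R o, r ≠ 1 → ∀ r' ∈ R o, r' ≠ 1 →
      ∃ x ∈ ⨆ k, B k, x ∈ normalizer (R o : Set G) ∧ x * r * x⁻¹ = r') {d : G}
    (hd : d ∈ YY (B o) (C o)) (hTd : ∀ t ∈ T, t * d = d * t)
    (tor' : ∀ r ∈ R o, r ≠ 1 → ∀ r' ∈ R o, r' ≠ 1 →
      ∃ t, t * d = d * t ∧ t ∈ normalizer (R o : Set G) ∧ t * r * t⁻¹ = r') :
    d ∈ ⨅ k, YY (B k) (C k) := by
  obtain ⟨r, hr, e, he, hde⟩ := s.Y_le hT hTR hb hbV hbT hd
  by_cases hr1 : r = 1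
  · rw [hde, hr1, one_mul]; exact he
  exfalso
  have heX : ∀ x ∈ ⨆ k, B k, x * e = e * x := by
    have h1 : ⨆ k, B k ≤ centralizer ({e} : Set G) := iSup_le fun k x hx => by
      rw [mem_centralizer_singleton_iff]
      exact (D_comm he k x hx).symm
    exact fun x hx => mem_centralizer_singleton_iff.1 (h1 hx)
  have hRc : ∀ x ∈ R o, ∀ y ∈ R o, x * y = y * x := fun x hx y hy =>
    s.B_comm o x (s.R_B o hx) y (s.R_B o hy)
  have hRs : ∀ x ∈ R o, x * x = 1 := fun x hx => s.B_sq o x (s.R_B o hx)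
  have hN : ∀ {g x : G}, g ∈ normalizer (R o : Set G) → x ∈ R o → g * x * g⁻¹ ∈ R o := fun {g x} hg hx =>
    (mem_normalizer_iff.1 hg x).1 hx
  -- `Γ`
  let Γ : Subgroup G :=
    { carrier := {g | g ∈ normalizer (R o : Set G) ∧ g * d * g⁻¹ * d⁻¹ ∈ R o}
      one_mem' := ⟨one_mem _, by
        have e1 : (1 : G) * d * 1⁻¹ * d⁻¹ = 1 := by group
        rw [e1]; exact one_mem _⟩
      mul_mem' := by
        rintro g h ⟨hg, hg1⟩ ⟨hh, hh1⟩
        refine ⟨mul_mem hg hh, ?_⟩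
        have e1 : g * h * d * (g * h)⁻¹ * d⁻¹ = g * (h * d * h⁻¹ * d⁻¹) * g⁻¹ * (g * d * g⁻¹ * d⁻¹) := by group
        rw [e1]
        exact mul_mem (hN hg hh1) hg1
      inv_mem' := by
        rintro g ⟨hg, hg1⟩
        refine ⟨inv_mem hg, ?_⟩
        have h1 := hN (inv_mem hg) (inv_mem hg1)
        have e1 : g⁻¹ * (g * d * g⁻¹ * d⁻¹)⁻¹ * g⁻¹⁻¹ = g⁻¹ * d * g⁻¹⁻¹ * d⁻¹ := by group
        rwa [e1] at h1 }
  have hΓN : Γ ≤ normalizer (R o : Set G) := fun g hg => hg.1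
  -- `Γ` is transitive on `R o * d`
  have hx1 : ∀ r₁ ∈ R o, r₁ ≠ r → ∃ g ∈ Γ, g * d * g⁻¹ = r₁ * d := by
    intro r₁ hr₁ hne
    have h1 : r₁ * r ≠ 1 := by
      intro h
      apply hne
      calc r₁ = r₁ * (r * r) := by rw [hRs r hr, mul_one]
        _ = r₁ * r * r := by group
        _ = r := by rw [h, one_mul]
    obtain ⟨x, hx, hxN, hxr⟩ := tor r hr hr1 _ (mul_mem hr₁ hr) h1
    have h2 : x * d * x⁻¹ = r₁ * d := by
      calc x * d * x⁻¹ = x * r * x⁻¹ * (x * e * x⁻¹) := by rw [hde]; group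
        _ = r₁ * r * e := by rw [hxr, heX x hx, mul_inv_cancel_right]
        _ = r₁ * d := by rw [hde]; group
    refine ⟨x, ⟨hxN, ?_⟩, h2⟩
    rw [h2, mul_inv_cancel_right]
    exact hr₁
  have htr : ∀ r₁ ∈ R o, ∃ g ∈ Γ, g * d * g⁻¹ = r₁ * d := by
    intro r₁ hr₁
    by_cases hne : r₁ = r
    · -- another element of `R o`
      obtain ⟨r₂, hr₂, hr₂1, hr₂r⟩ : ∃ r₂ ∈ R o, r₂ ≠ 1 ∧ r₂ ≠ r := by
        by_contra hcon
        push Not at hcon
        have h4 : (R o : Set G) ⊆ {1, r} := by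
          intro x hx
          by_cases hx1 : x = 1
          · left; exact hx1
          · right; exact hcon x hx hx1
        have h5 := Set.ncard_le_ncard h4 (Set.toFinite _)
        rw [← Nat.card_coe_set_eq] at h5
        have h6 : ({1, r} : Set G).ncard ≤ 2 := Set.ncard_insert_le _ _ |>.trans (by rw [Set.ncard_singleton])
        have h7 : Nat.card (R o : Set G) = Nat.card (R o) := rfl
        omega
      obtain ⟨g, hg, hgd⟩ := hx1 r₂ hr₂ hr₂r
      obtain ⟨t, htd, htN, htr⟩ := tor' r₂ hr₂ hr₂1 r hr hr1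
      have h1 : t * g * d * (t * g)⁻¹ = r₁ * d := by
        calc t * g * d * (t * g)⁻¹ = t * (g * d * g⁻¹) * t⁻¹ := by group
          _ = t * r₂ * t⁻¹ * (t * d * t⁻¹) := by rw [hgd]; group
          _ = r₁ * d := by rw [htr, htd, mul_inv_cancel_right, hne]
      refine ⟨t * g, ⟨mul_mem htN hg.1, ?_⟩, h1⟩
      rw [h1, mul_inv_cancel_right]
      exact hr₁
    · exact hx1 r₁ hr₁ hne
  choose! f hfΓ hfd using htr
  set Cd : Subgroup G := Γ ⊓ centralizer ({d} : Set G) with hCd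
  have hCΓ : Cd ≤ Γ := inf_le_left
  have hTC : T ≤ Cd := by
    intro t ht
    refine ⟨⟨hTN ht, ?_⟩, mem_centralizer_singleton_iff.2 (hTd t ht)⟩
    rw [hTd t ht, mul_inv_cancel_right, mul_inv_cancel]
    exact one_mem _
  -- `|Γ : Cd| = |R o|`
  have hcard : Cd.relIndex Γ = Nat.card (R o) := by
    rw [relIndex, index_eq_card]
    symm
    refine Nat.card_eq_of_bijective
      (fun x : R o => ((⟨f x, hfΓ x x.2⟩ : Γ) : Γ ⧸ Cd.subgroupOf Γ)) ⟨?_, ?_⟩
    · intro x y hxy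
      have h1 := QuotientGroup.eq.1 hxy
      have h4 : (f x)⁻¹ * f y * d = d * ((f x)⁻¹ * f y) :=
        mem_centralizer_singleton_iff.1 (mem_subgroupOf.1 h1).2
      have h5 : f x * d * (f x)⁻¹ = f y * d * (f y)⁻¹ := by
        calc f x * d * (f x)⁻¹ = f x * (d * ((f x)⁻¹ * f y)) * (f y)⁻¹ := by group
          _ = f x * ((f x)⁻¹ * f y * d) * (f y)⁻¹ := by rw [h4]
          _ = f y * d * (f y)⁻¹ := by group
      rw [hfd x x.2, hfd y y.2] at h5
      exact Subtype.ext (mul_right_cancel h5)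
    · intro q
      obtain ⟨⟨g, hg⟩, rfl⟩ := QuotientGroup.mk_surjective q
      refine ⟨⟨g * d * g⁻¹ * d⁻¹, hg.2⟩, ?_⟩
      refine QuotientGroup.eq.2 (mem_subgroupOf.2 ?_)
      have h1 := hfd _ hg.2
      rw [inv_mul_cancel_right] at h1
      refine mem_inf.2 ⟨mul_mem (inv_mem (hfΓ _ hg.2)) hg, mem_centralizer_singleton_iff.2 ?_⟩
      change (f (g * d * g⁻¹ * d⁻¹))⁻¹ * g * d = d * ((f (g * d * g⁻¹ * d⁻¹))⁻¹ * g)
      set y := f (g * d * g⁻¹ * d⁻¹) with hy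
      calc y⁻¹ * g * d = y⁻¹ * (g * d * g⁻¹) * g := by group
        _ = y⁻¹ * (y * d * y⁻¹) * g := by rw [h1]
        _ = d * (y⁻¹ * g) := by group
  apply hTR
  have h4 := relIndex_mul_relIndex T Cd Γ hTC hCΓ
  have h5 := relIndex_mul_relIndex T Γ _ (hTC.trans hCΓ) hΓN
  rw [← h5, ← h4, hcard]
  exact h2.trans ((dvd_mul_left _ _).trans (dvd_mul_right _ _))

end Cfsg.Agent.Omega.MixOne.SideW

end

end

-- merged: Cfsg.Agent.Mrg.Omega.IId.CvBig.Mix
section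

/-!
# CvBig (iv): mixed pairs, all `q`, `k`, `k'`, `D`, `D'` (helper932 MIX-K, bb OMEGA #20486)

* `ThC M i` : THEOREM C at the factor `V_i` (the output which is used);
* `mixedQ_of'` : `MixedQ` from `LineD`;
* `mixK_false` : `LineD M M' i i'`, `V_i`, `V'_{i'}` mixed, `k ≥ 2`, a Sylow 2-subgroup of `N_G(R)` normalises `V_i`:
  contradiction;  `mixK_one_false` : the same for `N_S(V_i)` a Sylow 2-subgroup of `N_G(R)` (CASE 1).
-/

set_option autoImplicit false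
set_option linter.unusedSectionVars false

namespace Cfsg.Agent.Omega.IId.NV

open Subgroup Cfsg Cfsg.Agent.Lib.SL2Mat Cfsg.Agent.MinSimple
open Cfsg.Agent.ZN (o2 zc zl)
open Cfsg.Agent.Omega.MinPar Cfsg.Agent.Omega.FFThm
open Cfsg.Agent.Omega.BTwo (cj mem_cj cj_mono cj_eq_self_iff conj_mem_cj QQ card_cj mem_normalizer_of_conj)
open Cfsg.Agent.Omega.Mix
open Cfsg.Agent.Omega.MixOne (SideW)
open Cfsg.Agent.Omega.IId.M4 (toRMod toRMod_line nmG exists_cj_eq LL_comm mem_nmG)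
open Cfsg.Agent.Omega.IId.FourSide (vec_ne)
open Cfsg.Agent.Omega.IId.Cv (LineD UnM)
open Cfsg.Agent.Omega.IId.MQ (MixedQ)

universe u

variable {G : Type u} [Group G] [Finite G] {F F' : Type} [Field F] [Finite F] [CharP F 2] [Field F'] [Finite F']
  [CharP F' 2] {S S' : Sylow 2 G} {P V D P' V' D' : Subgroup G} {k k' : ℕ}

/-- THEOREM C at `V_i`, `R = line M i`: `O₂(N_G(R))` acts linearly on `V_i` and centralises `V_l`, `l ≠ i`;
`V_i ≤ Z(O₂(C_G(z)))` for `1 ≠ z ∈ V_l`, `l ≠ i`. -/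
structure ThC (M : NatD F S P V D k) (i : Fin k) : Prop where
  nm : o2 (normalizer (line M.toNatV i : Set G)) ≤ nmG (pre M.toNatV i)
  comm : ∀ l, l ≠ i → ∀ v ∈ fac M.toNatV l, ∀ g ∈ o2 (normalizer (line M.toNatV i : Set G)), g * v = v * g
  le : ∀ l, l ≠ i → ∀ z ∈ fac M.toNatV l, z ≠ 1 → fac M.toNatV i ≤ o2 (centralizer ({z} : Set G))
  cent : ∀ l, l ≠ i → ∀ z ∈ fac M.toNatV l, z ≠ 1 → ∀ g ∈ o2 (centralizer ({z} : Set G)),
    ∀ v ∈ fac M.toNatV i, g * v = v * g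

/-- `MixedQ` from `LineD`, `O₂(N_G(R)) ≤ nmG` on both sides -/
theorem mixedQ_of' {M : NatD F S P V D k} {M' : NatD F' S' P' V' D' k'} {i : Fin k} {i' : Fin k'}
    (L : LineD M M' i i') (hu : ¬ UnM M i) (hu' : ¬ UnM M' i')
    (hQ : o2 (normalizer (line M.toNatV i : Set G)) ≤ nmG (pre M.toNatV i))
    (hQ' : o2 (normalizer (line M.toNatV i : Set G)) ≤ nmG (pre M'.toNatV i')) :
    MixedQ (toRMod (pre M.toNatV i)) (toRMod (pre M'.toNatV i')) (line M.toNatV i) where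
  line₁ := ⟨![1, 0], vec_ne, by rw [toRMod_line, pre_line]⟩
  line₂ := ⟨![1, 0], vec_ne, by rw [toRMod_line, pre_line]; exact L.eq'⟩
  QN₁ := hQ
  QN₂ := hQ'
  char := fun K hK hK1 => char2_normalizer M.hG hK hK1
  comm₁ := LL_comm (comm_of_not_unM hu)
  comm₂ := by
    rw [L.eq']
    exact LL_comm (comm_of_not_unM hu')
  ne := by
    obtain ⟨v, hv, w, hw, hvw⟩ := L.ne
    exact ⟨v, V_le_LL _ _ hv, w, V_le_LL _ _ hw, hvw⟩

/-- Mixed pairs are impossible. `T` : a Sylow 2-subgroup of `N_G(R)` which normalises `V_i`; `V_l`, `l ≠ i`. -/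
theorem mixK_aux {M : NatD F S P V D k} {M' : NatD F' S' P' V' D' k'} {i : Fin k} {i' : Fin k'}
    (L : LineD M M' i i') (hu : ¬ UnM M i) (hu' : ¬ UnM M' i')
    (hQ : o2 (normalizer (line M.toNatV i : Set G)) ≤ nmG (pre M.toNatV i))
    (hQ' : o2 (normalizer (line M.toNatV i : Set G)) ≤ nmG (pre M'.toNatV i'))
    {l : Fin k}
    (hlQ : ∀ v ∈ fac M.toNatV l, ∀ g ∈ o2 (normalizer (line M.toNatV i : Set G)), g * v = v * g)
    (hle : ∀ z ∈ fac M.toNatV l, z ≠ 1 → fac M.toNatV i ≤ o2 (centralizer ({z} : Set G)))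
    (hce : ∀ z ∈ fac M.toNatV l, z ≠ 1 → ∀ g ∈ o2 (centralizer ({z} : Set G)), ∀ v ∈ fac M.toNatV i, g * v = v * g)
    {T : Subgroup G} (hT2 : IsPGroup 2 T) (hTV : T ≤ normalizer (fac M.toNatV i : Set G))
    (hTR : T ≤ normalizer (line M.toNatV i : Set G))
    (hTs : ¬ 2 ∣ T.relIndex (normalizer (line M.toNatV i : Set G))) : False := by
  have m := mixedQ_of' L hu hu' hQ hQ'
  set R := line M.toNatV i with hR
  have hR1 : R = (toRMod (pre M.toNatV i)).line ![1, 0] := by rw [toRMod_line, pre_line]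
  have hR2 : R = (toRMod (pre M'.toNatV i')).line ![1, 0] := by rw [toRMod_line, pre_line]; exact L.eq'
  have s := m.symm.sideW
  -- the pair `V_i, V'_{i'}`
  have hm : RMutual (fac M.toNatV i) (fac M'.toNatV i') (nmG (pre M.toNatV i)) (nmG (pre M'.toNatV i')) :=
    ⟨L.le'.trans hQ, L.le.trans hQ', L.ne⟩
  obtain ⟨-, w, w', hq, hq', e1, e2⟩ := pair (toRMod (pre M.toNatV i)) (toRMod (pre M'.toNatV i')) hm
  have hRV : R ≤ fac M.toNatV i := line_le M.toNatV i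
  have hRV' : R ≤ fac M'.toNatV i' := by
    rw [show R = _ from L.eq']
    exact line_le M'.toNatV i'
  have hinf : fac M.toNatV i ⊓ fac M'.toNatV i' = R := by
    symm
    refine Subgroup.eq_of_le_of_card_ge (le_inf hRV hRV') ?_
    rw [e1, RMod.card_line _ hq.ne, hR1, RMod.card_line _ vec_ne]
  have hc1 : Nat.card R < Nat.card (fac M.toNatV i) := by
    rw [hR, card_line, card_fac, pow_two]
    have h1 : 1 < Nat.card F := Finite.one_lt_card
    nlinarith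
  obtain ⟨b, hb, hbR, hbT⟩ := SideOf.exists_fixed_mod (A := R) (B := fac M.toNatV i) (T := T)
    (fun h => absurd (Subgroup.card_le_of_le h) (not_le.2 hc1))
    (fun v hv => mem_normalizer_of_conj fun r hr => by
      have h1 : v * r = r * v := (toRMod (pre M.toNatV i)).comm hv (hRV hr)
      rw [h1, mul_inv_cancel_right]; exact hr)
    (SideOf.isPGroup_of_sq fun x hx => (toRMod (pre M.toNatV i)).sq hx) hT2 hTR hTV
  have hbV : ¬ ∀ v ∈ fac M'.toNatV i', b * v = v * b := by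
    intro h
    apply hbR
    rw [← hinf, e1, ← hq.cent]
    exact ⟨mem_centralizer_iff.2 fun v hv => (h v hv).symm, hb⟩
  let i₀ : Pt (toRMod (pre M'.toNatV i')) := ⟨R, ![1, 0], vec_ne, hR2⟩
  refine s.false_of (o := i₀) hT2 hTs (b := b) (V_le_LL _ _ hb) hbV (fun t ht => ?_) (A := fac M.toNatV l) ?_ ?_ ?_
    (v := b) hbV fun z hz hz1 => ⟨hRV.trans (hle z hz hz1), fun x hx => (hce z hz hz1 x hx b hb).symm⟩
  · have e : b * t * b⁻¹ * t⁻¹ = (t * b * t⁻¹ * b⁻¹)⁻¹ := by group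
    rw [e]
    exact inv_mem (hbT t ht)
  · intro v hv
    rw [mem_YY]
    exact ⟨fun g hg => (hlQ v hv g (m.C_le_QQ hg)).symm, fun g hg => (hlQ v hv g (m.symm.C_le_QQ hg)).symm⟩
  · change Nat.card R < _
    rw [hR, card_line, card_fac, pow_two]
    have h1 : 1 < Nat.card F := Finite.one_lt_card
    nlinarith
  · intro v hv
    obtain ⟨x, rfl⟩ := ((toRMod (pre M'.toNatV i')).mem_iff v).1 hv
    by_cases hx : x = 0
    · subst hx
      have h1 : (toRMod (pre M'.toNatV i')).e 0 = 1 := (toRMod (pre M'.toNatV i')).e_zero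
      rw [h1]
      exact one_mem _
    · exact mem_iSup_of_mem (⟨(toRMod (pre M'.toNatV i')).line x, x, hx, rfl⟩ : Pt (toRMod (pre M'.toNatV i')))
        ((toRMod (pre M'.toNatV i')).e_mem_line.2 ⟨1, (one_smul _ _).symm⟩)

/-- **Mixed pairs are impossible** as soon as a Sylow 2-subgroup `T` of `N_G(R)` normalises `V_i`, `k ≥ 2`. -/
theorem mixK_false {M : NatD F S P V D k} {M' : NatD F' S' P' V' D' k'} {i : Fin k} {i' : Fin k'}
    (L : LineD M M' i i') (hu : ¬ UnM M i) (hu' : ¬ UnM M' i') (hC : ThC M i)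
    (hC' : o2 (normalizer (line M'.toNatV i' : Set G)) ≤ nmG (pre M'.toNatV i')) (hk : 2 ≤ k)
    {T : Subgroup G} (hT2 : IsPGroup 2 T) (hTV : T ≤ normalizer (fac M.toNatV i : Set G))
    (hTR : T ≤ normalizer (line M.toNatV i : Set G))
    (hTs : ¬ 2 ∣ T.relIndex (normalizer (line M.toNatV i : Set G))) : False := by
  obtain ⟨l, hl⟩ : ∃ l : Fin k, l ≠ i := by
    have : Nontrivial (Fin k) := Fin.nontrivial_iff_two_le.2 hk
    exact exists_ne i
  refine mixK_aux L hu hu' hC.nm ?_ (hC.comm l hl) (hC.le l hl) (hC.cent l hl) hT2 hTV hTR hTs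
  rw [L.eq']
  exact hC'

/-- CASE 1. -/
theorem mixK_one_false {M : NatD F S P V D k} {M' : NatD F' S' P' V' D' k'} {i : Fin k} {i' : Fin k'}
    (L : LineD M M' i i') (hu : ¬ UnM M i) (hu' : ¬ UnM M' i') (hC : ThC M i)
    (hC' : o2 (normalizer (line M'.toNatV i' : Set G)) ≤ nmG (pre M'.toNatV i')) (hk : 2 ≤ k)
    (hd : ¬ 2 ∣ (stab M.toNatV i).relIndex (normalizer (line M.toNatV i : Set G))) : False :=
  mixK_false L hu hu' hC hC' hk (S.isPGroup'.to_le (stab_le _ _))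
    ((stab_le_nmG (SP M) M.toNatV i).trans fun _ h => h.1) (stab_normalizes_line M.toNatV (SP M) i) hd

/-- A Sylow 2-subgroup of `G` normalises `V_i` and `R`. -/
theorem mixK_two_false {M : NatD F S P V D k} {M' : NatD F' S' P' V' D' k'} {i : Fin k} {i' : Fin k'}
    (L : LineD M M' i i') (hu : ¬ UnM M i) (hu' : ¬ UnM M' i') (hC : ThC M i)
    (hC' : o2 (normalizer (line M'.toNatV i' : Set G)) ≤ nmG (pre M'.toNatV i')) (hk : 2 ≤ k)
    {T : Sylow 2 G} (hTV : (T : Subgroup G) ≤ normalizer (fac M.toNatV i : Set G))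
    (hTR : (T : Subgroup G) ≤ normalizer (line M.toNatV i : Set G)) : False :=
  mixK_false L hu hu' hC hC' hk T.isPGroup' hTV hTR (MinSimple.Basic.not_dvd_relIndex T hTR)

end Cfsg.Agent.Omega.IId.NV

end

-- merged: Cfsg.Agent.Mrg.Omega.IId.CvBig.NormBig
section

/-!
# LEMMA NORM for an unmixed factor, any number of factors, any `q`, no Sylow hypothesis (helper958)

`M : NatD F S P V D k`, THEOREM C: `hC : ∀ l, QL M l ≤ S`, `V₁ = fac M i` unmixed, `R = line M i`.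

* `core` : the group-theoretic core: a 2-group `W₀ = O₂(C_G(r)) ∩ C_G(R)` does not centralise `V₁`;
* `nm_big` : `N_G(V₁)` normalises the `SL₂(F)`; `nmBig : Cv.NmBig`.
-/

set_option autoImplicit false
set_option linter.unusedSectionVars false

namespace Cfsg.Agent.Omega.IId.NV

open Subgroup Pointwise Cfsg Cfsg.Agent.ZN Cfsg.Agent.ZN.ChoiceBase
open Cfsg.Agent.Omega.MinPar Cfsg.Agent.Omega.FFThm
open Cfsg.Agent.Lib.SL2Mat
open Cfsg.Agent.MinSimple
open Cfsg.Agent.Omega.NatPair (ap ap_mul ap_one ap_inv_ap ap_ap_inv exists_ap ap_add NatMod PreMod)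
open Cfsg.Agent.MinSimple.VModule (zc_le zc_comm zc_sq zc_le_zl o2_isPGroup o2_le normalizer_le_normalizer_zc)
open scoped commutatorElement

universe u

namespace NormBig

variable {G : Type u} [Group G]

/-- **The core.** `C_{O₂(C_G(r))}(R)` does not centralise `V`. -/
theorem core [Finite G] (hG : IsCharacteristicTwoType G) {V R : Subgroup G} {r : G} (hRV : R ≤ V) (hr : r ∈ R)
    (hr1 : r ≠ 1) (hVc : ∀ x ∈ V, ∀ y ∈ V, x * y = y * x) (h2 : ∀ x ∈ V, x * x = 1)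
    (htr : ∀ x ∈ R, x ≠ 1 → ∃ d ∈ normalizer (V : Set G), d ∈ normalizer (R : Set G) ∧ d * r * d⁻¹ = x)
    (hVQ : V ≤ ZN.o2 (normalizer (R : Set G)))
    (hQR : ZN.o2 (normalizer (R : Set G)) ≤ centralizer (R : Set G))
    (alpha : ∀ q ∈ ZN.o2 (centralizer ({r} : Set G)), q ∈ centralizer (R : Set G) → ∀ v ∈ V, v * q = q * v)
    {c : G} (hcR : c ∈ normalizer (R : Set G))
    (hc : ∀ ρ ∈ R, ∃ v ∈ V, ∃ w ∈ V, v * (c * w * c⁻¹) * v⁻¹ * (c * w * c⁻¹)⁻¹ = ρ) :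
    False := by
  set H : Subgroup G := centralizer ({r} : Set G) with hH
  set W : Subgroup G := ZN.o2 H with hW
  have hmC : ∀ {y : G}, y ∈ H ↔ y * r = r * y := ExcFree.mem_H
  have hWH : W ≤ H := ZN.o2_le H
  have hCRH : centralizer (R : Set G) ≤ H := by
    intro x hx
    exact hmC.2 (mem_centralizer_iff.1 hx r hr).symm
  have alpha' : ∀ r' ∈ R, r' ≠ 1 → ∀ q ∈ ZN.o2 (centralizer ({r'} : Set G)), q ∈ centralizer (R : Set G) →
      ∀ v ∈ V, v * q = q * v := by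
    intro r' hr' hr1' q hq hqR v hv
    obtain ⟨d, hd, hd', hdr⟩ := htr r' hr' hr1'
    have e0 : d⁻¹ * r' * d⁻¹⁻¹ = r := by rw [← hdr]; group
    have h3 := ExcFree.o2_cj e0 hq
    rw [inv_inv] at h3
    have h4 : d⁻¹ * q * d ∈ centralizer (R : Set G) := by
      have := NLFree.conj_mem_of (NLFree.le_normalizer_cent (V := R) le_rfl) (inv_mem hd') hqR
      rwa [inv_inv] at this
    have hv' : d⁻¹ * v * d ∈ V := by
      have := (mem_normalizer_iff.1 (inv_mem hd) v).1 hv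
      rwa [inv_inv] at this
    have h5 := alpha _ h3 h4 _ hv'
    calc v * q = d * (d⁻¹ * v * d * (d⁻¹ * q * d)) * d⁻¹ := by group
      _ = d * (d⁻¹ * q * d * (d⁻¹ * v * d)) * d⁻¹ := by rw [h5]
      _ = q * v := by group
  have hcr : c⁻¹ * r * c ∈ R := by
    have := (mem_normalizer_iff.1 (inv_mem hcR) r).1 hr
    rwa [inv_inv] at this
  have hcr1 : c⁻¹ * r * c ≠ 1 := by
    intro h
    apply hr1
    have e : r = c * (c⁻¹ * r * c) * c⁻¹ := by group
    rw [e, h]; group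
  -- the elements of `V ^ c` centralise `C_W(R)`
  have alphac : ∀ w ∈ V, ∀ q ∈ W, q ∈ centralizer (R : Set G) → c * w * c⁻¹ * q = q * (c * w * c⁻¹) := by
    intro w hw q hq hqR
    have e0 : c⁻¹ * r * c⁻¹⁻¹ = c⁻¹ * r * c := by group
    have h3 := ExcFree.o2_cj e0 hq
    rw [inv_inv] at h3
    have h4 : c⁻¹ * q * c ∈ centralizer (R : Set G) := by
      have := NLFree.conj_mem_of (NLFree.le_normalizer_cent (V := R) le_rfl) (inv_mem hcR) hqR
      rwa [inv_inv] at this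
    have h5 := alpha' _ hcr hcr1 _ h3 h4 w hw
    calc c * w * c⁻¹ * q = c * (w * (c⁻¹ * q * c)) * c⁻¹ := by group
      _ = c * (c⁻¹ * q * c * w) * c⁻¹ := by rw [h5]
      _ = q * (c * w * c⁻¹) := by group
  -- (β)
  have beta : ¬ W ≤ centralizer (R : Set G) := by
    intro hWC
    have hVW : V ≤ W := by
      intro x hx
      refine MinSimple.Basic.char2_centralizer hG (by rw [pow_two]; exact h2 r (hRV hr)) hr1
        (mem_inf.2 ⟨?_, mem_centralizer_iff.2 fun q hq => (alpha q hq (hWC hq) x hx).symm⟩)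
      exact hmC.2 (hVc x hx r (hRV hr))
    obtain ⟨v, hv, w, hw, hρ⟩ := hc r hr
    obtain ⟨d, hd, hd', hdr⟩ := htr _ hcr hcr1
    have h3 : w ∈ ZN.o2 (centralizer ({c⁻¹ * r * c} : Set G)) := by
      have hw' : d⁻¹ * w * d ∈ V := by
        have := (mem_normalizer_iff.1 (inv_mem hd) w).1 hw
        rwa [inv_inv] at this
      have h4 := ExcFree.o2_cj hdr (hVW hw')
      have e : d * (d⁻¹ * w * d) * d⁻¹ = w := by group
      rwa [e] at h4
    have h4 : c * w * c⁻¹ ∈ W := ExcFree.o2_cj (d := c) (by group) h3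
    have h5 := alpha _ h4 (hWC h4) v hv
    apply hr1
    rw [← hρ]
    calc v * (c * w * c⁻¹) * v⁻¹ * (c * w * c⁻¹)⁻¹ = (c * w * c⁻¹) * v * v⁻¹ * (c * w * c⁻¹)⁻¹ := by rw [h5]
      _ = 1 := by group
  -- a fixed coset
  set W0 : Subgroup G := W ⊓ centralizer (R : Set G) with hW0
  have hW0n : ZN.o2 (normalizer (R : Set G)) ≤ normalizer (W0 : Set G) :=
    Half.le_normalizer_inf ((hQR.trans hCRH).trans (ZN.le_normalizer_o2 H))
      ((ZN.o2_le _).trans (NLFree.le_normalizer_cent le_rfl))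
  have hW2 : IsPGroup 2 W := o2_isPGroup H
  have hlt : W0 < W := lt_of_le_of_ne inf_le_left fun e => beta (by
    have : W ≤ W0 := e.ge
    exact this.trans inf_le_right)
  have hfact : Fact (Nat.Prime 2) := ⟨Nat.prime_two⟩
  have hlt' := Lib.GoldschmidtFusion.lt_inf_normalizer hW2 hlt
  set N0 : Subgroup G := W ⊓ normalizer (W0 : Set G) with hN0
  have hN0n : ZN.o2 (normalizer (R : Set G)) ≤ normalizer (N0 : Set G) := by
    refine Half.le_normalizer_inf ((hQR.trans hCRH).trans (ZN.le_normalizer_o2 H)) ?_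
    exact hW0n.trans le_normalizer
  have hN02 : IsPGroup 2 N0 := hW2.to_le inf_le_left
  set T : Subgroup G := N0 ⊔ ZN.o2 (normalizer (R : Set G)) with hT
  have hT2 : IsPGroup 2 T := IsPGroup.to_sup_of_normal_left' hN02 (o2_isPGroup _) hN0n
  have hTW0 : T ≤ normalizer (W0 : Set G) := sup_le inf_le_right hW0n
  have hTN0 : T ≤ normalizer (N0 : Set G) := sup_le le_normalizer hN0n
  obtain ⟨x, hx, hx0, hxf⟩ := NLFree.exists_fix_mod (S := T) (M := W0) (Q := N0) hT2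
    (hlt'.le.trans le_sup_left) le_sup_left hTW0 hTN0 (fun h => hlt'.not_ge h)
  apply hx0
  show x ∈ W ⊓ centralizer (R : Set G)
  refine mem_inf.2 ⟨(mem_inf.1 hx).1, mem_centralizer_iff.2 fun ρ hρR => ?_⟩
  obtain ⟨v, hv, w, hw, hρ⟩ := hc ρ hρR
  set y := c * w * c⁻¹ with hy
  have hyQ : y ∈ ZN.o2 (normalizer (R : Set G)) :=
    (mem_normalizer_iff.1 (ZN.le_normalizer_o2 _ hcR) w).1 (hVQ hw)
  have hvQ := hVQ hv
  -- `x` commutes with `[v, y]`
  have ha : v * x * v⁻¹ * x⁻¹ ∈ W0 := hxf v (mem_sup_right hvQ)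
  have hb : y * x * y⁻¹ * x⁻¹ ∈ W0 := hxf y (mem_sup_right hyQ)
  set a := v * x * v⁻¹ * x⁻¹ with hadef
  set b := y * x * y⁻¹ * x⁻¹ with hbdef
  have cv : ∀ z ∈ W0, Commute z v := fun z hz => (alpha z hz.1 hz.2 v hv).symm
  have cy : ∀ z ∈ W0, Commute z y := fun z hz => (alphac w hw z hz.1 hz.2).symm
  have cab : Commute a b := by
    have h3 : Commute a y := cy a ha
    have h4 : Commute a (x * y⁻¹ * x⁻¹) := by
      have h5 : x⁻¹ * a * x ∈ W0 := by
        have := (mem_normalizer_iff.1 (inv_mem (mem_inf.1 hx).2) a).1 ha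
        rwa [inv_inv] at this
      have h6 : Commute (x⁻¹ * a * x) y⁻¹ := (cy _ h5).inv_right
      have h7 : x⁻¹ * a * x * y⁻¹ = y⁻¹ * (x⁻¹ * a * x) := h6.eq
      show a * (x * y⁻¹ * x⁻¹) = x * y⁻¹ * x⁻¹ * a
      calc a * (x * y⁻¹ * x⁻¹) = x * (x⁻¹ * a * x * y⁻¹) * x⁻¹ := by group
        _ = x * (y⁻¹ * (x⁻¹ * a * x)) * x⁻¹ := by rw [h7]
        _ = x * y⁻¹ * x⁻¹ * a := by group
    have h8 : b = y * (x * y⁻¹ * x⁻¹) := by rw [hbdef]; group
    rw [h8]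
    exact h3.mul_right h4
  have ea : x * v * x⁻¹ = a⁻¹ * v := by rw [hadef]; group
  have eb : x * y * x⁻¹ = b⁻¹ * y := by rw [hbdef]; group
  have c1 : Commute a⁻¹ v := (cv a ha).inv_left
  have c2 : Commute a⁻¹ y := (cy a ha).inv_left
  have c3 : Commute b⁻¹ v := (cv b hb).inv_left
  have c4 : Commute b⁻¹ y := (cy b hb).inv_left
  have c5 : Commute a⁻¹ b⁻¹ := (cab.inv_left).inv_right
  have e1 : x * (v * y * v⁻¹ * y⁻¹) * x⁻¹ = v * y * v⁻¹ * y⁻¹ := by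
    have s0 : x * (v * y * v⁻¹ * y⁻¹) * x⁻¹ = (a⁻¹ * v) * (b⁻¹ * y) * (a⁻¹ * v)⁻¹ * (b⁻¹ * y)⁻¹ := by
      rw [← ea, ← eb]; group
    have s1 : (a⁻¹ * v) * (b⁻¹ * y) * (a⁻¹ * v)⁻¹ = v * (b⁻¹ * y) * v⁻¹ := by
      have t1 : Commute a⁻¹ (v * (b⁻¹ * y) * v⁻¹) := (c1.mul_right (c5.mul_right c2)).mul_right c1.inv_right
      calc (a⁻¹ * v) * (b⁻¹ * y) * (a⁻¹ * v)⁻¹ = a⁻¹ * (v * (b⁻¹ * y) * v⁻¹) * a⁻¹⁻¹ := by group
        _ = (v * (b⁻¹ * y) * v⁻¹) * a⁻¹ * a⁻¹⁻¹ := by rw [t1.eq]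
        _ = v * (b⁻¹ * y) * v⁻¹ := by group
    have s2 : v * (b⁻¹ * y) * v⁻¹ = b⁻¹ * (v * y * v⁻¹) := by
      calc v * (b⁻¹ * y) * v⁻¹ = (v * b⁻¹) * (y * v⁻¹) := by group
        _ = (b⁻¹ * v) * (y * v⁻¹) := by rw [c3.eq]
        _ = b⁻¹ * (v * y * v⁻¹) := by group
    have t2 : Commute b⁻¹ (v * y * v⁻¹ * y⁻¹) :=
      ((c3.mul_right c4).mul_right c3.inv_right).mul_right c4.inv_right
    rw [s0, s1, s2]
    calc b⁻¹ * (v * y * v⁻¹) * (b⁻¹ * y)⁻¹ = b⁻¹ * (v * y * v⁻¹ * y⁻¹) * b⁻¹⁻¹ := by group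
      _ = (v * y * v⁻¹ * y⁻¹) * b⁻¹ * b⁻¹⁻¹ := by rw [t2.eq]
      _ = v * y * v⁻¹ * y⁻¹ := by group
  rw [hρ] at e1
  calc ρ * x = x * ρ * x⁻¹ * x := by rw [e1]
    _ = x * ρ := by group

theorem le_nor_of {K H : Subgroup G} (h : ∀ g ∈ K, ∀ x ∈ H, g * x * g⁻¹ ∈ H) : K ≤ normalizer (H : Set G) := by
  intro g hg
  rw [mem_normalizer_iff]
  intro x
  refine ⟨h g hg x, fun hx => ?_⟩
  have h1 := h g⁻¹ (inv_mem hg) _ hx
  have e : g⁻¹ * (g * x * g⁻¹) * g⁻¹⁻¹ = x := by group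
  rwa [e] at h1

theorem two_le_of [Finite G] {A K L : Subgroup G} (hK : IsPGroup 2 K) (hAK : A ≤ K) (hKL : K ≤ L)
    (h : ¬ 2 ∣ A.relIndex L) : K ≤ A := by
  have : Fact (Nat.Prime 2) := ⟨Nat.prime_two⟩
  have h1 : ¬ 2 ∣ A.relIndex K := fun h2 => h (h2.trans
    ⟨_, (Subgroup.relIndex_mul_relIndex A K _ hAK hKL).symm⟩)
  have h3 : A.relIndex K ≠ 0 := (A.subgroupOf K).index_ne_zero_of_finite
  have : (A.subgroupOf K).FiniteIndex := ⟨h3⟩
  obtain ⟨m, hm⟩ := hK.index (A.subgroupOf K)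
  have h4 : A.relIndex K = 2 ^ m := hm
  rcases m with _ | m
  · exact Subgroup.relIndex_eq_one.1 h4
  · exact absurd (h4 ▸ dvd_pow_self 2 (Nat.succ_ne_zero m)) h1

/-- `{x ∈ N : [C, x] ≤ O}` -/
def cenMod (N C O : Subgroup G) (hO : N ≤ normalizer (O : Set G)) : Subgroup G where
  carrier := {x | x ∈ N ∧ ∀ c ∈ C, c * x * c⁻¹ * x⁻¹ ∈ O}
  one_mem' := ⟨one_mem _, fun c _ => by simp⟩
  mul_mem' := by
    rintro x y ⟨h1, h2⟩ ⟨h3, h4⟩
    refine ⟨mul_mem h1 h3, fun c hc => ?_⟩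
    have e : c * (x * y) * c⁻¹ * (x * y)⁻¹ = (c * x * c⁻¹ * x⁻¹) * (x * (c * y * c⁻¹ * y⁻¹) * x⁻¹) := by group
    rw [e]
    exact mul_mem (h2 c hc) ((mem_normalizer_iff.1 (hO h1) _).1 (h4 c hc))
  inv_mem' := by
    rintro x ⟨h1, h2⟩
    refine ⟨inv_mem h1, fun c hc => ?_⟩
    have e : c * x⁻¹ * c⁻¹ * x⁻¹⁻¹ = x⁻¹ * (c * x * c⁻¹ * x⁻¹)⁻¹ * x := by group
    rw [e]
    have := (mem_normalizer_iff.1 (inv_mem (hO h1)) _).1 (inv_mem (h2 c hc))
    rwa [inv_inv] at this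

variable {N C O : Subgroup G} {hO : N ≤ normalizer (O : Set G)}

theorem mem_cenMod {x : G} : x ∈ cenMod N C O hO ↔ x ∈ N ∧ ∀ c ∈ C, c * x * c⁻¹ * x⁻¹ ∈ O := Iff.rfl

theorem cenMod_le : cenMod N C O hO ≤ N := fun _ h => h.1

theorem N_le_nor (hC : N ≤ normalizer (C : Set G)) : N ≤ normalizer (cenMod N C O hO : Set G) := by
  refine le_nor_of fun g hg x hx => ⟨mul_mem (mul_mem hg hx.1) (inv_mem hg), fun c hc => ?_⟩
  have h1 : g⁻¹ * c * g ∈ C := by
    have := (mem_normalizer_iff.1 (inv_mem (hC hg)) c).1 hc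
    rwa [inv_inv] at this
  have h2 := (mem_normalizer_iff.1 (hO hg) _).1 (hx.2 _ h1)
  have e : c * (g * x * g⁻¹) * c⁻¹ * (g * x * g⁻¹)⁻¹ = g * (g⁻¹ * c * g * x * (g⁻¹ * c * g)⁻¹ * x⁻¹) * g⁻¹ := by
    group
  rwa [e]

/-- `A ∩ C ≤ O = O₂(C)` for a 2-group `A ≤ {x ∈ N : [C, x] ≤ O₂(C)}` -/
theorem inf_le_of [Finite G] {A : Subgroup G} (hOC : O = o2 C) (hA : IsPGroup 2 A) (hAc : A ≤ cenMod N C O hO) :
    A ⊓ C ≤ O := by
  have hO2 : IsPGroup 2 O := by rw [hOC]; exact o2_isPGroup _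
  have h1 : A ⊓ C ≤ normalizer (O : Set G) := inf_le_left.trans (hAc.trans (cenMod_le.trans hO))
  have h2 : IsPGroup 2 ↥(O ⊔ A ⊓ C) := hO2.to_sup_of_normal_left' (hA.to_le inf_le_left) h1
  have h3 : O ≤ C := by rw [hOC]; exact ZN.o2_le _
  refine le_trans le_sup_right (?_ : O ⊔ A ⊓ C ≤ O)
  conv_rhs => rw [hOC]
  refine VModule.le_o2 (sup_le h3 inf_le_right) h2 ?_
  intro c hc
  apply mem_normalizer_of_cj_le
  change Subgroup.map _ _ ≤ _
  rw [Subgroup.map_sup]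
  refine sup_le ?_ ?_
  · have h4 : c ∈ normalizer (O : Set G) := by
      rw [hOC]
      exact ZN.le_normalizer_o2 _ hc
    change cj c O ≤ _
    rw [cj_eq_of_mem_normalizer h4]
    exact le_sup_left
  · rintro _ ⟨x, ⟨hx, hxC⟩, rfl⟩
    change c * x * c⁻¹ ∈ _
    have h5 := (hAc hx).2 c hc
    have e : c * x * c⁻¹ = (c * x * c⁻¹ * x⁻¹) * x := by group
    rw [e]
    exact mul_mem (mem_sup_left h5) (mem_sup_right ⟨hx, hxC⟩)

end NormBig

section big

open NormBig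

variable {G : Type u} [Group G] [Finite G] {F : Type} [Field F] [Finite F] [CharP F 2] {S : Sylow 2 G}
  {P V D : Subgroup G} {k : ℕ} (M : NatD F S P V D k) (hC : ∀ l, QL M l ≤ (S : Subgroup G))

/-- all factors are unmixed -/
theorem unM_all {i : Fin k} (hu : UnMx M i) (l : Fin k) : UnMx M l := by
  obtain ⟨s, hs, hsl⟩ := exists_trans M.toNatV (SP M) i l
  have h1 : cj s (line M.toNatV i) = line M.toNatV l := by
    have h2 : sg M.toNatV (SP M hs) i = l := (sg_eq_iff M.toNatV (SP M hs)).2 hsl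
    rw [conj_line M.toNatV (SP M) hs, h2]
  obtain ⟨g, hg, v, hv, w, hw, hne⟩ := hu
  have hf : ∀ v ∈ fac M.toNatV i, s * v * s⁻¹ ∈ fac M.toNatV l := fun v hv => by
    rw [← hsl]
    exact ⟨v, hv, rfl⟩
  refine ⟨s * g * s⁻¹, ?_, s * v * s⁻¹, hf v hv, s * w * s⁻¹, hf w hw, fun h => hne ?_⟩
  · rw [← h1, ← cj_normalizer]
    exact ⟨g, hg, rfl⟩
  · have e1 : s * v * s⁻¹ * (s * g * s⁻¹ * (s * w * s⁻¹) * (s * g * s⁻¹)⁻¹) = s * (v * (g * w * g⁻¹)) * s⁻¹ := by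
      group
    have e2 : s * g * s⁻¹ * (s * w * s⁻¹) * (s * g * s⁻¹)⁻¹ * (s * v * s⁻¹) = s * (g * w * g⁻¹ * v) * s⁻¹ := by
      group
    rw [e1, e2] at h
    exact mul_left_cancel (mul_right_cancel h)

include hC

/-- `[QL M i O₂(P), V_P] ≤ line M i` -/
theorem comm_QLQ {i : Fin k} {y v : G} (hy : y ∈ QL M i ⊔ o2 P) (hv : v ∈ zl (S : Subgroup G) P) :
    y * v * y⁻¹ * v⁻¹ ∈ line M.toNatV i := by
  let K : Subgroup G :=
    { carrier := {y | y ∈ P ∧ ∀ v ∈ zl (S : Subgroup G) P, y * v * y⁻¹ * v⁻¹ ∈ line M.toNatV i}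
      one_mem' := ⟨one_mem _, fun v _ => by simp⟩
      mul_mem' := by
        rintro x y ⟨h1, h2⟩ ⟨h3, h4⟩
        refine ⟨mul_mem h1 h3, fun v hv => ?_⟩
        have e : x * y * v * (x * y)⁻¹ * v⁻¹ =
            (x * (y * v * y⁻¹) * x⁻¹ * (y * v * y⁻¹)⁻¹) * (y * v * y⁻¹ * v⁻¹) := by group
        rw [e]
        exact mul_mem (h2 _ (zl_conj h3 hv)) (h4 v hv)
      inv_mem' := by
        rintro x ⟨h1, h2⟩
        refine ⟨inv_mem h1, fun v hv => ?_⟩
        have h3 := zl_conj (S := S) (inv_mem h1) hv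
        have h4 := inv_mem (h2 _ h3)
        have e : (x * (x⁻¹ * v * x⁻¹⁻¹) * x⁻¹ * (x⁻¹ * v * x⁻¹⁻¹)⁻¹)⁻¹ = x⁻¹ * v * x⁻¹⁻¹ * v⁻¹ := by group
        rwa [e] at h4 }
  have h1 : QL M i ⊔ o2 P ≤ K := by
    refine sup_le (fun x hx => ⟨QL_le_P M hC i hx, fun v hv => comm_QL M hC hx hv⟩) fun x hx =>
      ⟨ZN.o2_le _ hx, fun v hv => ?_⟩
    rw [o2P_comm M hx hv]
    have e : v * x * x⁻¹ * v⁻¹ = 1 := by group
    rw [e]
    exact one_mem _
  exact (h1 hy).2 v hv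

omit hC in
/-- `N_G(O₂(P)) ∩ ⋂ N_G(QL M l O₂(P))` -/
def GF (M : NatD F S P V D k) : Subgroup G :=
  normalizer (o2 P : Set G) ⊓ ⨅ l, normalizer ((QL M l ⊔ o2 P : Subgroup G) : Set G)

omit hC in
theorem mem_GF {g : G} : g ∈ GF M ↔ g ∈ normalizer (o2 P : Set G) ∧
    ∀ l, g ∈ normalizer ((QL M l ⊔ o2 P : Subgroup G) : Set G) := by
  rw [GF, mem_inf, mem_iInf]

omit hC in
theorem S_normalizes_GF : (S : Subgroup G) ≤ normalizer (GF M : Set G) := by
  have hSQ : (S : Subgroup G) ≤ normalizer (o2 P : Set G) := (SP M).trans (ZN.le_normalizer_o2 _)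
  refine le_nor_of fun s hs g hg => ?_
  rw [mem_GF] at hg ⊢
  obtain ⟨h1, h2⟩ := hg
  refine ⟨mul_mem (mul_mem (hSQ hs) h1) (inv_mem (hSQ hs)), fun l => ?_⟩
  obtain ⟨m, hm⟩ : ∃ m, sg M.toNatV (SP M hs) m = l := (sg M.toNatV (SP M hs)).surjective l
  have h3 : cj s (QL M m ⊔ o2 P) = QL M l ⊔ o2 P := by
    change Subgroup.map _ _ = _
    rw [Subgroup.map_sup]
    change cj s (QL M m) ⊔ cj s (o2 P) = _
    rw [conj_QL M hs, hm, cj_eq_of_mem_normalizer (hSQ hs)]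
  rw [← h3, ← cj_normalizer]
  exact ⟨g, h2 m, rfl⟩

/-- `S ∩ GF M ≤ stab M i` -/
theorem inf_GF_le {i : Fin k} (hu : UnMx M i) : GF M ⊓ (S : Subgroup G) ≤ stab M.toNatV i := by
  rintro s ⟨hg, hs⟩
  have hsP := SP M hs
  refine mem_inf.2 ⟨hs, (mem_normalizer_fac_iff M.toNatV hsP).2 ?_⟩
  apply line_inj (M := M.toNatV)
  rw [← conj_line M.toNatV (SP M) hs]
  rintro _ ⟨r, hr, rfl⟩
  change s * r * s⁻¹ ∈ _
  obtain ⟨u, hu1, hue⟩ := exists_fac M.toNatV i ![0, 1]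
  obtain ⟨x, hx, hxb⟩ := exists_QL_up M hC hu (M.e r i 0)
  have hxu : x * u * x⁻¹ ∈ fac M.toNatV i :=
    (mem_normalizer_iff.1 (stab_normalizes _ i (QL_le_stab M hC i hx)) u).1 hu1
  have e : r = x * u * x⁻¹ * u⁻¹ := by
    refine ext_fac M.toNatV (line_le _ _ hr) (mul_mem hxu (inv_mem hu1)) ?_
    rw [M.mul _ hxu.1 _ (inv_mem hu1.1), e_inv M.toNatV hu1.1, Pi.add_apply, Pi.neg_apply, hxb u hu1, hue]
    apply NatPair.ext2
    · rw [Pi.add_apply, NatPair.ap_zero', up_00, up_01]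
      simp
    · rw [Pi.add_apply, NatPair.ap_one', up_10, up_11, ((mem_line M.toNatV).1 hr).2]
      simp
  have h1 : s * x * s⁻¹ ∈ QL M i ⊔ o2 P :=
    (mem_normalizer_iff.1 (((mem_GF M).1 hg).2 i) x).1 (mem_sup_left hx)
  have h2 := comm_QLQ M hC h1 (zl_conj (S := S) hsP (M.V_le hu1.1))
  have e2 : s * x * s⁻¹ * (s * u * s⁻¹) * (s * x * s⁻¹)⁻¹ * (s * u * s⁻¹)⁻¹ = s * (x * u * x⁻¹ * u⁻¹) * s⁻¹ := by
    group
  rw [e2, ← e] at h2
  exact h2

/-- **LEMMA NORM, unmixed factor, any number of factors, any `q`, no Sylow hypothesis.** -/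
theorem nm_big {i : Fin k} (hu : UnMx M i) : ∀ g ∈ normalizer (fac M.toNatV i : Set G), (pre M.toNatV i).Nm g := by
  have hall := unM_all M hu
  have hfact : Fact (Nat.Prime 2) := ⟨Nat.prime_two⟩
  set V₁ : Subgroup G := fac M.toNatV i with hV₁
  set R : Subgroup G := line M.toNatV i with hR
  set Q : Subgroup G := o2 P with hQ
  set T : Subgroup G := stab M.toNatV i with hT
  set N₁ : Subgroup G := normalizer (V₁ : Set G) with hN₁
  set C₁ : Subgroup G := centralizer (V₁ : Set G) with hC₁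
  have hRV : R ≤ V₁ := line_le _ _
  have hVz : ∀ {v : G}, v ∈ V₁ → v ∈ zl (S : Subgroup G) P := fun hv => M.V_le (fac_le _ _ hv)
  have hT2 : IsPGroup 2 T := S.isPGroup'.to_le (stab_le _ _)
  have hTN : T ≤ N₁ := stab_normalizes _ i
  have hQLT : QL M i ≤ T := QL_le_stab M hC i
  have hQ2 : IsPGroup 2 Q := o2_isPGroup _
  have hCN : C₁ ≤ N₁ := centralizer_le_normalizer _
  have hNC : N₁ ≤ normalizer (C₁ : Set G) := NLFree.le_normalizer_cent le_rfl
  have hO : N₁ ≤ normalizer (o2 C₁ : Set G) := hNC.trans (ZN.normalizer_le_normalizer_o2 _)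
  have hQC : Q ≤ C₁ := fun q hq => mem_centralizer_iff.2 fun v hv => (o2P_comm M hq (hVz hv)).symm
  have hQLC : ∀ l, l ≠ i → QL M l ≤ C₁ := fun l hl => QL_le_cent M hC (Ne.symm hl)
  have hQN : Q ≤ N₁ := hQC.trans hCN
  have hQLN : ∀ l, QL M l ≤ N₁ := fun l => by
    by_cases h : l = i
    · subst h; exact hQLT.trans hTN
    · exact (hQLC l h).trans hCN
  have hgN : ∀ l, grp M.toNatV {l} ≤ N₁ := fun l => grp_normalizes M.toNatV {l} {i}
  -- `O₂(C_G(V₁)) ≤ Q`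
  have hOQ : o2 C₁ ≤ Q := le_o2_of_inv M hC hall (o2_isPGroup _) (hQN.trans hO) (fun l => (hQLN l).trans hO)
    fun l => (hgN l).trans hO
  -- `X`
  set X : Subgroup G := cenMod N₁ C₁ (o2 C₁) hO with hX
  have hXN : X ≤ N₁ := cenMod_le
  have hNX : N₁ ≤ normalizer (X : Set G) := N_le_nor hNC
  have hCL : C₁ ≤ normalizer (QL M i : Set G) :=
    ((centralizer_le hRV).trans (centralizer_le_normalizer _)).trans (nor_line_le M i)
  have hQLX : QL M i ≤ X := by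
    intro x hx
    refine ⟨hTN (hQLT hx), fun c hc => ?_⟩
    have h1 : QL M i ⊓ C₁ ≤ o2 C₁ := VModule.le_o2 inf_le_right ((QL_two M i).to_le inf_le_left)
      (Half.le_normalizer_inf hCL le_normalizer)
    refine h1 (mem_inf.2 ⟨mul_mem ((mem_normalizer_iff.1 (hCL hc) x).1 hx) (inv_mem hx), ?_⟩)
    have h2 := (mem_normalizer_iff.1 (hNC (hTN (hQLT hx))) c⁻¹).1 (C₁.inv_mem hc)
    have e : c * x * c⁻¹ * x⁻¹ = c * (x * c⁻¹ * x⁻¹) := by group
    rw [e]
    exact mul_mem hc h2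
  -- `U`, `TX`
  obtain ⟨U, hTU, hUN, hU2, hUs⟩ := Half.exists_sylow_le hT2 hTN
  set TX : Subgroup G := X ⊓ U with hTX
  have hTXs : ¬ 2 ∣ TX.relIndex X := TwoPlus.not_dvd_inf hUN hUs hXN hNX
  have hTX2 : IsPGroup 2 TX := hU2.to_le inf_le_right
  have hTXX : TX ≤ X := inf_le_left
  have hTXN : TX ≤ N₁ := hTXX.trans hXN
  have hQLTX : QL M i ≤ TX := le_inf hQLX (hQLT.trans hTU)
  have hTTX : T ≤ normalizer (TX : Set G) :=
    Half.le_normalizer_inf (hTN.trans hNX) (hTU.trans le_normalizer)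
  have hTXC : TX ⊓ C₁ ≤ o2 C₁ := inf_le_of (hO := hO) rfl hTX2 hTXX
  -- `[C₁, TX] ≤ Q`
  have hcomm : ∀ t ∈ TX, ∀ c ∈ C₁, c * t * c⁻¹ * t⁻¹ ∈ Q := fun t ht c hc => hOQ ((hTXX ht).2 c hc)
  have hcomm' : ∀ t ∈ TX, ∀ c ∈ C₁, t * c * t⁻¹ * c⁻¹ ∈ Q := fun t ht c hc => by
    have h1 := inv_mem (hcomm t ht c hc)
    have e : (c * t * c⁻¹ * t⁻¹)⁻¹ = t * c * t⁻¹ * c⁻¹ := by group
    rwa [e] at h1
  -- `TX ≤ N(Q)`
  have hTXQ : TX ≤ normalizer (Q : Set G) := le_nor_of fun t ht q hq => by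
    have h1 := hcomm' t ht q (hQC hq)
    have e : t * q * t⁻¹ = (t * q * t⁻¹ * q⁻¹) * q := by group
    rw [e]
    exact mul_mem h1 hq
  -- `TX ≤ N(R)`
  have hTXR : TX ≤ normalizer (R : Set G) := by
    by_cases hle : TX ≤ Q
    · exact hle.trans (hQC.trans ((centralizer_le hRV).trans (centralizer_le_normalizer _)))
    obtain ⟨z, hz, hzQ, hzf⟩ := NLFree.exists_fix_mod (S := TX) (M := TX ⊓ Q) (Q := TX) hTX2 inf_le_left le_rfl
      (Half.le_normalizer_inf le_normalizer hTXQ) le_normalizer (fun h => hle (h.trans inf_le_right))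
    have hzQ' : z ∉ Q := fun h => hzQ ⟨hz, h⟩
    have hzC : z ∈ CL M := by
      refine ⟨hTXQ hz, fun l x hx => ?_⟩
      by_cases h : l = i
      · subst h
        have h1 := inv_mem (mem_inf.1 (hzf x (hQLTX hx))).2
        have e : (x * z * x⁻¹ * z⁻¹)⁻¹ = z * x * z⁻¹ * x⁻¹ := by group
        rwa [e] at h1
      · exact hcomm' z hz x (hQLC l h hx)
    have hzS : z ∈ SLQ M := mem_SLQ M hC hall (hTX2.to_le (zpowers_le.2 hz)) (zpowers_le.2 hzC) (mem_zpowers z)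
    obtain ⟨hzst, b, hb⟩ := up_of_comm M hC hu (SLQ_le_S M hC hzS) (hzC.2 i)
    have hzV : ∀ v ∈ V₁, z * v * z⁻¹ ∈ V₁ := fun v hv => (mem_normalizer_iff.1 (hTXN hz) v).1 hv
    have hb0 : b ≠ 0 := by
      rintro rfl
      apply hzQ'
      apply hOQ
      apply hTXC
      refine ⟨hz, mem_centralizer_iff.2 fun v hv => ?_⟩
      have h1 : z * v * z⁻¹ = v := by
        refine ext_fac M.toNatV (hzV v hv) hv ?_
        rw [hb v hv, up_zero, ap_one]
      exact (mul_inv_eq_iff_eq_mul.1 h1).symm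
    refine le_nor_of fun t ht r hr => ?_
    have hrV := hRV hr
    have htr : t * r * t⁻¹ ∈ V₁ := (mem_normalizer_iff.1 (hTXN ht) r).1 hrV
    have hzr : z * r * z⁻¹ = r := by
      refine ext_fac M.toNatV (hzV r hrV) hrV ?_
      rw [hb r hrV]
      apply NatPair.ext2
      · rw [NatPair.ap_zero', up_00, up_01, ((mem_line M.toNatV).1 hr).2]
        simp
      · rw [NatPair.ap_one', up_10, up_11]
        simp
    have hq := (mem_inf.1 (hzf t ht)).2
    have h1 : z * (t * r * t⁻¹) * z⁻¹ = t * r * t⁻¹ := by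
      have h2 := o2P_comm M hq (hVz (hzV _ htr))
      have h3 : t * (z * r * z⁻¹) * t⁻¹ =
          (t * z * t⁻¹ * z⁻¹) * (z * (t * r * t⁻¹) * z⁻¹) * (t * z * t⁻¹ * z⁻¹)⁻¹ := by group
      rw [h2, hzr] at h3
      calc z * (t * r * t⁻¹) * z⁻¹
          = z * (t * r * t⁻¹) * z⁻¹ * (t * z * t⁻¹ * z⁻¹) * (t * z * t⁻¹ * z⁻¹)⁻¹ := by group
        _ = t * r * t⁻¹ := h3.symm
    rw [hR, mem_line]
    refine ⟨htr, ?_⟩
    have h4 := hb _ htr
    rw [h1] at h4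
    have h5 := congrFun h4 0
    rw [NatPair.ap_zero', up_00, up_01] at h5
    have h6 : b * M.e (t * r * t⁻¹) i 1 = 0 := by linear_combination -h5
    exact (mul_eq_zero.1 h6).resolve_left hb0
  -- `TX ≤ T`
  have hTXT : TX ≤ T := by
    have h1 : TX ≤ GF M := by
      intro t ht
      rw [mem_GF]
      refine ⟨hTXQ ht, fun l => ?_⟩
      by_cases h : l = i
      · subst h
        exact le_normalizer_sup' (hTXR.trans (nor_line_le M _)) hTXQ ht
      · refine le_nor_of (K := TX) (fun t ht x hx => ?_) ht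
        have hx' : x ∈ C₁ := (sup_le (hQLC l h) hQC) hx
        have e : t * x * t⁻¹ = (t * x * t⁻¹ * x⁻¹) * x := by group
        rw [e]
        exact mul_mem (mem_sup_right (hcomm' t ht x hx')) hx
    have h2 : GF M ⊓ (S : Subgroup G) ≤ T := inf_GF_le M hC hu
    have h3 : ¬ 2 ∣ (GF M ⊓ (S : Subgroup G)).relIndex (GF M) :=
      TwoPlus.not_dvd_inf (H := GF M ⊔ (S : Subgroup G)) le_sup_right
        (MinSimple.Basic.not_dvd_relIndex S le_sup_right) le_sup_left (sup_le le_normalizer (S_normalizes_GF M))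
    have h4 : IsPGroup 2 ↥(TX ⊔ GF M ⊓ (S : Subgroup G)) :=
      hTX2.to_sup_of_normal_left' (hT2.to_le h2) (h2.trans hTTX)
    exact (le_sup_left.trans (two_le_of h4 le_sup_right (sup_le h1 inf_le_left) h3)).trans h2
  -- `r`
  have hR2 : IsPGroup 2 R := (S.isPGroup'.to_le (V_le_S M)).to_le (hRV.trans (fac_le _ _))
  obtain ⟨r, hr, hr1, hrc⟩ := Half.exists_fixed hR2 (line_ne_bot' (M := M.toNatV) i) hT2
    (stab_normalizes_line M.toNatV (SP M) i)
  have hrf : r ∈ V₁ := hRV hr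
  have hrS : ∀ t ∈ T, t * r = r * t := fun t ht => mul_inv_eq_iff_eq_mul.1 (hrc t ht)
  set H : Subgroup G := centralizer ({r} : Set G) with hH
  have hTH : T ≤ H := fun t ht => mem_centralizer_singleton_iff.2 (hrS t ht)
  set O : Subgroup G := o2 (X ⊓ H) with hOdef
  have hOT : O ≤ T := by
    have h1 : TX ≤ X ⊓ H := le_inf hTXX (hTXT.trans hTH)
    have h2 : ¬ 2 ∣ TX.relIndex (X ⊓ H) := fun h => hTXs (h.trans
      ⟨_, (Subgroup.relIndex_mul_relIndex TX (X ⊓ H) X h1 inf_le_left).symm⟩)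
    exact (VModule.o2_le_of_sylow hTX2 h2).trans hTXT
  refine nm_of_o2 (pre M.toNatV i) hrf hr1 (o2_isPGroup _ : IsPGroup 2 O) (hOT.trans hTN)
    (fun o ho => Nm_stab (SP M) M.toNatV i o (hOT ho)) (fun o ho => hrS o (hOT ho)) (fun n hn hnr => ?_) ?_
  · have h1 : n ∈ normalizer (H : Set G) := le_normalizer (mem_centralizer_singleton_iff.2 hnr)
    refine ZN.normalizer_le_normalizer_o2 _ ?_
    exact Half.le_normalizer_inf (K := N₁ ⊓ normalizer (H : Set G)) (inf_le_left.trans hNX) inf_le_right ⟨hn, h1⟩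
  -- `O` does not centralise `V₁`
  intro hcen
  have hu' := hu
  obtain ⟨c, hc, v, hv, w, hw, hne⟩ := hu'
  have hQLR : QL M i ≤ centralizer (R : Set G) := fun y hy => o2_cent_line' M i hy
  have hCRH : centralizer (R : Set G) ≤ H := by
    intro x hx
    exact mem_centralizer_singleton_iff.2 (mem_centralizer_iff.1 hx r hr).symm
  refine core M.hG hRV hr hr1 (fun x hx y hy => NV.comm M.toNatV hx.1 hy.1) (fun x hx => NV.sq M.toNatV hx.1)
    (fun x hx hx1 => ?_) (fac_le_QL_self M hC i) hQLR ?_ hc ?_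
  · obtain ⟨d, hd, hd', hdr⟩ := exists_tor M.toNatV hr hx hr1 hx1
    exact ⟨d, hgN i hd, hd', hdr⟩
  · intro q hq hqR v hv
    have h3 : o2 H ⊓ centralizer (R : Set G) ≤ QL M i := by
      have h4 : o2 H ⊓ centralizer (R : Set G) ≤ ZN.o2 (centralizer (R : Set G)) := by
        refine VModule.le_o2 inf_le_right ((o2_isPGroup H).to_le inf_le_left) ?_
        exact Half.le_normalizer_inf (hCRH.trans (ZN.le_normalizer_o2 H)) le_normalizer
      refine h4.trans (VModule.le_o2 ((ZN.o2_le _).trans (centralizer_le_normalizer _)) (o2_isPGroup _) ?_)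
      exact (NLFree.le_normalizer_cent le_rfl).trans (ZN.normalizer_le_normalizer_o2 _)
    have h5 : q ∈ X := hQLX (h3 ⟨hq, hqR⟩)
    have h6 : o2 H ⊓ X ≤ O := by
      refine VModule.le_o2 (le_inf inf_le_right (inf_le_left.trans (ZN.o2_le _)))
        ((o2_isPGroup H).to_le inf_le_left) ?_
      exact Half.le_normalizer_inf (inf_le_right.trans (ZN.le_normalizer_o2 H)) (inf_le_left.trans le_normalizer)
    exact mem_centralizer_iff.1 (hcen (h6 ⟨hq, h5⟩)) v hv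
  · intro ρ hρ
    have hcw : c * w * c⁻¹ ∈ o2 (normalizer (line M.toNatV i : Set G)) :=
      (mem_normalizer_iff.1 (ZN.le_normalizer_o2 _ hc) w).1 (fac_le_QL_self M hC i hw)
    obtain ⟨v', hv', e⟩ := line_le_comm (M := M.toNatV) (i := i) (o2_up_big M hC hcw)
      (stab_normalizes _ i (QL_le_stab M hC i hcw)) ⟨v, hv, hne⟩ hρ
    exact ⟨v', hv', w, hw, by rw [← e, commutatorElement_def]⟩

end big

end Cfsg.Agent.Omega.IId.NV

namespace Cfsg.Agent.Omega.IId.Cv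

universe u

/-- **`NmBig`** -/
theorem nmBig : NmBig.{u} := fun _ _ _ _ _ _ _ _ _ _ _ _ M hC _ hu _ => NV.nm_big M hC hu

end Cfsg.Agent.Omega.IId.Cv

end

-- merged: Cfsg.Agent.Mrg.Omega.IId.CvBig.CElOf
section

section


/-!
# CvBig, mixed pairs: THEOREM C for the elements of a factor, all `q`, `k`, `D` (helper468, bb OMEGA #21415)

`M : NatD F S P V D k`, `M' : NatD F' S' P' V' D' k'`, `O₂(N_G(R)) ≤ S`, `S'` for the lines, `L : LineD M M' i i'`, `V_i` mixed.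

* `le_o2_of_chain'` : the elements of `H` which stabilise `O₂(H) ≥ C ≥ 1` lie in `O₂(H)`;
* `zz_le_QL` : `Ω₁Z(O₂(P)) ≤ O₂(N_G(R_i))`, `V_i` mixed;
* `full_fac`, `full_KX` : `V'_{i'}`, `KX(R_i)` induce the root group on `V_i`;
* `thC_of` : **`ThC M i`**;
* `mixK_end` : mixed pairs are impossible if a Sylow 2-subgroup of `N_G(R)` normalises `V_i`, `k ≥ 2`.
-/

set_option autoImplicit false
set_option linter.unusedSectionVars false

namespace Cfsg.Agent.Omega.IId.NV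

open Subgroup Cfsg Cfsg.Agent.ZN Cfsg.Agent.ZN.ChoiceBase
open Cfsg.Agent.Omega.MinPar Cfsg.Agent.Omega.FFThm
open Cfsg.Agent.Lib.SL2Mat
open Cfsg.Agent.MinSimple
open Cfsg.Agent.Omega.NatPair (ap ap_mul ap_one ap_inv_ap ap_ap_inv exists_ap ap_add ext2 ap_zero' ap_one')
open Cfsg.Agent.MinSimple.VModule (zc_le zc_comm zc_sq zc_le_zl le_normalizer_o2 o2_isPGroup o2_le
  normalizer_le_normalizer_zc le_normalizer_zl)
open Cfsg.Agent.Omega.IId.Cv (LineD UnM)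
open Cfsg.Agent.Omega.IId.M4 (toRMod toRMod_line nmG)
open Cfsg.Agent.Omega.IId.FourSide (vec_ne)
open Cfsg.Agent.Omega.Mix (RMutual)
open Cfsg.Agent.Omega.IId.ThmCD (nor_centralizer nor_inf nor_o2)
open Cfsg.Agent.Omega.IITwo.Count (conj_mem conj_mem' mem_norm)

universe u

/-! ### The chain -/

section chain

variable {G : Type u} [Group G] [Finite G]

/-- **The elements of `H` which stabilise `O₂(H) ≥ C ≥ 1` lie in `O₂(H)`.** -/
theorem le_o2_of_chain' {H C : Subgroup G} (hc : H ⊓ centralizer (o2 H : Set G) ≤ o2 H)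
    (hn : H ≤ normalizer (C : Set G)) {y : G} (hy : y ∈ H) (h1 : ∀ q ∈ o2 H, q * y * q⁻¹ * y⁻¹ ∈ C)
    (h2 : ∀ c ∈ C, c * y = y * c) (hCQ : C ≤ o2 H) : y ∈ o2 H := by
  let Y : Subgroup G :=
    { carrier := {h | h ∈ H ∧ (∀ q ∈ o2 H, q * h * q⁻¹ * h⁻¹ ∈ C) ∧ ∀ c ∈ C, c * h = h * c}
      one_mem' := ⟨one_mem _, fun q _ => by
        have e : q * 1 * q⁻¹ * 1⁻¹ = 1 := by group
        rw [e]; exact one_mem _, fun c _ => by rw [mul_one, one_mul]⟩
      mul_mem' := by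
        rintro a b ⟨ha, ha1, ha2⟩ ⟨hb, hb1, hb2⟩
        refine ⟨mul_mem ha hb, fun q hq => ?_, fun c hc => by
          rw [← mul_assoc, ha2 c hc, mul_assoc, hb2 c hc, mul_assoc]⟩
        have h3 := ha2 _ (hb1 q hq)
        have e : q * (a * b) * q⁻¹ * (a * b)⁻¹ = (q * a * q⁻¹ * a⁻¹) * (a * (q * b * q⁻¹ * b⁻¹) * a⁻¹) := by group
        rw [e, ← h3, mul_inv_cancel_right]
        exact mul_mem (ha1 q hq) (hb1 q hq)
      inv_mem' := by
        rintro a ⟨ha, ha1, ha2⟩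
        have h4 : ∀ c ∈ C, c * a⁻¹ = a⁻¹ * c := fun c hc => (show Commute c a from ha2 c hc).inv_right
        refine ⟨inv_mem ha, fun q hq => ?_, h4⟩
        have h3 := ha1 q hq
        have h5 := h4 _ (inv_mem h3)
        have e : q * a⁻¹ * q⁻¹ * a⁻¹⁻¹ = a⁻¹ * (q * a * q⁻¹ * a⁻¹)⁻¹ * a := by group
        rw [e, ← h5, inv_mul_cancel_right]
        exact inv_mem h3 }
  have hYH : Y ≤ H := fun h hh => hh.1
  have hYn : H ≤ normalizer (Y : Set G) := by
    intro g hg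
    refine mem_norm ?_
    rintro h ⟨hh, hh1, hh2⟩
    refine ⟨mul_mem (mul_mem hg hh) (inv_mem hg), fun q hq => ?_, fun c hc' => ?_⟩
    · have h3 := conj_mem (hn hg) (hh1 _ (conj_mem' (VModule.le_normalizer_o2 H hg) hq))
      have e : g * (g⁻¹ * q * g * h * (g⁻¹ * q * g)⁻¹ * h⁻¹) * g⁻¹ = q * (g * h * g⁻¹) * q⁻¹ * (g * h * g⁻¹)⁻¹ := by
        group
      rwa [e] at h3
    · have h3 := hh2 _ (conj_mem' (hn hg) hc')
      calc c * (g * h * g⁻¹) = g * (g⁻¹ * c * g * h) * g⁻¹ := by group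
        _ = g * (h * (g⁻¹ * c * g)) * g⁻¹ := by rw [h3]
        _ = g * h * g⁻¹ * c := by group
  obtain ⟨e, he⟩ := IsPGroup.iff_card.1 (o2_isPGroup H)
  have hpow : ∀ q ∈ o2 H, q ^ 2 ^ e = 1 := by
    intro q hq
    have h3 : (⟨q, hq⟩ : o2 H) ^ Nat.card (o2 H) = 1 := pow_card_eq_one'
    rw [he] at h3
    exact congrArg Subtype.val h3
  have hY2 : IsPGroup 2 Y := by
    rintro ⟨h, hh, hh1, hh2⟩
    have h3 : h ^ 2 ^ e ∈ o2 H := by
      refine hc ⟨pow_mem hh _, mem_centralizer_iff.2 fun q hq => ?_⟩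
      set c := q * h * q⁻¹ * h⁻¹ with hcd
      have hcC : c ∈ C := hh1 q hq
      have e1 : q * h * q⁻¹ = c * h := by rw [hcd]; group
      have e2 : q * h ^ 2 ^ e * q⁻¹ = h ^ 2 ^ e := by
        calc q * h ^ 2 ^ e * q⁻¹ = (q * h * q⁻¹) ^ 2 ^ e := by rw [conj_pow]
          _ = c ^ 2 ^ e * h ^ 2 ^ e := by rw [e1, (show Commute c h from hh2 c hcC).mul_pow]
          _ = h ^ 2 ^ e := by rw [hpow c (hCQ hcC), one_mul]
      exact mul_inv_eq_iff_eq_mul.1 e2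
    obtain ⟨n, hn'⟩ := o2_isPGroup H ⟨_, h3⟩
    refine ⟨e + n, ?_⟩
    have h4 : (h ^ 2 ^ e) ^ 2 ^ n = 1 := congrArg Subtype.val hn'
    ext
    change h ^ 2 ^ (e + n) = 1
    rw [pow_add, pow_mul]
    exact h4
  exact VModule.le_o2 hYH hY2 hYn ⟨hy, h1, h2⟩

/-- conjugates of `KX R` -/
theorem conj_mem_KX {R : Subgroup G} {a s : G} (ha : a ∈ KX R) : s * a * s⁻¹ ∈ KX (cj s R) := by
  obtain ⟨h1, h2⟩ := mem_KX.1 ha
  refine mem_KX.2 ⟨fun y hy => ?_, fun q hq => ?_⟩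
  · rw [mem_cj] at hy
    have h3 := h1 _ hy
    calc s * a * s⁻¹ * y = s * (a * (s⁻¹ * y * s)) * s⁻¹ := by group
      _ = s * (s⁻¹ * y * s * a) * s⁻¹ := by rw [h3]
      _ = y * (s * a * s⁻¹) := by group
  · rw [← cj_normalizer, ChoiceBase.pCore_cj, mem_cj] at hq
    rw [mem_cj]
    have h3 := h2 _ hq
    have e : a * (s⁻¹ * q * s) * a⁻¹ * (s⁻¹ * q * s)⁻¹ = s⁻¹ * (s * a * s⁻¹ * q * (s * a * s⁻¹)⁻¹ * q⁻¹) * s := by
      group
    rwa [e] at h3

end chain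

/-! ### `Ω₁Z(O₂(P)) ≤ O₂(N_G(R))` -/

section one

variable {G : Type u} [Group G] [Finite G] {F : Type} [Field F] [CharP F 2] {S : Sylow 2 G} {P V D : Subgroup G}
  {k : ℕ} (M : NatD F S P V D k) (hC : ∀ i, QL M i ≤ (S : Subgroup G))

include hC

/-- an element of `O₂(N_G(R_i))` which centralises `V_i` centralises `Ω₁Z(O₂(P))` -/
theorem comm_zz_of_fac {i : Fin k} {c : G} (hc : c ∈ QL M i) (hci : ∀ v ∈ fac M.toNatV i, c * v = v * c) {z : G}
    (hz : z ∈ zc (o2 P)) : c * z = z * c := by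
  refine comm_zz M (QL_le_P M hC i hc) (fun v hv => ?_) hz
  rw [← iSup_fac M.toNatV] at hv
  have h3 : ⨆ l, fac M.toNatV l ≤ centralizer ({c} : Set G) := by
    refine iSup_le fun l v hv => mem_centralizer_singleton_iff.2 ?_
    by_cases hl : l = i
    · rw [hl] at hv
      exact (hci v hv).symm
    · exact (QL_comm M hC hl hc hv).symm
  exact (mem_centralizer_singleton_iff.1 (h3 hv)).symm

/-- **`Ω₁Z(O₂(P)) ≤ O₂(N_G(R_i))`** if `V_i` is mixed -/
theorem zz_le_QL {i : Fin k} (hu : ¬ UnM M i) : zc (o2 P) ≤ QL M i := by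
  intro y hy
  set H := normalizer (line M.toNatV i : Set G) with hH
  set T : Set G := {x | ∃ g ∈ H, ∃ v ∈ fac M.toNatV i, g * v * g⁻¹ = x} with hT
  have hTg : ∀ g ∈ H, ∀ x ∈ T, g * x * g⁻¹ ∈ T := by
    rintro g hg _ ⟨h, hh, v, hv, rfl⟩
    exact ⟨g * h, mul_mem hg hh, v, hv, by group⟩
  have hVT : ∀ v ∈ fac M.toNatV i, v ∈ T := fun v hv => ⟨1, one_mem _, v, hv, by group⟩
  have hTQ : ∀ x ∈ T, x ∈ QL M i := by
    rintro _ ⟨g, hg, v, hv, rfl⟩
    exact conj_mem (nor_line_le M i hg) (fac_le_QL_self M hC i hv)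
  have hTV : ∀ x ∈ T, ∀ v ∈ fac M.toNatV i, x * v = v * x := by
    rintro _ ⟨g, hg, w, hw, rfl⟩ v hv
    by_contra hne
    exact hu ⟨g, hg, v, hv, w, hw, Ne.symm hne⟩
  have hyH : y ∈ H := by
    refine centralizer_le_normalizer _ (mem_centralizer_iff.2 fun r hr => ?_)
    exact zc_comm _ r (V_le_zz M (fac_le _ _ (line_le _ _ hr))) y hy
  have hTy : ∀ x ∈ T, x * y = y * x := fun x hx => comm_zz_of_fac M hC (hTQ x hx) (hTV x hx) hy
  refine le_o2_of_chain' (C := QL M i ⊓ centralizer T) (char2_line' M i) (fun g hg => ?_) hyH (fun q hq => ?_)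
    (fun c hc => ?_) inf_le_left
  · refine nor_inf (nor_line_le M i hg) (nor_centralizer (hTg g hg) fun x hx => ?_)
    have := hTg _ (inv_mem hg) x hx
    rwa [inv_inv] at this
  · have hqH : q ∈ H := VModule.o2_le _ hq
    refine ⟨?_, mem_centralizer_iff.2 fun x hx => ?_⟩
    · have h1 : y * q⁻¹ * y⁻¹ ∈ QL M i := conj_mem (nor_line_le M i hyH) (inv_mem hq)
      have e : q * y * q⁻¹ * y⁻¹ = q * (y * q⁻¹ * y⁻¹) := by group
      rw [e]
      exact mul_mem hq h1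
    · have h1 := hTy _ (by
        have := hTg _ (inv_mem hqH) x hx
        rwa [inv_inv] at this)
      have h2 : x * y⁻¹ = y⁻¹ * x := (show Commute x y from hTy x hx).inv_right
      calc x * (q * y * q⁻¹ * y⁻¹) = q * (q⁻¹ * x * q * y) * q⁻¹ * y⁻¹ := by group
        _ = q * (y * (q⁻¹ * x * q)) * q⁻¹ * y⁻¹ := by rw [h1]
        _ = q * y * q⁻¹ * (x * y⁻¹) := by group
        _ = q * y * q⁻¹ * y⁻¹ * x := by rw [h2]; group
  · exact comm_zz_of_fac M hC hc.1 (fun v hv => (mem_centralizer_iff.1 hc.2 v (hVT v hv)).symm) hy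

end one

/-! ### The root groups -/

section full

variable {G : Type u} [Group G] [Finite G] {F F' : Type} [Field F] [Finite F] [CharP F 2] [Field F'] [Finite F']
  [CharP F' 2] {S S' : Sylow 2 G} {P V D P' V' D' : Subgroup G} {k k' : ℕ}

/-- **`V'_{i'}` induces the root group on `V_i`.** -/
theorem full_fac {M : NatD F S P V D k} {M' : NatD F' S' P' V' D' k'} {i : Fin k} {i' : Fin k'}
    (L : LineD M M' i i') (hC : ∀ i, QL M i ≤ (S : Subgroup G)) (hC' : ∀ i, QL M' i ≤ (S' : Subgroup G)) (b : F) :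
    ∃ a ∈ fac M'.toNatV i', ∀ v ∈ fac M.toNatV i, a * v * a⁻¹ ∈ fac M.toNatV i ∧
      M.e (a * v * a⁻¹) i = ap (up b) (M.e v i) := by
  have hQ : QL M i ≤ nmG (pre M.toNatV i) := (QL_le_stab M hC i).trans (stab_le_nmG (SP M) M.toNatV i)
  have hQ' : QL M' i' ≤ nmG (pre M'.toNatV i') := (QL_le_stab M' hC' i').trans (stab_le_nmG (SP M') M'.toNatV i')
  have hm : RMutual (fac M.toNatV i) (fac M'.toNatV i') (nmG (pre M.toNatV i)) (nmG (pre M'.toNatV i')) := by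
    refine ⟨L.le'.trans hQ, ?_, L.ne⟩
    have h1 := L.le
    rw [L.eq'] at h1
    exact h1.trans hQ'
  obtain ⟨-, w, w', hq, hq', e1, e2⟩ := Cfsg.Agent.Omega.Mix.pair (toRMod (pre M.toNatV i)) (toRMod (pre M'.toNatV i')) hm
  have hR1 : line M.toNatV i = (toRMod (pre M.toNatV i)).line ![1, 0] := by rw [toRMod_line, pre_line]
  have hRV : line M.toNatV i ≤ fac M.toNatV i := line_le M.toNatV i
  have hRV' : line M.toNatV i ≤ fac M'.toNatV i' := by
    rw [L.eq']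
    exact line_le M'.toNatV i'
  have hinf : line M.toNatV i = (toRMod (pre M.toNatV i)).line w := by
    rw [← e1]
    refine Subgroup.eq_of_le_of_card_ge (le_inf hRV hRV') ?_
    rw [e1, Cfsg.Agent.Omega.Mix.RMod.card_line _ hq.ne, hR1, Cfsg.Agent.Omega.Mix.RMod.card_line _ vec_ne]
  -- `w` is a multiple of `(1, 0)`
  have hw1 : w 1 = 0 := by
    have h1 : (pre M.toNatV i).e w ∈ line M.toNatV i := by
      rw [hinf]
      exact ⟨1, by rw [one_smul]; rfl⟩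
    have h2 := ((mem_line _).1 h1).2
    rwa [pre_e] at h2
  have hw : ap (up b) w = w := by
    apply ext2
    · rw [ap_zero']; simp [hw1]
    · rw [ap_one']; simp [hw1]
  obtain ⟨a, ha, haB⟩ := hq.full (up b) hw
  refine ⟨a, ha, fun v hv => ?_⟩
  · have hve : (pre M.toNatV i).e (M.e v i) = v := ext_fac M.toNatV ((pre M.toNatV i).e_mem _) hv (pre_e _ _ _)
    have h1 : a * (pre M.toNatV i).e (M.e v i) * a⁻¹ = (pre M.toNatV i).e (ap (up b) (M.e v i)) := haB _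
    rw [hve] at h1
    rw [h1]
    exact ⟨(pre M.toNatV i).e_mem _, pre_e _ _ _⟩

/-- **`KX(R)` induces the root group on `V_i`.** -/
theorem full_KX {M : NatD F S P V D k} {M' : NatD F' S' P' V' D' k'} {i : Fin k} {i' : Fin k'}
    (L : LineD M M' i i') (hC : ∀ i, QL M i ≤ (S : Subgroup G)) (hC' : ∀ i, QL M' i ≤ (S' : Subgroup G)) (b : F) :
    ∃ a ∈ KX (line M.toNatV i), ∀ v ∈ fac M.toNatV i, a * v * a⁻¹ ∈ fac M.toNatV i ∧
      M.e (a * v * a⁻¹) i = ap (up b) (M.e v i) := by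
  obtain ⟨a, ha, h⟩ := full_fac L hC hC' b
  refine ⟨a, ?_, h⟩
  rw [L.eq']
  exact fac_le_KX_self M' hC' i' ha

end full

/-! ### All factors -/

section all

variable {G : Type u} [Group G] [Finite G] {F : Type} [Field F] [Finite F] [CharP F 2] {S : Sylow 2 G}
  {P V D : Subgroup G} {k : ℕ} (M : NatD F S P V D k)

/-- the data at one factor -/
structure FullAt (m : Fin k) : Prop where
  zz : zc (o2 P) ≤ QL M m
  full : ∀ u ∈ fac M.toNatV m, u ∉ line M.toNatV m → ∀ r ∈ line M.toNatV m,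
    ∃ a ∈ KX (line M.toNatV m), a * u * a⁻¹ * u⁻¹ = r

variable {M}

theorem fullAt_of {F' : Type} [Field F'] [Finite F'] [CharP F' 2] {S' : Sylow 2 G} {P' V' D' : Subgroup G} {k' : ℕ}
    {M' : NatD F' S' P' V' D' k'} {i : Fin k} {i' : Fin k'}
    (L : LineD M M' i i') (hC : ∀ i, QL M i ≤ (S : Subgroup G)) (hC' : ∀ i, QL M' i ≤ (S' : Subgroup G))
    (hu : ¬ UnM M i) : FullAt M i where
  zz := zz_le_QL M hC hu
  full u hu hul r hr := by
    have hu1 : M.e u i 1 ≠ 0 := fun h => hul ((mem_line _).2 ⟨hu, h⟩)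
    obtain ⟨a, ha, hau⟩ := full_KX L hC hC' (M.e r i 0 / M.e u i 1)
    refine ⟨a, ha, ext_fac M.toNatV (mul_mem (hau u hu).1 (inv_mem hu)) (line_le _ _ hr) ?_⟩
    rw [M.mul _ (hau u hu).1.1 _ (inv_mem hu.1), Pi.add_apply, (hau u hu).2, e_inv M.toNatV hu.1, Pi.neg_apply]
    apply ext2
    · rw [Pi.add_apply, ap_zero', Pi.neg_apply, up_00, up_01]
      field_simp
      ring
    · rw [Pi.add_apply, ap_one', Pi.neg_apply, up_10, up_11, ((mem_line _).1 hr).2]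
      ring

/-- transport to the other factors -/
theorem FullAt.all {i : Fin k} (h : FullAt M i) (m : Fin k) : FullAt M m := by
  obtain ⟨s, hs, hsm⟩ := exists_trans M.toNatV (SP M) i m
  have hsg : sg M.toNatV (SP M hs) i = m := (sg_eq_iff M.toNatV (SP M hs)).2 hsm
  have hline : cj s (line M.toNatV i) = line M.toNatV m := by rw [conj_line M.toNatV (SP M) hs, hsg]
  refine ⟨fun y hy => ?_, fun u hu hul r hr => ?_⟩
  · have h1 : y ∈ cj s (QL M i) := by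
      rw [mem_cj]
      refine h.zz ?_
      exact conj_mem' (zz_nor P (SP M hs)) hy
    rw [cj_QL, hline] at h1
    exact h1
  · have h1 : s⁻¹ * u * s ∈ fac M.toNatV i := by rw [← mem_cj, hsm]; exact hu
    have h2 : s⁻¹ * u * s ∉ line M.toNatV i := by rw [← mem_cj, hline]; exact hul
    have h3 : s⁻¹ * r * s ∈ line M.toNatV i := by rw [← mem_cj, hline]; exact hr
    obtain ⟨a, ha, e⟩ := h.full _ h1 h2 _ h3
    refine ⟨s * a * s⁻¹, ?_, ?_⟩
    · rw [← hline]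
      exact conj_mem_KX ha
    · calc s * a * s⁻¹ * u * (s * a * s⁻¹)⁻¹ * u⁻¹ = s * (a * (s⁻¹ * u * s) * a⁻¹ * (s⁻¹ * u * s)⁻¹) * s⁻¹ := by group
        _ = r := by rw [e]; group

/-- the components of a central element of `S` -/
theorem exists_zel (M : NatD F S P V D k) : ∃ z : Fin k → G, (∀ m, z m ∈ fac M.toNatV m) ∧ (∀ m, z m ≠ 1) ∧
    ∀ (s : G) (hs : s ∈ (S : Subgroup G)) (m : Fin k), s * z m * s⁻¹ = z (sg M.toNatV (SP M hs) m) := by
  by_cases hk : k = 0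
  · subst hk
    exact ⟨fun m => m.elim0, fun m => m.elim0, fun m => m.elim0, fun _ _ m => m.elim0⟩
  have i₀ : Fin k := ⟨0, Nat.pos_of_ne_zero hk⟩
  have hSV : (S : Subgroup G) ≤ normalizer (V : Set G) := (SP M).trans M.nV
  have hV1 : V ≠ ⊥ := fun h => fac_ne_bot M.toNatV i₀ (by rw [eq_bot_iff, ← h]; exact fac_le _ _)
  obtain ⟨z, hz, hz1, hzS⟩ := Half.exists_fixed (V_two M) hV1 S.isPGroup' hSV
  have hzS' : ∀ s ∈ (S : Subgroup G), s * z = z * s := fun s hs => mul_inv_eq_iff_eq_mul.1 (hzS s hs)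
  have hzl : ∀ l, M.e z l ≠ 0 := fun l h => hz1 (eq_one_of_cent M.toNatV hz hzS' h)
  choose a ha hae hac using fun m => exists_component M.toNatV hz m
  refine ⟨a, ha, fun m h => hzl m ?_, fun s hs m => ?_⟩
  · rw [← hae m, h, e_one]; rfl
  · have hsP := SP M hs
    have h1 : s * a m * s⁻¹ ∈ fac M.toNatV (sg M.toNatV hsP m) := by
      rw [← conj_fac M.toNatV hsP, mem_cj]
      have e : s⁻¹ * (s * a m * s⁻¹) * s = a m := by group
      rw [e]; exact ha m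
    refine ext_fac M.toNatV h1 (ha _) ?_
    have h2 : M.e (s * ((a m)⁻¹ * z) * s⁻¹) (sg M.toNatV hsP m) = 0 := by
      rw [sg_spec M.toNatV hsP (mul_mem (inv_mem (ha m).1) hz), M.mul _ (inv_mem (ha m).1) _ hz,
        e_inv M.toNatV (ha m).1, Pi.add_apply, Pi.neg_apply, hae, neg_add_cancel]
    have e : s * ((a m)⁻¹ * z) * s⁻¹ = (s * a m * s⁻¹)⁻¹ * z := by
      calc s * ((a m)⁻¹ * z) * s⁻¹ = (s * a m * s⁻¹)⁻¹ * (s * z * s⁻¹) := by group
        _ = (s * a m * s⁻¹)⁻¹ * z := by rw [hzS s hs]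
    rw [e, M.mul _ (inv_mem h1.1) _ hz, e_inv M.toNatV h1.1, Pi.add_apply, Pi.neg_apply, neg_add_eq_zero] at h2
    rw [h2, hae]

/-- `X_m = ⟨KX(R_m)^L⟩` -/
def XX (M : NatD F S P V D k) (m : Fin k) : Subgroup G :=
  closure {x | ∃ g ∈ grp M.toNatV {m}, ∃ a ∈ KX (line M.toNatV m), g * a * g⁻¹ = x}

theorem mem_XX {m : Fin k} {g a : G} (hg : g ∈ grp M.toNatV {m}) (ha : a ∈ KX (line M.toNatV m)) :
    g * a * g⁻¹ ∈ XX M m := subset_closure ⟨g, hg, a, ha, rfl⟩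

/-- `[v, X_m] = V_m` for `1 ≠ v ∈ V_m` -/
theorem XX_full {m : Fin k} (h : FullAt M m) {u v : G} (hu : u ∈ fac M.toNatV m) (hv : v ∈ fac M.toNatV m)
    (hd : M.e u m 0 * M.e v m 1 ≠ M.e u m 1 * M.e v m 0) : ∃ x ∈ XX M m, x * u * x⁻¹ * u⁻¹ = v := by
  have hv0 : M.e v m ≠ 0 := by
    intro h0
    apply hd
    rw [h0]
    simp
  obtain ⟨A, hA⟩ := exists_ap (x := ![1, 0]) (y := M.e v m) (F := F) vec_ne hv0
  obtain ⟨g, hg, hgA⟩ := exists_lift M.toNatV m A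
  have hgn := grp_normalizes M.toNatV {m} {m} hg
  have hu' : g⁻¹ * u * g ∈ fac M.toNatV m := conj_mem' hgn hu
  have hv' : g⁻¹ * v * g ∈ fac M.toNatV m := conj_mem' hgn hv
  have e1 : g * (g⁻¹ * u * g) * g⁻¹ = u := by group
  have e2 : g * (g⁻¹ * v * g) * g⁻¹ = v := by group
  have h1 := hgA _ hu'.1
  have h2 := hgA _ hv'.1
  rw [e1] at h1
  rw [e2, ← hA] at h2
  have h3 : M.e (g⁻¹ * v * g) m = ![1, 0] := by
    have := congrArg (ap A⁻¹) h2
    rw [ap_inv_ap, ap_inv_ap] at this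
    exact this.symm
  have hvl : g⁻¹ * v * g ∈ line M.toNatV m := (mem_line _).2 ⟨hv', by rw [h3]; rfl⟩
  have hul : g⁻¹ * u * g ∉ line M.toNatV m := by
    intro hcon
    have h4 := ((mem_line _).1 hcon).2
    apply hd
    have h5 : M.e u m = M.e (g⁻¹ * u * g) m 0 • M.e v m := by
      have h6 : M.e (g⁻¹ * u * g) m = M.e (g⁻¹ * u * g) m 0 • ![1, 0] := by
        apply ext2
        · simp
        · rw [h4]; simp
      rw [h1, h6, NatPair.ap_smul, hA]
      simp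
    have h7 := congrFun h5 0
    have h8 := congrFun h5 1
    rw [Pi.smul_apply, smul_eq_mul] at h7 h8
    rw [h7, h8]
    ring
  obtain ⟨a, ha, e⟩ := h.full _ hu' hul _ hvl
  refine ⟨g * a * g⁻¹, mem_XX hg ha, ?_⟩
  calc g * a * g⁻¹ * u * (g * a * g⁻¹)⁻¹ * u⁻¹ = g * (a * (g⁻¹ * u * g) * a⁻¹ * (g⁻¹ * u * g)⁻¹) * g⁻¹ := by group
    _ = v := by rw [e]; group

/-- `V_m` is an irreducible `X_m`-module. -/
theorem XX_irr {m : Fin k} (h : FullAt M m) {U : Subgroup G} (hU : U ≤ fac M.toNatV m) (hU1 : U ≠ ⊥)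
    (hn : XX M m ≤ normalizer (U : Set G)) : fac M.toNatV m ≤ U := by
  obtain ⟨u, hu, hu1⟩ := (Subgroup.bot_or_exists_ne_one _).resolve_left hU1
  have key : ∀ u ∈ U, ∀ v ∈ fac M.toNatV m, M.e u m 0 * M.e v m 1 ≠ M.e u m 1 * M.e v m 0 → v ∈ U := by
    intro u hu v hv hd
    obtain ⟨x, hx, e⟩ := XX_full h (hU hu) hv hd
    rw [← e]
    exact mul_mem (conj_mem (hn hx) hu) (inv_mem hu)
  intro v hv
  by_cases hv1 : v = 1
  · rw [hv1]; exact one_mem _
  by_cases hd : M.e u m 0 * M.e v m 1 = M.e u m 1 * M.e v m 0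
  · have hu0 : M.e u m ≠ 0 := fun h0 => hu1 ((fac_eq_one M.toNatV (hU hu)).1 h0)
    have hv0 : M.e v m ≠ 0 := fun h0 => hv1 ((fac_eq_one M.toNatV hv).1 h0)
    by_cases ha : M.e u m 0 = 0
    · have hb : M.e u m 1 ≠ 0 := fun h0 => hu0 (ext2 ha h0)
      obtain ⟨u₁, hu₁, e₁⟩ := exists_fac M.toNatV m ![1, 0]
      have h1 := key u hu u₁ hu₁ (by rw [e₁]; simpa using Ne.symm hb)
      refine key u₁ h1 v hv ?_
      rw [e₁]
      simp only [Matrix.cons_val_zero, Matrix.cons_val_one, one_mul, zero_mul]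
      intro h0
      rw [h0, mul_zero] at hd
      exact hv0 (ext2 ((mul_eq_zero.1 hd.symm).resolve_left hb) h0)
    · obtain ⟨u₁, hu₁, e₁⟩ := exists_fac M.toNatV m ![0, 1]
      have h1 := key u hu u₁ hu₁ (by rw [e₁]; simpa using ha)
      refine key u₁ h1 v hv ?_
      rw [e₁]
      simp only [Matrix.cons_val_zero, Matrix.cons_val_one, one_mul, zero_mul]
      intro h0
      rw [← h0, mul_zero] at hd
      exact hv0 (ext2 h0.symm ((mul_eq_zero.1 hd).resolve_left ha))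
  · exact key u hu v hv hd

variable (hC : ∀ i, QL M i ≤ (S : Subgroup G))
include hC

theorem KX_le_QL (m : Fin k) : KX (line M.toNatV m) ≤ QL M m :=
  KX_le (char2_line' M m) fun _ hy => NV.sq M.toNatV ((mem_line _).1 hy).1.1

theorem XX_le_P (m : Fin k) : XX M m ≤ P := by
  rw [XX, closure_le]
  rintro _ ⟨g, hg, a, ha, rfl⟩
  exact mul_mem (mul_mem (grp_le _ _ hg) (QL_le_P M hC m (KX_le_QL hC m ha))) (inv_mem (grp_le _ _ hg))

theorem XX_comm {m l : Fin k} (hl : l ≠ m) {x v : G} (hx : x ∈ XX M m) (hv : v ∈ fac M.toNatV l) :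
    x * v = v * x := by
  have h1 : XX M m ≤ centralizer ({v} : Set G) := by
    rw [XX, closure_le]
    rintro _ ⟨g, hg, a, ha, rfl⟩
    refine mem_centralizer_singleton_iff.2 (cj_QL_comm M hC hl hg ?_ hv)
    rw [mem_cj]
    have e : g⁻¹ * (g * a * g⁻¹) * g = a := by group
    rw [e]
    exact KX_le_QL hC m ha
  exact mem_centralizer_singleton_iff.1 (h1 hx)

/-- `[Ω₁Z(O₂(P)), X_m] ≤ V_m` -/
theorem XX_zz {m : Fin k} (h : FullAt M m) {x y : G} (hx : x ∈ XX M m) (hy : y ∈ zc (o2 P)) :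
    x * y * x⁻¹ * y⁻¹ ∈ fac M.toNatV m := by
  have hVZ : fac M.toNatV m ≤ zc (o2 P) := (fac_le _ _).trans (V_le_zz M)
  rw [XX] at hx
  induction hx using closure_induction generalizing y with
  | mem x hx =>
    obtain ⟨g, hg, a, ha, rfl⟩ := hx
    have hgP := grp_le _ _ hg
    have h1 : g⁻¹ * y * g ∈ zc (o2 P) := conj_mem' (zz_nor P hgP) hy
    have h2 := (mem_KX.1 ha).2 _ (h.zz h1)
    have h3 := conj_mem (grp_normalizes M.toNatV {m} {m} hg) (line_le _ _ h2)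
    have e : g * (a * (g⁻¹ * y * g) * a⁻¹ * (g⁻¹ * y * g)⁻¹) * g⁻¹ = g * a * g⁻¹ * y * (g * a * g⁻¹)⁻¹ * y⁻¹ := by
      group
    rw [e] at h3
    exact h3
  | one =>
    have e : (1 : G) * y * 1⁻¹ * y⁻¹ = 1 := by group
    rw [e]; exact one_mem _
  | mul a b _ _ iha ihb =>
    have h1 := ihb hy
    have h2 := mul_mem (iha (hVZ h1)) h1
    have e1 : a * (b * y * b⁻¹ * y⁻¹) * a⁻¹ * (b * y * b⁻¹ * y⁻¹)⁻¹ * (b * y * b⁻¹ * y⁻¹) = a * (b * y * b⁻¹ * y⁻¹) * a⁻¹ := by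
      group
    rw [e1] at h2
    have e2 : a * b * y * (a * b)⁻¹ * y⁻¹ = a * (b * y * b⁻¹ * y⁻¹) * a⁻¹ * (a * y * a⁻¹ * y⁻¹) := by group
    rw [e2]
    exact mul_mem h2 (iha hy)
  | inv a ha iha =>
    have haP : a ∈ P := XX_le_P hC m (by rw [XX]; exact ha)
    have h1 : a⁻¹ * y * a ∈ zc (o2 P) := conj_mem' (zz_nor P haP) hy
    have h2 := iha h1
    have e : a * (a⁻¹ * y * a) * a⁻¹ * (a⁻¹ * y * a)⁻¹ = (a⁻¹ * y * a⁻¹⁻¹ * y⁻¹)⁻¹ := by group
    rw [e] at h2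
    exact (inv_mem_iff).1 h2

/-- The data of `CEl.ElD.le_S`. -/
theorem eld (h : ∀ m, FullAt M m) {z : Fin k → G} (hz : ∀ m, z m ∈ fac M.toNatV m) (hz1 : ∀ m, z m ≠ 1)
    (hzs : ∀ (s : G) (hs : s ∈ (S : Subgroup G)) (m : Fin k), s * z m * s⁻¹ = z (sg M.toNatV (SP M hs) m)) :
    CEl.ElD S P (o2 P) (fac M.toNatV) (XX M) z where
  SP := SP M
  PQ := VModule.le_normalizer_o2 P
  QP := VModule.o2_le P
  Q2 := o2_isPGroup P
  CQ := Cfsg.Agent.Omega.ThmC.TwoOf.centralizer_o2_le M.hG S M.star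
  VQ _ := (fac_le _ _).trans (V_le_zz M)
  XP m := XX_le_P hC m
  Xc _ _ hl _ hx _ hv := XX_comm hC hl hx hv
  Xz m _ hx _ hy := XX_zz hC (h m) hx hy
  irr m _ hU hU1 hn := XX_irr (h m) hU hU1 hn
  mov m := by
    obtain ⟨u, hu, eu⟩ := exists_fac M.toNatV m ![1, 0]
    obtain ⟨v, hv, ev⟩ := exists_fac M.toNatV m ![0, 1]
    obtain ⟨x, hx, e⟩ := XX_full (h m) hu hv (by rw [eu, ev]; simp)
    refine ⟨x, hx, u, hu, fun hc => ?_⟩
    have h1 : v = 1 := by
      rw [← e, hc]; group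
    rw [h1, e_one] at ev
    have := congrFun ev 1
    simp at this
  zV := hz
  z1 := hz1
  zinj l m hlm := by
    by_contra hne
    have h1 : z l ∈ fac M.toNatV l ⊓ fac M.toNatV m := ⟨hz l, by rw [hlm]; exact hz m⟩
    rw [fac_inf M.toNatV hne, mem_bot] at h1
    exact hz1 l h1
  zS s hs l := ⟨_, hzs s hs l⟩
  ztr l m := by
    obtain ⟨s, hs, hsm⟩ := exists_trans M.toNatV (SP M) l m
    exact ⟨s, hs, by rw [hzs s hs l, (sg_eq_iff M.toNatV (SP M hs)).2 hsm]⟩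
  h0 o m hmo w hw hwP v hv := by
    set C := P ⊓ centralizer ({z o} : Set G) with hCd
    set W := o2 (centralizer ({z o} : Set G)) with hW
    have hfix : ∀ c ∈ P, c * z o = z o * c → c ∈ normalizer (fac M.toNatV o : Set G) := by
      intro c hc hcz
      rw [mem_normalizer_fac_iff M.toNatV hc]
      by_contra hne
      have h1 : z o ∈ fac M.toNatV (sg M.toNatV hc o) := by
        rw [← conj_fac M.toNatV hc, mem_cj]
        have e : c⁻¹ * z o * c = z o := by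
          calc c⁻¹ * z o * c = c⁻¹ * (z o * c) := by group
            _ = z o := by rw [← hcz]; group
        rw [e]; exact hz o
      have h2 : z o ∈ fac M.toNatV (sg M.toNatV hc o) ⊓ fac M.toNatV o := ⟨h1, hz o⟩
      rw [fac_inf M.toNatV hne, mem_bot] at h2
      exact hz1 o h2
    have hsC : stab M.toNatV o ≤ C := by
      intro s hs
      refine ⟨SP M hs.1, mem_centralizer_singleton_iff.2 ?_⟩
      have h1 := hzs s hs.1 o
      rw [(mem_normalizer_fac_iff M.toNatV (SP M hs.1)).1 hs.2] at h1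
      exact mul_inv_eq_iff_eq_mul.1 h1
    have hWP : W ⊓ P ≤ stab M.toNatV o := by
      refine le_trans ?_ (VModule.o2_le_of_sylow (S.isPGroup'.to_le (stab_le _ _))
        (not_dvd_stab M.toNatV (SP M) (MinSimple.Basic.not_dvd_relIndex S (SP M)) o hsC inf_le_left
          fun c hc => hfix c hc.1 (mem_centralizer_singleton_iff.1 hc.2)))
      refine VModule.le_o2 (fun x hx => ⟨hx.2, VModule.o2_le _ hx.1⟩) ((o2_isPGroup _).to_le inf_le_left) ?_
      intro c hc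
      exact nor_inf (VModule.le_normalizer_o2 _ hc.2) (le_normalizer hc.1)
    have hn : grp M.toNatV {m} ≤ normalizer (W ⊓ P : Subgroup G) := by
      intro g hg
      refine nor_inf (VModule.le_normalizer_o2 _ (mem_centralizer_singleton_iff.2 ?_)) (le_normalizer (grp_le _ _ hg))
      exact grp_comm M.toNatV (Set.disjoint_singleton.2 hmo) hg (hz o)
    have h1 := le_cent_fac M (hWP.trans (stab_le _ _)) hn ⟨hw, hwP⟩
    exact (mem_centralizer_iff.1 h1 v hv).symm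

/-- **`O₂(C_G(z))` centralises `V_m`** for `1 ≠ z ∈ V_l`, `l ≠ m`. -/
theorem comm_el (h : ∀ m, FullAt M m) {l m : Fin k} (hlm : l ≠ m) {z : G} (hz : z ∈ fac M.toNatV l) (hz1 : z ≠ 1)
    {g : G} (hg : g ∈ o2 (centralizer ({z} : Set G))) {v : G} (hv : v ∈ fac M.toNatV m) : g * v = v * g := by
  obtain ⟨y, hy, hy1, hys⟩ := exists_zel M
  have d := eld hC h hy hy1 hys
  obtain ⟨t, ht, e⟩ := exists_grp M.toNatV (hy l) hz (hy1 l) hz1
  have hcz : centralizer ({z} : Set G) = cj t (centralizer ({y l} : Set G)) := by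
    ext x
    rw [mem_cj, mem_centralizer_singleton_iff, mem_centralizer_singleton_iff, ← e]
    constructor
    · intro h
      calc t⁻¹ * x * t * y l = t⁻¹ * (x * (t * y l * t⁻¹)) * t := by group
        _ = t⁻¹ * (t * y l * t⁻¹ * x) * t := by rw [h]
        _ = y l * (t⁻¹ * x * t) := by group
    · intro h
      calc x * (t * y l * t⁻¹) = t * (t⁻¹ * x * t * y l) * t⁻¹ := by group
        _ = t * (y l * (t⁻¹ * x * t)) * t⁻¹ := by rw [h]
        _ = t * y l * t⁻¹ * x := by group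
  rw [hcz, ChoiceBase.pCore_cj, mem_cj] at hg
  have h1 := d.h0 l m hlm.symm _ hg (SP M (d.le_S l hg)) v hv
  have h2 : t * v = v * t := grp_comm M.toNatV (Set.disjoint_singleton.2 hlm) ht hv
  have h3 : t⁻¹ * v = v * t⁻¹ := (show Commute t v from h2).inv_left
  calc g * v = t * (t⁻¹ * g * t) * (t⁻¹ * v) := by group
    _ = t * (t⁻¹ * g * t * v) * t⁻¹ := by rw [h3]; group
    _ = (t * v) * (t⁻¹ * g * t) * t⁻¹ := by rw [h1]; group
    _ = v * g := by rw [h2]; group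

/-- **`ThC M i`** -/
theorem thC_of_full (h : ∀ m, FullAt M m) (i : Fin k) : ThC M i where
  nm := (QL_le_stab M hC i).trans (stab_le_nmG (SP M) M.toNatV i)
  comm _ hl _ hv _ hg := QL_comm M hC hl hg hv
  cent l hl z hz hz1 g hg v hv := comm_el hC h hl hz hz1 hg hv
  le l hl z hz hz1 := by
    intro v hv
    have hN : IsPGroup 2 (zpowers z) := (V_two M).to_le (by rw [zpowers_le]; exact fac_le _ _ hz)
    have hN1 : zpowers z ≠ ⊥ := by rwa [Ne, zpowers_eq_bot]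
    have hCN : normalizer (zpowers z : Set G) = centralizer ({z} : Set G) := by
      have hz2 : z * z = 1 := NV.sq M.toNatV hz.1
      apply le_antisymm
      · intro g hg
        rw [mem_centralizer_singleton_iff]
        have h1 : g * z * g⁻¹ ∈ zpowers z := (mem_normalizer_iff.1 hg z).1 (mem_zpowers z)
        obtain ⟨n, hn⟩ := mem_zpowers_iff.1 h1
        have h2 : z ^ n = 1 ∨ z ^ n = z := by
          rcases Int.even_or_odd' n with ⟨j, hj | hj⟩
          · left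
            rw [hj, zpow_mul, zpow_two, hz2, one_zpow]
          · right
            rw [hj, zpow_add, zpow_mul, zpow_two, hz2, one_zpow, one_mul, zpow_one]
        rcases h2 with h2 | h2
        · exfalso
          apply hz1
          have e : z = g⁻¹ * (g * z * g⁻¹) * g := by group
          rw [e, ← hn, h2]
          group
        · rw [h2] at hn
          exact mul_inv_eq_iff_eq_mul.1 hn.symm
      · intro g hg
        refine centralizer_le_normalizer _ (mem_centralizer_iff.2 fun y hy => ?_)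
        obtain ⟨n, rfl⟩ := mem_zpowers_iff.1 hy
        exact ((show Commute g z from mem_centralizer_singleton_iff.1 hg).zpow_right n).symm
    have hch := MinSimple.Basic.char2_normalizer M.hG hN hN1
    rw [hCN] at hch
    refine hch ⟨?_, mem_centralizer_iff.2 fun g hg => comm_el hC h hl hz hz1 hg hv⟩
    exact mem_centralizer_singleton_iff.2 (NV.comm M.toNatV hv.1 hz.1)

end all

/-! ### The end -/

section fin

variable {G : Type u} [Group G] [Finite G] {F F' : Type} [Field F] [Finite F] [CharP F 2] [Field F'] [Finite F']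
  [CharP F' 2] {S S' : Sylow 2 G} {P V D P' V' D' : Subgroup G} {k k' : ℕ}

/-- **THEOREM C at the mixed factor `V_i`**, any `q`, `k`, `k'`, `D`, `D'`. -/
theorem thC_of {M : NatD F S P V D k} {M' : NatD F' S' P' V' D' k'} {i : Fin k} {i' : Fin k'}
    (L : LineD M M' i i') (hC : ∀ i, QL M i ≤ (S : Subgroup G)) (hC' : ∀ i, QL M' i ≤ (S' : Subgroup G))
    (hu : ¬ UnM M i) : ThC M i :=
  thC_of_full hC (fun m => (fullAt_of L hC hC' hu).all m) i

/-- **Mixed pairs are impossible** if a Sylow 2-subgroup of `N_G(R)` normalises `V_i`, `k ≥ 2`. -/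
theorem mixK_end {M : NatD F S P V D k} {M' : NatD F' S' P' V' D' k'} {i : Fin k} {i' : Fin k'}
    (L : LineD M M' i i') (hC : ∀ i, QL M i ≤ (S : Subgroup G)) (hC' : ∀ i, QL M' i ≤ (S' : Subgroup G))
    (hu : ¬ UnM M i) (hu' : ¬ UnM M' i') (hk : 2 ≤ k) {T : Subgroup G} (hT2 : IsPGroup 2 T)
    (hTV : T ≤ normalizer (fac M.toNatV i : Set G)) (hTR : T ≤ normalizer (line M.toNatV i : Set G))
    (hTs : ¬ 2 ∣ T.relIndex (normalizer (line M.toNatV i : Set G))) : False :=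
  mixK_false L hu hu' (thC_of L hC hC' hu)
    ((QL_le_stab M' hC' i').trans (stab_le_nmG (SP M') M'.toNatV i')) hk hT2 hTV hTR hTs

end fin

end Cfsg.Agent.Omega.IId.NV

end

section


/-!
# CvBig, mixed pairs, `k' = 1`, `D' ≠ 1`, `q ≥ 4`: impossible (LEMMA ONE; helper19, bb OMEGA #23393)

`L : LineD M M' i i'`, `M : NatD F S P V D 1`, `V_i`, `V'_{i'}` mixed, `|F| ≥ 4`, `D ≠ 1`; `M'` arbitrary.

* `exists_tor_P` : `P ∩ N_G(R)` is transitive on `R - 1` and centralises `D`, `k = 1`;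
* `oneD_false`, `oneD_false'` : the contradiction.
-/

set_option autoImplicit false
set_option linter.unusedSectionVars false

namespace Cfsg.Agent.Omega.IId.NV

open Subgroup Cfsg Cfsg.Agent.Lib.SL2Mat Cfsg.Agent.MinSimple
open Cfsg.Agent.ZN (o2 zc zl)
open Cfsg.Agent.Omega.MinPar Cfsg.Agent.Omega.FFThm
open Cfsg.Agent.Omega.BTwo (cj mem_cj cj_mono cj_eq_self_iff conj_mem_cj QQ card_cj mem_normalizer_of_conj)
open Cfsg.Agent.Omega.Mix
open Cfsg.Agent.Omega.MixOne (SideW)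
open Cfsg.Agent.Omega.NatPair (ap ap_zero' ap_one' ext2)
open Cfsg.Agent.Omega.IId.M4 (toRMod toRMod_line nmG exists_cj_eq LL_comm mem_nmG)
open Cfsg.Agent.Omega.IId.FourSide (vec_ne)
open Cfsg.Agent.Omega.IId.Cv (LineD UnM)
open Cfsg.Agent.Omega.IId.MQ (MixedQ)

universe u

variable {G : Type u} [Group G] [Finite G] {F F' : Type} [Field F] [Finite F] [CharP F 2] [Field F'] [Finite F']
  [CharP F' 2] {S S' : Sylow 2 G} {P V D P' V' D' : Subgroup G} {k k' : ℕ}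

/-- the torus of `P` is transitive on `line M i - 1`, centralises `D` -/
theorem exists_tor_P (M : NatD F S P V D k) (i : Fin k) {r r' : G} (hr : r ∈ line M.toNatV i) (hr1 : r ≠ 1)
    (hr' : r' ∈ line M.toNatV i) (hr1' : r' ≠ 1) :
    ∃ t ∈ P, t ∈ normalizer (line M.toNatV i : Set G) ∧ t * r * t⁻¹ = r' := by
  have hne : ∀ {x : G}, x ∈ line M.toNatV i → x ≠ 1 → M.e x i 0 ≠ 0 := by
    intro x hx hx1 h0
    obtain ⟨h1, h2⟩ := (mem_line _).1 hx
    exact hx1 ((fac_eq_one M.toNatV h1).1 (ext2 h0 h2))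
  have h0 := hne hr hr1
  have h0' := hne hr' hr1'
  have hc : M.e r' i 0 / M.e r i 0 ≠ 0 := div_ne_zero h0' h0
  obtain ⟨t, ht, hta⟩ := exists_lift M.toNatV i (dg _ hc)
  have hfac : ∀ x ∈ fac M.toNatV i, t * x * t⁻¹ ∈ fac M.toNatV i := fun x hx =>
    (mem_normalizer_iff.1 (grp_normalizes M.toNatV {i} {i} ht) x).1 hx
  refine ⟨t, grp_le _ _ ht, Cfsg.Agent.Omega.IITwo.Count.mem_norm fun x hx => ?_, ?_⟩
  · obtain ⟨h1, h2⟩ := (mem_line _).1 hx
    refine (mem_line _).2 ⟨hfac x h1, ?_⟩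
    rw [hta x h1.1, ap_one', dg_10, dg_11, h2]
    simp
  · obtain ⟨h1, h2⟩ := (mem_line _).1 hr
    obtain ⟨h1', h2'⟩ := (mem_line _).1 hr'
    refine ext_fac M.toNatV (hfac r h1) h1' ?_
    rw [hta r h1.1]
    refine ext2 ?_ ?_
    · rw [ap_zero', dg_00, dg_01, zero_mul, add_zero, div_mul_cancel₀ _ h0]
    · rw [ap_one', dg_10, dg_11, h2, h2']
      simp

/-- **LEMMA ONE.** -/
theorem oneD_false {M : NatD F S P V D 1} {M' : NatD F' S' P' V' D' k'} {i : Fin 1} {i' : Fin k'}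
    (L : LineD M M' i i') (hC' : ∀ l, QL M' l ≤ (S' : Subgroup G)) (hu : ¬ UnM M i) (hu' : ¬ UnM M' i')
    (h4 : 4 ≤ Nat.card F) (hD : D ≠ ⊥) : False := by
  have hC := hC_one M
  have hQ : o2 (normalizer (line M.toNatV i : Set G)) ≤ nmG (pre M.toNatV i) :=
    (QL_le_stab M hC i).trans (stab_le_nmG (SP M) M.toNatV i)
  have hQ' : o2 (normalizer (line M.toNatV i : Set G)) ≤ nmG (pre M'.toNatV i') := by
    rw [L.eq']
    exact (QL_le_stab M' hC' i').trans (stab_le_nmG (SP M') M'.toNatV i')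
  have m := mixedQ_of' L hu hu' hQ hQ'
  have hT2 : IsPGroup 2 (S : Subgroup G) := S.isPGroup'
  have hTR : (S : Subgroup G) ≤ normalizer (line M.toNatV i : Set G) := S_le_line M i
  have hTV : (S : Subgroup G) ≤ normalizer (fac M.toNatV i : Set G) := (SP M).trans (P_le_fac M i)
  have hTs : ¬ 2 ∣ (S : Subgroup G).relIndex (normalizer (line M.toNatV i : Set G)) :=
    MinSimple.Basic.not_dvd_relIndex S hTR
  -- `D` commutes with `O₂(N_G(R))`
  have hDQ : ∀ d ∈ D, ∀ g ∈ o2 (normalizer (line M.toNatV i : Set G)), g * d = d * g := fun d hd g hg =>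
    QL_comm_D M hC hg hd
  have htorP : ∀ r ∈ line M.toNatV i, r ≠ 1 → ∀ r' ∈ line M.toNatV i, r' ≠ 1 →
      ∃ t ∈ P, t ∈ normalizer (line M.toNatV i : Set G) ∧ t * r * t⁻¹ = r' := fun r hr hr1 r' hr' hr1' =>
    exists_tor_P M i hr hr1 hr' hr1'
  have hcR : Nat.card (line M.toNatV i) = Nat.card F := card_line _ _
  set R := line M.toNatV i with hR
  have hR1 : R = (toRMod (pre M.toNatV i)).line ![1, 0] := by rw [toRMod_line, pre_line]
  have hR2 : R = (toRMod (pre M'.toNatV i')).line ![1, 0] := by rw [toRMod_line, pre_line]; exact L.eq'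
  have s := m.symm.sideW
  have hm : RMutual (fac M.toNatV i) (fac M'.toNatV i') (nmG (pre M.toNatV i)) (nmG (pre M'.toNatV i')) :=
    ⟨L.le'.trans hQ, L.le.trans hQ', L.ne⟩
  obtain ⟨-, w, w', hq, hq', e1, e2⟩ := pair (toRMod (pre M.toNatV i)) (toRMod (pre M'.toNatV i')) hm
  have hRV : R ≤ fac M.toNatV i := line_le M.toNatV i
  have hRV' : R ≤ fac M'.toNatV i' := by
    rw [show R = _ from L.eq']
    exact line_le M'.toNatV i'
  have hinf : fac M.toNatV i ⊓ fac M'.toNatV i' = R := by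
    symm
    refine Subgroup.eq_of_le_of_card_ge (le_inf hRV hRV') ?_
    rw [e1, RMod.card_line _ hq.ne, hR1, RMod.card_line _ vec_ne]
  have hF1 : 1 < Nat.card F := Finite.one_lt_card
  have hc1 : Nat.card R < Nat.card (fac M.toNatV i) := by
    rw [hcR, card_fac, pow_two]
    nlinarith
  obtain ⟨b, hb, hbR, hbT⟩ := SideOf.exists_fixed_mod (A := R) (B := fac M.toNatV i) (T := (S : Subgroup G))
    (fun h => absurd (Subgroup.card_le_of_le h) (not_le.2 hc1))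
    (fun v hv => mem_normalizer_of_conj fun r hr => by
      have h1 : v * r = r * v := (toRMod (pre M.toNatV i)).comm hv (hRV hr)
      rw [h1, mul_inv_cancel_right]; exact hr)
    (SideOf.isPGroup_of_sq fun x hx => (toRMod (pre M.toNatV i)).sq hx) hT2 hTR hTV
  have hbV : ¬ ∀ v ∈ fac M'.toNatV i', b * v = v * b := by
    intro h
    apply hbR
    rw [← hinf, e1, ← hq.cent]
    exact ⟨mem_centralizer_iff.2 fun v hv => (h v hv).symm, hb⟩
  let i₀ : Pt (toRMod (pre M'.toNatV i')) := ⟨R, ![1, 0], vec_ne, hR2⟩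
  have hX := m.symm.atR vec_ne hR2
  obtain ⟨d, hd, hd1⟩ := (Subgroup.bot_or_exists_ne_one D).resolve_left hD
  -- (1), (2)
  have hdD := s.mem_D_of_tor (o := i₀) hT2 hTR hTs (b := b) (V_le_LL _ _ hb) hbV (fun t ht => by
      have e : b * t * b⁻¹ * t⁻¹ = (t * b * t⁻¹ * b⁻¹)⁻¹ := by group
      rw [e]
      exact inv_mem (hbT t ht))
    (by change 2 < Nat.card R; omega)
    (by
      change 2 ∣ Nat.card R
      obtain ⟨n, hn⟩ := IsPGroup.iff_card.1 (m.R_pGroup)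
      rw [hn] at hcR ⊢
      refine dvd_pow_self 2 ?_
      rintro rfl
      rw [pow_zero] at hcR
      omega)
    (fun r hr hr1 r' hr' hr1' => hX.exists_torus_move hr hr1 hr' hr1') (d := d)
    (by
      rw [mem_YY]
      exact ⟨fun g hg => (hDQ d hd g (m.C_le_QQ hg)).symm, fun g hg => (hDQ d hd g (m.symm.C_le_QQ hg)).symm⟩)
    (fun t ht => D_comm M (SP M ht) hd)
    (fun r hr hr1 r' hr' hr1' => by
      obtain ⟨t, ht, htN, e⟩ := htorP r hr hr1 r' hr' hr1'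
      exact ⟨t, D_comm M ht hd, htN, e⟩)
  -- (3)
  obtain ⟨j, hj, -⟩ := s.third i₀ i₀
  obtain ⟨n, -, -, x, hx, ex⟩ := s.trans_B i₀ j
  have hxd : x * d = d * x := (Cfsg.Agent.Omega.MixOne.SideW.D_comm hdD n x hx).symm
  have hcent : ∀ u ∈ fac M'.toNatV i', (∀ v ∈ fac M.toNatV i, v * u = u * v) → u ∈ R := by
    intro u hu' h
    rw [← hinf, inf_comm, inf_comm, e2, ← hq'.cent]
    exact ⟨mem_centralizer_iff.2 h, hu'⟩
  have hxV : x ∈ normalizer (fac M'.toNatV i' : Set G) := s.B_NV n hx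
  -- `y = x v x⁻¹` centralises `R`
  have hy : ∀ v ∈ fac M.toNatV i, ∀ r ∈ R, x * v * x⁻¹ * r = r * (x * v * x⁻¹) := by
    intro v hv r hr
    have hyB : x * v * x⁻¹ ∈ LL (fac M.toNatV i) R (pt (toRMod (pre M'.toNatV i')) j) := by
      have h1 : x * v * x⁻¹ ∈ cj x (LL (fac M.toNatV i) R (pt (toRMod (pre M'.toNatV i')) i₀)) :=
        conj_mem_cj (V_le_LL _ _ hv)
      rwa [s.cB x i₀ j ex] at h1
    have hrV : r ∈ fac M'.toNatV i' := hRV' hr
    have h1 := s.CB j r (s.V_C j hrV) _ hyB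
    have hyV := s.B_NV j hyB
    -- `y r y⁻¹ ∈ R`
    have h2 : x * v * x⁻¹ * r * (x * v * x⁻¹)⁻¹ ∈ R := by
      refine hcent _ ((mem_normalizer_iff.1 hyV r).1 hrV) fun w hw => ?_
      have h3 := comm_of_D M hd hd1 hxd (M.V_le (fac_le _ _ hw)) (M.V_le (fac_le _ _ hv))
      have h4 : w * r = r * w := (toRMod (pre M.toNatV i)).comm hw (hRV hr)
      have h5 : w * (x * v * x⁻¹)⁻¹ = (x * v * x⁻¹)⁻¹ * w := (show Commute w (x * v * x⁻¹) from h3).inv_right
      calc w * (x * v * x⁻¹ * r * (x * v * x⁻¹)⁻¹) = w * (x * v * x⁻¹) * r * (x * v * x⁻¹)⁻¹ := by group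
        _ = x * v * x⁻¹ * (w * r) * (x * v * x⁻¹)⁻¹ := by rw [h3]; group
        _ = x * v * x⁻¹ * r * (w * (x * v * x⁻¹)⁻¹) := by rw [h4]; group
        _ = x * v * x⁻¹ * r * (x * v * x⁻¹)⁻¹ * w := by rw [h5]; group
    have h3 : r * (x * v * x⁻¹) * r⁻¹ * (x * v * x⁻¹)⁻¹ ∈ R := by
      have e : r * (x * v * x⁻¹) * r⁻¹ * (x * v * x⁻¹)⁻¹ = r * (x * v * x⁻¹ * r * (x * v * x⁻¹)⁻¹)⁻¹ := by group
      rw [e]
      exact mul_mem hr (inv_mem h2)
    have h4 : r * (x * v * x⁻¹) * r⁻¹ * (x * v * x⁻¹)⁻¹ ∈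
        pt (toRMod (pre M'.toNatV i')) i₀ ⊓ pt (toRMod (pre M'.toNatV i')) j := ⟨h3, h1⟩
    rw [s.R_inf i₀ j (Ne.symm hj), mem_bot] at h4
    calc x * v * x⁻¹ * r = (r * (x * v * x⁻¹) * r⁻¹ * (x * v * x⁻¹)⁻¹) * (x * v * x⁻¹ * r) := by rw [h4, one_mul]
      _ = r * (x * v * x⁻¹) := by group
  -- so `R ≤ R^x`
  have hle : R ≤ cj x R := by
    intro r hr
    rw [mem_cj]
    refine hcent _ ?_ fun v hv => ?_
    · have := (mem_normalizer_iff.1 (inv_mem hxV) r).1 (hRV' hr)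
      rwa [inv_inv] at this
    · have h1 := hy v hv r hr
      calc v * (x⁻¹ * r * x) = x⁻¹ * (x * v * x⁻¹ * r) * x := by group
        _ = x⁻¹ * (r * (x * v * x⁻¹)) * x := by rw [h1]
        _ = x⁻¹ * r * x * v := by group
  have h5 : pt (toRMod (pre M'.toNatV i')) i₀ ≤ pt (toRMod (pre M'.toNatV i')) j := by
    have h6 : cj x R = pt (toRMod (pre M'.toNatV i')) j := ex
    rw [← h6]
    exact hle
  apply s.R_ne i₀
  rw [← s.R_inf i₀ j (Ne.symm hj), inf_eq_left.2 h5]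

/-- `M'` with one factor -/
theorem oneD_false' {M : NatD F S P V D k} {M' : NatD F' S' P' V' D' 1} {i : Fin k} {i' : Fin 1}
    (L : LineD M M' i i') (hC : ∀ l, QL M l ≤ (S : Subgroup G)) (hu : ¬ UnM M i) (hu' : ¬ UnM M' i')
    (h4 : 4 ≤ Nat.card F) (hD' : D' ≠ ⊥) : False :=
  oneD_false (M := M') (M' := M)
    { eq := by rw [commutator_comm, L.eq, L.eq']
      eq' := L.eq'.symm
      card := L.card.symm
      le := by rw [← L.eq']; exact L.le'
      le' := by rw [← L.eq']; exact L.le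
      ne := by
        obtain ⟨v, hv, w, hw, h⟩ := L.ne
        exact ⟨w, hw, v, hv, Ne.symm h⟩ } hC hu' hu (by rw [L.card]; exact h4) hD'

end Cfsg.Agent.Omega.IId.NV

end

section


/-!
# `SL = ⟨QL M l : l⟩ O₂(P)` if `QL M l` induces the full root group on `fac M l` (helper958)

The lemmas of `CvBig/SL.lean` with the hypothesis `FullUp M` (mixed and unmixed factors) in place of `UnMx`.

* `FullUp M` : `QL M l` induces the full root group on `fac M l`, all `l`;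
* `Up.up_of_comm`, `Up.mem_SLQ`, `Up.le_o2_of_inv`, `Up.inf_GF_le`.
-/

set_option autoImplicit false
set_option linter.unusedSectionVars false

namespace Cfsg.Agent.Omega.IId.NV

open Subgroup Pointwise Cfsg Cfsg.Agent.ZN Cfsg.Agent.ZN.ChoiceBase
open Cfsg.Agent.Omega.MinPar Cfsg.Agent.Omega.FFThm
open Cfsg.Agent.Lib.SL2Mat
open Cfsg.Agent.MinSimple
open Cfsg.Agent.Omega.NatPair (ap ap_mul ap_one ap_inv_ap ap_ap_inv exists_ap ap_add NatMod PreMod)
open Cfsg.Agent.MinSimple.VModule (zc_le zc_comm zc_sq zc_le_zl o2_isPGroup normalizer_le_normalizer_zc)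
open scoped commutatorElement

universe u

/-- `QL M l` induces the full root group on `fac M l` -/
def FullUp {G : Type u} [Group G] [Finite G] {F : Type} [Field F] {S : Sylow 2 G} {P V D : Subgroup G} {k : ℕ}
    (M : NatD F S P V D k) : Prop :=
  ∀ (l : Fin k) (b : F), ∃ x ∈ QL M l, ∀ v ∈ fac M.toNatV l, M.e (x * v * x⁻¹) l = ap (up b) (M.e v l)

theorem fullUp_of_unMx {G : Type u} [Group G] [Finite G] {F : Type} [Field F] [Finite F] [CharP F 2] {S : Sylow 2 G}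
    {P V D : Subgroup G} {k : ℕ} (M : NatD F S P V D k) (hC : ∀ l, QL M l ≤ (S : Subgroup G)) {i : Fin k}
    (hu : UnMx M i) : FullUp M := fun l b => exists_QL_up M hC (unM_all M hu l) b

namespace Up

section big

variable {G : Type u} [Group G] [Finite G] {F : Type} [Field F] [Finite F] [CharP F 2] {S : Sylow 2 G}
  {P V D : Subgroup G} {k : ℕ} (M : NatD F S P V D k) (hC : ∀ l, QL M l ≤ (S : Subgroup G)) (hup : FullUp M)

include hC hup

/-- **`s ∈ S`, `[s, QL M l] ≤ O₂(P)` implies that `s` acts on `fac M l` as some `up b`.** -/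
theorem up_of_comm {l : Fin k} {s : G} (hs : s ∈ (S : Subgroup G))
    (hc : ∀ x ∈ QL M l, s * x * s⁻¹ * x⁻¹ ∈ o2 P) :
    s ∈ stab M.toNatV l ∧ ∃ b : F, ∀ v ∈ fac M.toNatV l, M.e (s * v * s⁻¹) l = ap (up b) (M.e v l) := by
  have hsP : s ∈ P := SP M hs
  have hVz : ∀ {v : G}, v ∈ fac M.toNatV l → v ∈ zl (S : Subgroup G) P := fun hv => M.V_le (fac_le _ _ hv)
  -- `[x, v]` for `x` acting as `up b`
  have hcoord : ∀ {x v : G} {b : F}, x ∈ QL M l → (∀ v ∈ fac M.toNatV l, M.e (x * v * x⁻¹) l = ap (up b) (M.e v l)) →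
      v ∈ fac M.toNatV l → M.e (x * v * x⁻¹ * v⁻¹) l = ![b * M.e v l 1, 0] := by
    intro x v b hx hxb hv
    have h1 : x * v * x⁻¹ ∈ fac M.toNatV l :=
      (mem_normalizer_iff.1 (stab_normalizes _ l (QL_le_stab M hC l hx)) v).1 hv
    rw [M.mul _ h1.1 _ (inv_mem hv.1), e_inv M.toNatV hv.1, Pi.add_apply, Pi.neg_apply, hxb v hv]
    apply NatPair.ext2
    · rw [Pi.add_apply, NatPair.ap_zero', up_00, up_01]
      simp
    · rw [Pi.add_apply, NatPair.ap_one', up_10, up_11]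
      simp
  -- the vector `u = (0, 1)`
  obtain ⟨u, hu1, hue⟩ := exists_fac M.toNatV l ![0, 1]
  have hline : ∀ r ∈ line M.toNatV l, ∃ x ∈ QL M l,
      (∀ v ∈ fac M.toNatV l, M.e (x * v * x⁻¹) l = ap (up (M.e r l 0)) (M.e v l)) ∧ r = x * u * x⁻¹ * u⁻¹ := by
    intro r hr
    obtain ⟨x, hx, hxb⟩ := hup l (M.e r l 0)
    refine ⟨x, hx, hxb, ?_⟩
    have h1 : x * u * x⁻¹ ∈ fac M.toNatV l :=
      (mem_normalizer_iff.1 (stab_normalizes _ l (QL_le_stab M hC l hx)) u).1 hu1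
    refine ext_fac M.toNatV (line_le _ _ hr) (mul_mem h1 (inv_mem hu1)) ?_
    rw [hcoord hx hxb hu1, hue]
    apply NatPair.ext2
    · simp
    · rw [((mem_line M.toNatV).1 hr).2]
      simp
  -- `s` normalises the line
  have h1 : ∀ r ∈ line M.toNatV l, s * r * s⁻¹ ∈ line M.toNatV l := by
    intro r hr
    obtain ⟨x, hx, -, rfl⟩ := hline r hr
    rw [conj_comm_eq M hsP (QL_le_P M hC l hx) (hc x hx) (hVz hu1)]
    exact comm_QL M hC hx (zl_conj hsP (hVz hu1))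
  have h2 : sg M.toNatV hsP l = l := by
    apply line_inj (M := M.toNatV)
    rw [← conj_line M.toNatV (SP M) hs]
    rintro _ ⟨r, hr, rfl⟩
    exact h1 r hr
  have hst : s ∈ stab M.toNatV l := mem_inf.2 ⟨hs, (mem_normalizer_fac_iff M.toNatV hsP).2 h2⟩
  refine ⟨hst, ?_⟩
  have hsf : ∀ v ∈ fac M.toNatV l, s * v * s⁻¹ ∈ fac M.toNatV l := fun v hv =>
    (mem_normalizer_iff.1 hst.2 v).1 hv
  set c : F := M.e (s * u * s⁻¹) l 1 with hcdef
  have h3 : ∀ r ∈ line M.toNatV l, M.e (s * r * s⁻¹) l 0 = M.e r l 0 * c := by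
    intro r hr
    obtain ⟨x, hx, hxb, e⟩ := hline r hr
    rw [show s * r * s⁻¹ = x * (s * u * s⁻¹) * x⁻¹ * (s * u * s⁻¹)⁻¹ by
      conv_lhs => rw [e]
      exact conj_comm_eq M hsP (QL_le_P M hC l hx) (hc x hx) (hVz hu1),
      hcoord hx hxb (hsf u hu1)]
    simp [hcdef]
  have h4 : ∀ n : ℕ, ∀ r ∈ line M.toNatV l, s ^ n * r * (s ^ n)⁻¹ ∈ line M.toNatV l ∧
      M.e (s ^ n * r * (s ^ n)⁻¹) l 0 = M.e r l 0 * c ^ n := by
    intro n
    induction n with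
    | zero => intro r hr; simpa using hr
    | succ n ih =>
      intro r hr
      obtain ⟨h5, h6⟩ := ih r hr
      have e : s ^ (n + 1) * r * (s ^ (n + 1))⁻¹ = s * (s ^ n * r * (s ^ n)⁻¹) * s⁻¹ := by
        rw [pow_succ']; group
      rw [e]
      refine ⟨h1 _ h5, ?_⟩
      rw [h3 _ h5, h6]
      ring
  obtain ⟨m, hm⟩ := S.isPGroup' ⟨s, hs⟩
  have hm' : s ^ 2 ^ m = 1 := congrArg Subtype.val hm
  have hc1 : c = 1 := by
    obtain ⟨r, hr, hre⟩ := exists_fac M.toNatV l ![1, 0]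
    have hrl : r ∈ line M.toNatV l := (mem_line M.toNatV).2 ⟨hr, by rw [hre]; rfl⟩
    have h5 := (h4 (2 ^ m) r hrl).2
    rw [hm', one_mul, inv_one, mul_one, hre] at h5
    simp only [Matrix.cons_val_zero, one_mul] at h5
    have h6 : (c - 1) ^ 2 ^ m = 0 := by
      rw [sub_pow_char_pow, one_pow, ← h5, sub_self]
    exact sub_eq_zero.1 (pow_eq_zero_iff (pow_ne_zero _ two_ne_zero) |>.1 h6)
  have h5 : ∀ r ∈ line M.toNatV l, s * r * s⁻¹ = r := by
    intro r hr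
    refine ext_fac M.toNatV (line_le _ _ (h1 r hr)) (line_le _ _ hr) ?_
    apply NatPair.ext2
    · rw [h3 r hr, hc1, mul_one]
    · rw [((mem_line M.toNatV).1 (h1 r hr)).2, ((mem_line M.toNatV).1 hr).2]
  refine exists_up (M := M.toNatV) hsP h5 fun v hv => ?_
  exact comm_line M.toNatV (SP M) hst ⟨m, hm'⟩ (fun r hr => mul_inv_eq_iff_eq_mul.1 (h5 r hr)) hv

/-- An element of `S` acting on every factor as some `up b` lies in `SLQ M`. -/
theorem mem_SLQ_of_up {s : G} (hs : s ∈ (S : Subgroup G))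
    (h : ∀ l, s ∈ stab M.toNatV l ∧ ∃ b : F, ∀ v ∈ fac M.toNatV l, M.e (s * v * s⁻¹) l = ap (up b) (M.e v l)) :
    s ∈ SLQ M := by
  classical
  choose hst b hb using h
  choose x hx hxb using fun l => hup l (b l)
  have hxn : ∀ l, ∀ v ∈ fac M.toNatV l, x l * v * (x l)⁻¹ ∈ fac M.toNatV l := fun l v hv =>
    (mem_normalizer_iff.1 (stab_normalizes _ l (QL_le_stab M hC l (hx l))) v).1 hv
  have hsx : ∀ l, ∀ v ∈ fac M.toNatV l, x l * v * (x l)⁻¹ = s * v * s⁻¹ := fun l v hv =>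
    ext_fac M.toNatV (hxn l v hv) ((mem_normalizer_iff.1 (hst l).2 v).1 hv) (by rw [hxb l v hv, hb l v hv])
  have hxl : ∀ l m, m ≠ l → ∀ v ∈ fac M.toNatV m, x l * v * (x l)⁻¹ = v := fun l m hm v hv => by
    rw [QL_comm M hC hm (hx l) hv, mul_inv_cancel_right]
  have key : ∀ T : Finset (Fin k), ∃ y ∈ ⨆ l, QL M l,
      (∀ l ∈ T, ∀ v ∈ fac M.toNatV l, y * v * y⁻¹ = s * v * s⁻¹) ∧
        ∀ l, l ∉ T → ∀ v ∈ fac M.toNatV l, y * v * y⁻¹ = v := by
    intro T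
    induction T using Finset.induction_on with
    | empty => exact ⟨1, one_mem _, by simp, fun l _ v _ => by simp⟩
    | @insert a T ha ih =>
      obtain ⟨y, hy, h1, h2⟩ := ih
      refine ⟨y * x a, mul_mem hy (mem_iSup_of_mem a (hx a)), fun l hl v hv => ?_, fun l hl v hv => ?_⟩
      · have e : y * x a * v * (y * x a)⁻¹ = y * (x a * v * (x a)⁻¹) * y⁻¹ := by group
        rw [e]
        by_cases hla : l = a
        · subst hla
          rw [h2 l ha _ (hxn l v hv), hsx l v hv]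
        · rw [hxl a l hla v hv]
          exact h1 l ((Finset.mem_insert.1 hl).resolve_left hla) v hv
      · rw [Finset.mem_insert, not_or] at hl
        have e : y * x a * v * (y * x a)⁻¹ = y * (x a * v * (x a)⁻¹) * y⁻¹ := by group
        rw [e, hxl a l hl.1 v hv]
        exact h2 l hl.2 v hv
  obtain ⟨y, hy, h1, -⟩ := key Finset.univ
  have hyS : y ∈ (S : Subgroup G) := (iSup_le hC) hy
  have h2 : y⁻¹ * s ∈ o2 P := by
    refine mem_o2P_of_triv M (mul_mem (inv_mem hyS) hs) fun l v hv => ?_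
    have h3 := h1 l (Finset.mem_univ l) v hv
    calc y⁻¹ * s * v * (y⁻¹ * s)⁻¹ = y⁻¹ * (s * v * s⁻¹) * y := by group
      _ = y⁻¹ * (y * v * y⁻¹) * y := by rw [h3]
      _ = v := by group
  have := mul_mem (mem_sup_left hy : y ∈ SLQ M) (mem_sup_right h2 : y⁻¹ * s ∈ SLQ M)
  rwa [mul_inv_cancel_left] at this

/-- `S ∩ CL M ≤ SLQ M` -/
theorem inf_CL_le : (S : Subgroup G) ⊓ CL M ≤ SLQ M := by
  rintro s ⟨hs, hs'⟩
  exact mem_SLQ_of_up M hC hup hs fun l => up_of_comm M hC hup hs (hs'.2 l)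

/-- **A 2-element of `CL M` lies in `SLQ M`.** -/
theorem mem_SLQ {Z : Subgroup G} (hZ : IsPGroup 2 Z) (hZC : Z ≤ CL M) : Z ≤ SLQ M := by
  have hN := S_normalizes_CL M
  have h1 : ¬ 2 ∣ (CL M ⊓ (S : Subgroup G)).relIndex (CL M) :=
    TwoPlus.not_dvd_inf (H := CL M ⊔ (S : Subgroup G)) le_sup_right (MinSimple.Basic.not_dvd_relIndex S le_sup_right)
      le_sup_left (sup_le le_normalizer hN)
  obtain ⟨c, hc, hcx⟩ := TwoPlus.exists_conj_le hZC (S.isPGroup'.to_le inf_le_right) hZ h1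
  intro z hz
  have h2 : c * z * c⁻¹ ∈ SLQ M := inf_CL_le M hC hup ⟨(hcx z hz).2, (hcx z hz).1⟩
  have h3 := CL_comm M hC (inv_mem hc) h2
  have e : z = c⁻¹ * (c * z * c⁻¹) * c⁻¹⁻¹ * (c * z * c⁻¹)⁻¹ * (c * z * c⁻¹) := by group
  rw [e]
  exact mul_mem (o2_le_SLQ M h3) h2

/-- **A 2-group normalised by `O₂(P)`, all `QL M l` and all `grp M {l}` lies in `O₂(P)`.** -/
theorem le_o2_of_inv {W : Subgroup G} (hW : IsPGroup 2 W)
    (hWQ : o2 P ≤ normalizer (W : Set G)) (hWL : ∀ l, QL M l ≤ normalizer (W : Set G))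
    (hWg : ∀ l, grp M.toNatV {l} ≤ normalizer (W : Set G)) : W ≤ o2 P := by
  by_contra hn
  have hfact : Fact (Nat.Prime 2) := ⟨Nat.prime_two⟩
  have hQ2 : IsPGroup 2 (o2 P) := o2_isPGroup _
  have hSL2 : IsPGroup 2 (SLQ M) := S.isPGroup'.to_le (SLQ_le_S M hC)
  have hSLQ : SLQ M ≤ normalizer (o2 P : Set G) :=
    ((SLQ_le_S M hC).trans (SP M)).trans (ZN.le_normalizer_o2 _)
  have hSLW : SLQ M ≤ normalizer (W : Set G) := sup_le (iSup_le hWL) hWQ
  have hA02 : IsPGroup 2 ↥(W ⊔ o2 P) := hW.to_sup_of_normal_left' hQ2 hWQ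
  have hlt0 : o2 P < W ⊔ o2 P := lt_of_le_of_ne le_sup_right fun h => hn (by rw [h]; exact le_sup_left)
  have hlt := Lib.GoldschmidtFusion.lt_inf_normalizer hA02 hlt0
  set A : Subgroup G := (W ⊔ o2 P) ⊓ normalizer (o2 P : Set G) with hA
  have hA2 : IsPGroup 2 A := hA02.to_le inf_le_left
  have hSLA : SLQ M ≤ normalizer (A : Set G) := by
    refine Half.le_normalizer_inf ?_ (hSLQ.trans le_normalizer)
    exact le_normalizer_sup' hSLW hSLQ
  have hT2 : IsPGroup 2 ↥(A ⊔ SLQ M) := hA2.to_sup_of_normal_left' hSL2 hSLA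
  obtain ⟨x, hx, hxQ, hxf⟩ := NLFree.exists_fix_mod (S := A ⊔ SLQ M) (M := o2 P) (Q := A) hT2
    (hlt.le.trans le_sup_left) le_sup_left (sup_le inf_le_right hSLQ) (sup_le le_normalizer hSLA)
    (fun h => hlt.not_ge h)
  have hxC : x ∈ CL M := by
    refine ⟨(mem_inf.1 hx).2, fun l y hy => ?_⟩
    have h1 := inv_mem (hxf y (mem_sup_right (QL_le_SLQ M l hy)))
    have e : (y * x * y⁻¹ * x⁻¹)⁻¹ = x * y * x⁻¹ * y⁻¹ := by group
    rwa [e] at h1
  have hxS : x ∈ SLQ M := mem_SLQ M hC hup (hA2.to_le (zpowers_le.2 hx)) (zpowers_le.2 hxC) (mem_zpowers x)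
  -- `x = q w`
  have h1 : x ∈ ((o2 P ⊔ W : Subgroup G) : Set G) := by
    rw [sup_comm]
    exact (mem_inf.1 hx).1
  rw [coe_mul_of_left_le_normalizer_right _ _ hWQ] at h1
  obtain ⟨q, hq, w, hw, hqw⟩ := Set.mem_mul.1 h1
  have hwS : w ∈ SLQ M := by
    have : w = q⁻¹ * x := by rw [← hqw]; group
    rw [this]
    exact mul_mem (inv_mem (o2_le_SLQ M hq)) hxS
  have hwQ : w ∉ o2 P := fun h => hxQ (by rw [← hqw]; exact mul_mem hq h)
  apply hwQ
  refine mem_o2P_of_triv M (SLQ_le_S M hC hwS) fun l v hv => ?_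
  -- `Y` centralises `fac M l`
  set Y : Subgroup G := W ⊓ (P ⊓ normalizer (fac M.toNatV l : Set G)) with hY
  have hwY : w ∈ Y := ⟨hw, SP M (SLQ_le_S M hC hwS), SLQ_le_nor_fac M hC l hwS⟩
  have hgn := grp_normalizes M.toNatV {l} {l}
  have hgY : grp M.toNatV {l} ≤ normalizer (Y : Set G) :=
    Half.le_normalizer_inf (hWg l) (Half.le_normalizer_inf ((grp_le _ _).trans le_normalizer) (hgn.trans le_normalizer))
  obtain ⟨z, hz, hz1, hzY⟩ := Half.exists_fixed ((V_two M).to_le (fac_le M.toNatV l)) (fac_ne_bot M.toNatV l)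
    (hW.to_le inf_le_left : IsPGroup 2 Y) (inf_le_right.trans inf_le_right)
  have h2 : fac M.toNatV l ⊓ centralizer (Y : Set G) = fac M.toNatV l := by
    refine (fac_irreducible M.toNatV inf_le_left
      (Half.le_normalizer_inf hgn (NLFree.le_normalizer_cent hgY))).resolve_left fun h => hz1 ?_
    have h3 : z ∈ fac M.toNatV l ⊓ centralizer (Y : Set G) :=
      ⟨hz, mem_centralizer_iff.2 fun y hy => mul_inv_eq_iff_eq_mul.1 (hzY y hy)⟩
    rwa [h, mem_bot] at h3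
  have hv' : v ∈ fac M.toNatV l ⊓ centralizer (Y : Set G) := by rw [h2]; exact hv
  exact mul_inv_eq_iff_eq_mul.2 (mem_centralizer_iff.1 hv'.2 w hwY)

/-- `S ∩ GF M ≤ stab M i` -/
theorem inf_GF_le {i : Fin k} : GF M ⊓ (S : Subgroup G) ≤ stab M.toNatV i := by
  rintro s ⟨hg, hs⟩
  have hsP := SP M hs
  refine mem_inf.2 ⟨hs, (mem_normalizer_fac_iff M.toNatV hsP).2 ?_⟩
  apply line_inj (M := M.toNatV)
  rw [← conj_line M.toNatV (SP M) hs]
  rintro _ ⟨r, hr, rfl⟩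
  change s * r * s⁻¹ ∈ _
  obtain ⟨u, hu1, hue⟩ := exists_fac M.toNatV i ![0, 1]
  obtain ⟨x, hx, hxb⟩ := hup i (M.e r i 0)
  have hxu : x * u * x⁻¹ ∈ fac M.toNatV i :=
    (mem_normalizer_iff.1 (stab_normalizes _ i (QL_le_stab M hC i hx)) u).1 hu1
  have e : r = x * u * x⁻¹ * u⁻¹ := by
    refine ext_fac M.toNatV (line_le _ _ hr) (mul_mem hxu (inv_mem hu1)) ?_
    rw [M.mul _ hxu.1 _ (inv_mem hu1.1), e_inv M.toNatV hu1.1, Pi.add_apply, Pi.neg_apply, hxb u hu1, hue]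
    apply NatPair.ext2
    · rw [Pi.add_apply, NatPair.ap_zero', up_00, up_01]
      simp
    · rw [Pi.add_apply, NatPair.ap_one', up_10, up_11, ((mem_line M.toNatV).1 hr).2]
      simp
  have h1 : s * x * s⁻¹ ∈ QL M i ⊔ o2 P :=
    (mem_normalizer_iff.1 (((mem_GF M).1 hg).2 i) x).1 (mem_sup_left hx)
  have h2 := comm_QLQ M hC h1 (zl_conj (S := S) hsP (M.V_le hu1.1))
  have e2 : s * x * s⁻¹ * (s * u * s⁻¹) * (s * x * s⁻¹)⁻¹ * (s * u * s⁻¹)⁻¹ = s * (x * u * x⁻¹ * u⁻¹) * s⁻¹ := by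
    group
  rw [e2, ← e] at h2
  exact h2

end big

end Up

end Cfsg.Agent.Omega.IId.NV

end

end

-- merged: Cfsg.Agent.Mrg.Omega.NatPair.NormSubX
section

section


/-!
# LEMMA NORM for a subgroup `X` of `N_G(V)` inducing `SL₂(F)` (#23282, (P1))

`PreMod.dich_subX`: `PreMod.dich` for the group `X`, `V ≤ X ≤ N_G(V)`, and `T ≤ X` a 2-group, `¬ 2 ∣ |X : T|`.
-/

set_option autoImplicit false
set_option linter.unusedSectionVars false

namespace Cfsg.Agent.Omega.NatPair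

open Subgroup Cfsg.Agent.Lib.SL2Mat

namespace PreMod

variable {G : Type*} [Group G] {F : Type*} [Field F] {V : Subgroup G} (M : PreMod F V)

/-- **the exceptional alternative of LEMMA NORM** for the group `X` -/
structure ExcX (X T : Subgroup G) : Prop where
  card : Nat.card F = 4
  fuse : ∀ w : Fin 2 → F, w ≠ 0 → ∀ r ∈ M.line w, r ≠ 1 → ∀ v ∈ V, v ∉ M.line w →
    ∃ g ∈ X, r ∈ cj g (M.line w) ∧ v ∈ cj g (M.line w)
  point : ∃ w : Fin 2 → F, w ≠ 0 ∧ T ≤ normalizer ((M.line w : Subgroup G) : Set G) ∧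
    V ⊓ centralizer (T : Set G) ≤ M.line w ∧ Nat.card ↥(V ⊓ centralizer (T : Set G)) = 2

variable {X : Subgroup G}

/-- `V` as a module for the group `X` -/
def subX (hVX : V ≤ X) (hlift : ∀ A, ∃ g ∈ X, M.Ind g A) : PreMod F (V.subgroupOf X) where
  e x := ⟨M.e x, hVX (M.e_mem x)⟩
  e_add x y := Subtype.ext (M.e_add x y)
  e_inj _ _ h := M.e_inj (congrArg Subtype.val h)
  mem_iff g := by
    rw [mem_subgroupOf, M.mem_iff]
    exact ⟨fun ⟨x, hx⟩ => ⟨x, Subtype.ext hx⟩, fun ⟨x, hx⟩ => ⟨x, congrArg Subtype.val hx⟩⟩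
  lift A := by
    obtain ⟨g, hgX, hg⟩ := hlift A
    exact ⟨⟨g, hgX⟩, fun x => Subtype.ext (hg x)⟩

variable {hVX : V ≤ X} {hlift : ∀ A, ∃ g ∈ X, M.Ind g A}

theorem subX_ind {g : X} {A : Matrix.SpecialLinearGroup (Fin 2) F} :
    (M.subX hVX hlift).Ind g A ↔ M.Ind (g : G) A :=
  ⟨fun h x => congrArg Subtype.val (h x), fun h x => Subtype.ext (h x)⟩

theorem mem_subX_line {g : X} {w : Fin 2 → F} : g ∈ (M.subX hVX hlift).line w ↔ (g : G) ∈ M.line w :=
  ⟨fun ⟨c, hc⟩ => ⟨c, congrArg Subtype.val hc⟩, fun ⟨c, hc⟩ => ⟨c, Subtype.ext hc⟩⟩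

/-- **LEMMA NORM** for a subgroup `X` of `N_G(V)` and a Sylow 2-subgroup `T` of `X` -/
theorem dich_subX [Finite G] [Finite F] [CharP F 2] {X T : Subgroup G} (hXV : X ≤ normalizer (V : Set G))
    (hVX : V ≤ X) (hlift : ∀ A, ∃ g ∈ X, M.Ind g A) (hT2 : IsPGroup 2 T) (hTX : T ≤ X)
    (hTs : ¬ 2 ∣ T.relIndex X) (hT : ∀ t ∈ T, M.Nm t) :
    (∀ g ∈ X, ∀ h ∈ X, ∀ A, M.Ind h A → ∃ B, M.Ind (g * h * g⁻¹) B) ∨ M.ExcX X T := by
  have : Fact (Nat.Prime 2) := ⟨Nat.prime_two⟩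
  have hp : IsPGroup 2 (T.subgroupOf X) := hT2.comap_of_injective X.subtype X.subtype_injective
  let S : Sylow 2 X := hp.toSylow hTs
  have hS : ∀ x : X, x ∈ (S : Subgroup X) ↔ (x : G) ∈ T := fun x => Iff.rfl
  have hn : ∀ x : X, x ∈ normalizer ((V.subgroupOf X : Subgroup X) : Set X) := fun x =>
    mem_normalizer_sub (hXV x.2)
  rcases (M.subX hVX hlift).dich S (fun x _ => hn x) (fun x hx k A hA => by
      obtain ⟨B, hB⟩ := hT x ((hS x).1 hx) (k : G) A (M.subX_ind.1 hA)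
      exact ⟨B, M.subX_ind.2 hB⟩) with h | h
  · left
    intro g hg k hk A hA
    obtain ⟨B, hB⟩ := h ⟨g, hg⟩ (hn _) ⟨k, hk⟩ A (M.subX_ind.2 hA)
    exact ⟨B, M.subX_ind.1 hB⟩
  · right
    refine ⟨h.card, ?_, ?_⟩
    · intro w hw r hr hr1 v hv hvw
      obtain ⟨g, -, h1, h2⟩ := h.fuse w hw ⟨r, hVX (M.line_le w hr)⟩ (M.mem_subX_line.2 hr)
        (fun e => hr1 (congrArg Subtype.val e)) ⟨v, hVX hv⟩ hv
        (fun e => hvw (M.mem_subX_line.1 e))
      rw [mem_cj] at h1 h2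
      exact ⟨g, g.2, mem_cj.2 (M.mem_subX_line.1 h1), mem_cj.2 (M.mem_subX_line.1 h2)⟩
    · obtain ⟨w, hw, h1, h2, h3⟩ := h.point
      have hc : ∀ x : X, x ∈ centralizer ((S : Subgroup X) : Set X) ↔ (x : G) ∈ centralizer (T : Set G) := by
        intro x
        rw [mem_centralizer_iff, mem_centralizer_iff]
        constructor
        · intro hx t ht
          exact congrArg Subtype.val (hx ⟨t, hTX ht⟩ ht)
        · intro hx t ht
          exact Subtype.ext (hx t ht)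
      refine ⟨w, hw, ?_, ?_, ?_⟩
      · intro t ht
        have h4 := h1 (show (⟨t, hTX ht⟩ : X) ∈ (S : Subgroup X) from ht)
        rw [mem_normalizer_iff] at h4 ⊢
        intro x
        constructor
        · intro hx
          exact M.mem_subX_line.1 ((h4 ⟨x, hVX (M.line_le w hx)⟩).1 (M.mem_subX_line.2 hx))
        · intro hx
          have hxV : x ∈ V := by
            have h5 := (mem_normalizer_iff.1 (hXV (hTX ht)) x).2 (M.line_le w hx)
            exact h5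
          exact M.mem_subX_line.1 ((h4 ⟨x, hVX hxV⟩).2 (M.mem_subX_line.2 hx))
      · rintro x ⟨hx, hxT⟩
        exact M.mem_subX_line.1 (h2 (show (⟨x, hVX hx⟩ : X) ∈ _ from ⟨hx, (hc _).2 hxT⟩))
      · rw [← h3]
        refine Nat.card_congr ⟨fun x => ⟨⟨x, hVX x.2.1⟩, ⟨x.2.1, (hc _).2 x.2.2⟩⟩,
          fun x => ⟨x, ⟨x.2.1, (hc _).1 x.2.2⟩⟩, fun x => rfl, fun x => rfl⟩

end PreMod

end Cfsg.Agent.Omega.NatPair

end

section


/-!
# No transvections (helper958, bb OMEGA #23282, step (c))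

`V = F²`, `4 ≤ |F|`, `X ≤ N_G(V)` induces at least `SL₂(F)`, a Sylow 2-subgroup `T` of `X` is semilinear, `X` fuses every
`F`-line with every pair (LEMMA NORM, second alternative).  Then no element of `N_G(X)` acts as a transvection of `V`
over `F₂`: `PreMod.tv_free`.
-/

set_option autoImplicit false
set_option linter.unusedSectionVars false

namespace Cfsg.Agent.Omega.NatPair

open Subgroup Cfsg.Agent.Lib.SL2Mat

namespace PreMod

variable {G : Type*} [Group G]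

/-- `g` acts on `V` as a transvection (over `F₂`) with centre `c` -/
def Tv (V : Subgroup G) (c g : G) : Prop :=
  c ∈ V ∧ c ≠ 1 ∧ g ∈ normalizer (V : Set G) ∧ (∀ v ∈ V, g * v * g⁻¹ = v ∨ g * v * g⁻¹ = v * c) ∧
    ∃ v ∈ V, g * v * g⁻¹ ≠ v

namespace Tv

variable {V : Subgroup G} {c g : G}

theorem fix_c (h : Tv V c g) (hsq : ∀ v ∈ V, v * v = 1) : g * c * g⁻¹ = c := by
  rcases h.2.2.2.1 c h.1 with h1 | h1
  · exact h1
  · exfalso
    rw [hsq c h.1] at h1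
    apply h.2.1
    have h2 : g * c = g := by
      have := mul_inv_eq_iff_eq_mul.1 h1
      simpa using this
    exact mul_eq_left.1 h2

theorem move (h : Tv V c g) {v : G} (hv : v ∈ V) (hne : g * v * g⁻¹ ≠ v) : g * v * g⁻¹ = v * c :=
  (h.2.2.2.1 v hv).resolve_left hne

/-- the square acts trivially -/
theorem sq (h : Tv V c g) (hsq : ∀ v ∈ V, v * v = 1) {v : G} (hv : v ∈ V) : g * (g * v * g⁻¹) * g⁻¹ = v := by
  rcases h.2.2.2.1 v hv with h1 | h1
  · rw [h1, h1]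
  · rw [h1]
    have e : g * (v * c) * g⁻¹ = g * v * g⁻¹ * (g * c * g⁻¹) := by group
    rw [e, h1, h.fix_c hsq, mul_assoc, hsq c h.1, mul_one]

theorem inv_act (h : Tv V c g) (hsq : ∀ v ∈ V, v * v = 1) {v : G} (hv : v ∈ V) : g⁻¹ * v * g⁻¹⁻¹ = g * v * g⁻¹ := by
  have h1 := h.sq hsq hv
  calc g⁻¹ * v * g⁻¹⁻¹ = g⁻¹ * (g * (g * v * g⁻¹) * g⁻¹) * g⁻¹⁻¹ := by rw [h1]
    _ = g * v * g⁻¹ := by group

theorem inv (h : Tv V c g) (hsq : ∀ v ∈ V, v * v = 1) : Tv V c g⁻¹ := by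
  refine ⟨h.1, h.2.1, inv_mem h.2.2.1, fun v hv => ?_, ?_⟩
  · rw [h.inv_act hsq hv]; exact h.2.2.2.1 v hv
  · obtain ⟨v, hv, hne⟩ := h.2.2.2.2
    exact ⟨v, hv, by rwa [h.inv_act hsq hv]⟩

theorem conj (h : Tv V c g) {l : G} (hl : l ∈ normalizer (V : Set G)) : Tv V (l * c * l⁻¹) (l * g * l⁻¹) := by
  have hm : ∀ v ∈ V, l⁻¹ * v * l ∈ V := fun v hv => by
    have := (mem_normalizer_iff.1 (inv_mem hl) v).1 hv
    simpa using this
  refine ⟨(mem_normalizer_iff.1 hl c).1 h.1, ?_, mul_mem (mul_mem hl h.2.2.1) (inv_mem hl), fun v hv => ?_, ?_⟩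
  · intro e
    apply h.2.1
    exact conj_eq_one_iff.1 e
  · have e : l * g * l⁻¹ * v * (l * g * l⁻¹)⁻¹ = l * (g * (l⁻¹ * v * l) * g⁻¹) * l⁻¹ := by group
    rcases h.2.2.2.1 _ (hm v hv) with h1 | h1
    · left; rw [e, h1]; group
    · right; rw [e, h1]; group
  · obtain ⟨v, hv, hne⟩ := h.2.2.2.2
    refine ⟨l * v * l⁻¹, (mem_normalizer_iff.1 hl v).1 hv, fun e => hne ?_⟩
    have e2 : l * g * l⁻¹ * (l * v * l⁻¹) * (l * g * l⁻¹)⁻¹ = l * (g * v * g⁻¹) * l⁻¹ := by group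
    rw [e2] at e
    exact mul_left_cancel (mul_right_cancel e)

/-- the product of two transvections with the same centre -/
theorem mul_act (h : Tv V c g) {g' : G} (h' : Tv V c g') (hsq : ∀ v ∈ V, v * v = 1) {v : G} (hv : v ∈ V) :
    g * g' * v * (g * g')⁻¹ = v ∨ g * g' * v * (g * g')⁻¹ = v * c := by
  have e : g * g' * v * (g * g')⁻¹ = g * (g' * v * g'⁻¹) * g⁻¹ := by group
  rw [e]
  rcases h'.2.2.2.1 v hv with h1 | h1
  · rw [h1]; exact h.2.2.2.1 v hv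
  · rw [h1]
    have e2 : g * (v * c) * g⁻¹ = g * v * g⁻¹ * (g * c * g⁻¹) := by group
    rw [e2, h.fix_c hsq]
    rcases h.2.2.2.1 v hv with h2 | h2
    · right; rw [h2]
    · left; rw [h2, mul_assoc, hsq c h.1, mul_one]

theorem pow_even (h : Tv V c g) (hsq : ∀ v ∈ V, v * v = 1) (k : ℕ) {v : G} (hv : v ∈ V) :
    g ^ (2 * k) * v * (g ^ (2 * k))⁻¹ = v := by
  induction k with
  | zero => simp
  | succ k ih =>
    have e : g ^ (2 * (k + 1)) * v * (g ^ (2 * (k + 1)))⁻¹ = g * (g * (g ^ (2 * k) * v * (g ^ (2 * k))⁻¹) * g⁻¹) * g⁻¹ := by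
      rw [show 2 * (k + 1) = 2 + 2 * k by ring, pow_add]
      group
    rw [e, ih, h.sq hsq hv]

theorem pow_odd (h : Tv V c g) (hsq : ∀ v ∈ V, v * v = 1) {m : ℕ} (hm : ¬ 2 ∣ m) {v : G} (hv : v ∈ V) :
    g ^ m * v * (g ^ m)⁻¹ = g * v * g⁻¹ := by
  obtain ⟨k, rfl⟩ := Nat.odd_iff.2 (Nat.two_dvd_ne_zero.1 hm)
  have e : g ^ (2 * k + 1) * v * (g ^ (2 * k + 1))⁻¹ = g * (g ^ (2 * k) * v * (g ^ (2 * k))⁻¹) * g⁻¹ := by
    rw [pow_succ']
    group
  rw [e, h.pow_even hsq k hv]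

theorem of_act (h : Tv V c g) {g' : G} (hn : g' ∈ normalizer (V : Set G))
    (ha : ∀ v ∈ V, g' * v * g'⁻¹ = g * v * g⁻¹) : Tv V c g' := by
  refine ⟨h.1, h.2.1, hn, fun v hv => ?_, ?_⟩
  · rw [ha v hv]; exact h.2.2.2.1 v hv
  · obtain ⟨v, hv, hne⟩ := h.2.2.2.2
    exact ⟨v, hv, by rwa [ha v hv]⟩

end Tv

variable {F : Type*} [Field F] {V : Subgroup G} (M : PreMod F V)

/-- an element which, with its inverse, normalises the `SL₂(F)`, is semilinear -/
theorem exists_semi_of_nm {g : G} (hg : g ∈ normalizer (V : Set G)) (hN : M.Nm g⁻¹) :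
    ∃ (T : (Fin 2 → F) → (Fin 2 → F)) (σ : F → F), (∀ x, g * M.e x * g⁻¹ = M.e (T x)) ∧
      ∀ (a : F) x, T (a • x) = σ a • T x := by
  have h1 : ∀ x, ∃ y, M.e y = g * M.e x * g⁻¹ := fun x =>
    (M.mem_iff _).1 ((mem_normalizer_iff.1 hg _).1 (M.e_mem x))
  have h2 : ∀ x, ∃ y, M.e y = g⁻¹ * M.e x * g := fun x =>
    (M.mem_iff _).1 (by
      have := (mem_normalizer_iff.1 (inv_mem hg) _).1 (M.e_mem x)
      simpa using this)
  choose T hT using h1
  choose T' hT' using h2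
  obtain ⟨σ, hσ⟩ := exists_semi T T' (fun x y => M.e_inj (by
      rw [hT, M.e_add, M.e_add, hT, hT]; group))
    (fun x => M.e_inj (by rw [hT', hT]; group)) (fun x => M.e_inj (by rw [hT, hT']; group))
    (fun A => by
      obtain ⟨h, hA⟩ := M.lift A
      obtain ⟨B, hB⟩ := hN h A hA
      refine ⟨B, fun x => M.e_inj ?_⟩
      rw [hT', ← hA, hT, ← hB]
      group)
  exact ⟨T, σ, fun x => (hT x).symm, hσ⟩

theorem exists_ne (h4 : 4 ≤ Nat.card F) : ∃ a : F, a ≠ 0 ∧ a ≠ 1 := by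
  by_contra h
  push Not at h
  have : Finite F := Nat.finite_of_card_ne_zero (by omega)
  have h1 : Nat.card F ≤ Nat.card Bool := by
    refine Nat.card_le_card_of_injective (fun a : F => (by classical exact decide (a = 0) : Bool)) ?_
    intro a b hab
    simp only [decide_eq_decide] at hab
    by_cases ha : a = 0
    · rw [ha, (hab.1 ha)]
    · have hb : b ≠ 0 := fun e => ha (hab.2 e)
      rw [h a ha, h b hb]
  simp at h1
  omega

theorem exists_dt {x : Fin 2 → F} (hx : x ≠ 0) : ∃ y, dt x y ≠ 0 := by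
  by_cases h0 : x 0 = 0
  · have h1 : x 1 ≠ 0 := fun h => hx (ext2 h0 h)
    refine ⟨![1, 0], ?_⟩
    simpa [dt] using h1
  · refine ⟨![0, 1], ?_⟩
    simpa [dt] using h0

/-- a semilinear element is not a transvection -/
theorem not_tv_of_nm [CharP F 2] (h4 : 4 ≤ Nat.card F) {g : G} (hN : M.Nm g⁻¹) (c : G) : ¬ Tv V c g := by
  intro h
  have hsq : ∀ v ∈ V, v * v = 1 := fun v hv => M.sq hv
  obtain ⟨T, σ, hT, hσ⟩ := M.exists_semi_of_nm h.2.2.1 hN
  obtain ⟨x₁, hx₁⟩ := (M.mem_iff c).1 h.1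
  have hx0 : x₁ ≠ 0 := fun e => h.2.1 (by rw [← hx₁, e, M.e_zero])
  obtain ⟨a, ha0, ha1⟩ := exists_ne h4
  -- the moved vectors lie in the line of the centre
  have key : ∀ w, g * M.e w * g⁻¹ ≠ M.e w → dt x₁ w = 0 := by
    intro w hw
    by_contra hd
    have h1 := h.move (M.e_mem w) hw
    rw [← hx₁, ← M.e_add, hT] at h1
    have h2 : T w = w + x₁ := M.e_inj h1
    have hdd : dt x₁ x₁ = 0 := by unfold dt; ring
    have h3 : T (a • w) = σ a • (w + x₁) := by rw [hσ, h2]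
    have h5 : dt x₁ (T (a • w)) = σ a * dt x₁ w := by
      rw [h3, dt_smul, dt_add, hdd, add_zero]
    rcases h.2.2.2.1 _ (M.e_mem (a • w)) with h6 | h6
    · rw [hT] at h6
      have h7 : T (a • w) = a • w := M.e_inj h6
      rw [h7, dt_smul] at h5
      have h8 : σ a = a := (mul_right_cancel₀ hd h5).symm
      rw [h7, h8, smul_add] at h3
      have h9 : a • x₁ = 0 := left_eq_add.1 h3
      rcases smul_eq_zero.1 h9 with h10 | h10
      · exact ha0 h10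
      · exact hx0 h10
    · rw [hT, ← hx₁, ← M.e_add] at h6
      have h7 : T (a • w) = a • w + x₁ := M.e_inj h6
      rw [h7, dt_add, dt_smul, hdd, add_zero] at h5
      have h8 : σ a = a := (mul_right_cancel₀ hd h5).symm
      rw [h7, h8, smul_add] at h3
      have h9 : x₁ = a • x₁ := add_left_cancel h3
      have h10 : (1 - a) • x₁ = 0 := by rw [sub_smul, one_smul, ← h9, sub_self]
      rcases smul_eq_zero.1 h10 with h11 | h11
      · exact ha1 (sub_eq_zero.1 h11).symm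
      · exact hx0 h11
  obtain ⟨v, hv, hne⟩ := h.2.2.2.2
  obtain ⟨w, rfl⟩ := (M.mem_iff v).1 hv
  have hw := key w hne
  obtain ⟨u, hu⟩ := exists_dt hx0
  have h1 : g * M.e u * g⁻¹ = M.e u := by
    by_contra hh
    exact hu (key u hh)
  have h2 : g * M.e (w + u) * g⁻¹ = M.e (w + u) := by
    by_contra hh
    apply hu
    have := key (w + u) hh
    rwa [dt_add, hw, zero_add] at this
  apply hne
  have e : g * M.e (w + u) * g⁻¹ = g * M.e w * g⁻¹ * (g * M.e u * g⁻¹) := by rw [M.e_add]; group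
  rw [e, h1, M.e_add] at h2
  exact mul_right_cancel h2

variable {X T N : Subgroup G}

/-- some element of `X` fixes the centre and moves the axis -/
theorem exists_move_axis [CharP F 2] (hlift : ∀ A, ∃ g ∈ X, M.Ind g A)
    (h4 : 4 ≤ Nat.card F)
    (hfuse : ∀ w : Fin 2 → F, w ≠ 0 → ∀ r ∈ M.line w, r ≠ 1 → ∀ v ∈ V, v ∉ M.line w →
      ∃ g ∈ X, r ∈ cj g (M.line w) ∧ v ∈ cj g (M.line w)) {c g : G} (h : Tv V c g) :
    ∃ l ∈ X, l * c * l⁻¹ = c ∧ ∃ v ∈ V, g * v * g⁻¹ = v ∧ g * (l * v * l⁻¹) * g⁻¹ ≠ l * v * l⁻¹ := by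
  by_contra hcon
  push Not at hcon
  have hsq : ∀ v ∈ V, v * v = 1 := fun v hv => M.sq hv
  obtain ⟨x₀, hx₀⟩ := (M.mem_iff c).1 h.1
  have hx0 : x₀ ≠ 0 := fun e => h.2.1 (by rw [← hx₀, e, M.e_zero])
  obtain ⟨a, ha0, ha1⟩ := exists_ne h4
  have hdd : dt x₀ x₀ = 0 := by unfold dt; ring
  -- (A) a fixed vector outside the line of `c`
  obtain ⟨y₀, hy₀, hyd⟩ : ∃ y, g * M.e y * g⁻¹ = M.e y ∧ dt x₀ y ≠ 0 := by
    by_contra hA
    push Not at hA
    obtain ⟨y, hy⟩ := exists_dt hx0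
    have hmv : ∀ z, dt x₀ z ≠ 0 → g * M.e z * g⁻¹ = M.e z * c := fun z hz =>
      h.move (M.e_mem z) fun e => hz (hA z e)
    have h1 := hmv y hy
    have h2 := hmv (a • y) (by rw [dt_smul]; exact mul_ne_zero ha0 hy)
    have h3 := hmv (y + a • y) (by
      rw [dt_add, dt_smul, ← one_add_mul]
      refine mul_ne_zero (fun e => ha1 ?_) hy
      have : a = -1 := by linear_combination e
      rw [this, CharTwo.neg_eq])
    have e : g * M.e (y + a • y) * g⁻¹ = g * M.e y * g⁻¹ * (g * M.e (a • y) * g⁻¹) := by rw [M.e_add]; group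
    rw [e, h1, h2] at h3
    have hc := M.comm (M.e_mem (a • y)) h.1
    have e2 : M.e y * c * (M.e (a • y) * c) = M.e (y + a • y) := by
      rw [hc, M.e_add]
      have : M.e y * c * (c * M.e (a • y)) = M.e y * (c * c) * M.e (a • y) := by group
      rw [this, hsq c h.1, mul_one]
    rw [e2] at h3
    exact h.2.1 (left_eq_mul.1 h3)
  -- (B) the line of `c` is fixed
  have hB : ∀ b : F, g * M.e (b • x₀) * g⁻¹ = M.e (b • x₀) := by
    intro b
    obtain ⟨A, hA1, hA2⟩ := NormExc.exists_ap2 (f₁ := x₀) (f₂ := y₀) (g₁ := x₀) (g₂ := y₀ + b • x₀) hyd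
      (by rw [dt_add, dt_smul, hdd, mul_zero, add_zero])
    obtain ⟨l, hl, hlA⟩ := hlift A
    have h1 := hcon l hl (by rw [← hx₀, hlA, hA1]) (M.e y₀) (M.e_mem _) hy₀
    rw [hlA, hA2] at h1
    have e : g * M.e (y₀ + b • x₀) * g⁻¹ = g * M.e y₀ * g⁻¹ * (g * M.e (b • x₀) * g⁻¹) := by rw [M.e_add]; group
    rw [e, hy₀, M.e_add] at h1
    exact mul_left_cancel h1
  -- (C) everything is fixed
  obtain ⟨v, hv, hne⟩ := h.2.2.2.2
  apply hne
  by_cases hvl : v ∈ M.line x₀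
  · obtain ⟨b, rfl⟩ := hvl
    exact hB b
  · obtain ⟨g₁, hg₁, hc, hvc⟩ := hfuse x₀ hx0 c ⟨1, by rw [one_smul, hx₀]⟩ h.2.1 v hv hvl
    rw [mem_cj] at hc hvc
    obtain ⟨lam, hlam⟩ := hc
    obtain ⟨mu, hmu⟩ := hvc
    have hlam0 : lam ≠ 0 := by
      rintro rfl
      rw [zero_smul, M.e_zero] at hlam
      apply h.2.1
      have : c = g₁ * (g₁⁻¹ * c * g₁) * g₁⁻¹ := by group
      rw [this, ← hlam]; group
    obtain ⟨A, hA⟩ := exists_ap hx0 (smul_ne_zero hlam0 hx0)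
    obtain ⟨τ, hτ, hτA⟩ := hlift A
    have hcc : g₁ * τ * c * (g₁ * τ)⁻¹ = c := by
      have e : g₁ * τ * c * (g₁ * τ)⁻¹ = g₁ * (τ * c * τ⁻¹) * g₁⁻¹ := by group
      rw [e, ← hx₀, hτA, hA, hlam, hx₀]; group
    have h1 := hcon (g₁ * τ) (mul_mem hg₁ hτ) hcc (M.e ((lam⁻¹ * mu) • x₀)) (M.e_mem _) (hB _)
    have e : g₁ * τ * M.e ((lam⁻¹ * mu) • x₀) * (g₁ * τ)⁻¹ = v := by
      have e2 : g₁ * τ * M.e ((lam⁻¹ * mu) • x₀) * (g₁ * τ)⁻¹ = g₁ * (τ * M.e ((lam⁻¹ * mu) • x₀) * τ⁻¹) * g₁⁻¹ := by group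
      rw [e2, hτA, ap_smul, hA, smul_smul, show lam⁻¹ * mu * lam = mu by field_simp, hmu]
      group
    rw [e] at h1
    exact h1

/-- a 2-element of `X` in place of an element of `X` -/
theorem exists_two_tv [Finite G] (hsq : ∀ v ∈ V, v * v = 1) {c z : G} (h : Tv V c z) :
    ∃ m : ℕ, Tv V c (z ^ m) ∧ IsPGroup 2 (zpowers (z ^ m)) := by
  have h2 : Nat.Prime 2 := Nat.prime_two
  obtain ⟨a, m, hm, he⟩ := Nat.exists_eq_pow_mul_and_not_dvd (orderOf_pos z).ne' 2 (by norm_num)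
  refine ⟨m, h.of_act (pow_mem h.2.2.1 m) fun v hv => h.pow_odd hsq hm hv, ?_⟩
  refine IsPGroup.of_card (n := a) ?_
  rw [Nat.card_zpowers, orderOf_pow_of_dvd (by rintro rfl; simp at hm) (by rw [he]; exact dvd_mul_left _ _), he]
  exact Nat.mul_div_cancel _ (Nat.pos_of_ne_zero (by rintro rfl; simp at hm))

/-- **No transvections** (bb OMEGA #23282 (c)). -/
theorem tv_free [Finite G] [Finite F] [CharP F 2] (M : PreMod F V) {X T N : Subgroup G}
    (hXV : X ≤ normalizer (V : Set G)) (hlift : ∀ A, ∃ g ∈ X, M.Ind g A) (hT2 : IsPGroup 2 T) (hTX : T ≤ X)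
    (hTs : ¬ 2 ∣ T.relIndex X) (hT : ∀ t ∈ T, M.Nm t) (h4 : 4 ≤ Nat.card F)
    (hfuse : ∀ w : Fin 2 → F, w ≠ 0 → ∀ r ∈ M.line w, r ≠ 1 → ∀ v ∈ V, v ∉ M.line w →
      ∃ g ∈ X, r ∈ cj g (M.line w) ∧ v ∈ cj g (M.line w))
    (hN : N ≤ normalizer (X : Set G)) : ∀ g ∈ N, ∀ c, ¬ Tv V c g := by
  intro g hg c h
  have _ := hTX
  have : Fact (Nat.Prime 2) := ⟨Nat.prime_two⟩
  have hsq : ∀ v ∈ V, v * v = 1 := fun v hv => M.sq hv
  obtain ⟨l, hl, hlc, v, hv, hv1, hv2⟩ := M.exists_move_axis hlift h4 hfuse h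
  have hlV := hXV hl
  -- the transvection `z = (l⁻¹ g l) g⁻¹` lies in `X`
  have h1 : Tv V c (l⁻¹ * g * l) := by
    have := h.conj (inv_mem hlV)
    rw [inv_inv] at this
    have e : l⁻¹ * c * l = c := by
      calc l⁻¹ * c * l = l⁻¹ * (l * c * l⁻¹) * l := by rw [hlc]
        _ = c := by group
    rwa [e] at this
  have h2 := h.inv hsq
  have hz : Tv V c (l⁻¹ * g * l * g⁻¹) := by
    refine ⟨h.1, h.2.1, mul_mem h1.2.2.1 h2.2.2.1, fun v hv => h1.mul_act h2 hsq hv, v, hv, ?_⟩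
    intro e
    apply hv2
    have e1 : g⁻¹ * v * g⁻¹⁻¹ = v := by rw [h.inv_act hsq hv, hv1]
    have e2 : l⁻¹ * g * l * g⁻¹ * v * (l⁻¹ * g * l * g⁻¹)⁻¹ = l⁻¹ * (g * (l * (g⁻¹ * v * g⁻¹⁻¹) * l⁻¹) * g⁻¹) * l := by
      group
    rw [e2, e1] at e
    calc g * (l * v * l⁻¹) * g⁻¹ = l * (l⁻¹ * (g * (l * v * l⁻¹) * g⁻¹) * l) * l⁻¹ := by group
      _ = l * v * l⁻¹ := by rw [e]
  have hzX : l⁻¹ * g * l * g⁻¹ ∈ X := by
    have e : l⁻¹ * g * l * g⁻¹ = l⁻¹ * (g * l * g⁻¹) := by group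
    rw [e]
    exact mul_mem (inv_mem hl) ((mem_normalizer_iff.1 (hN hg) l).1 hl)
  -- a 2-element of `X`, conjugate into `T`
  obtain ⟨m, hm, hp⟩ := exists_two_tv hsq hz
  have hmX : zpowers ((l⁻¹ * g * l * g⁻¹) ^ m) ≤ X := zpowers_le.2 (pow_mem hzX m)
  have hTp : IsPGroup 2 (T.subgroupOf X) := hT2.comap_of_injective X.subtype X.subtype_injective
  have hQp : IsPGroup 2 ((zpowers ((l⁻¹ * g * l * g⁻¹) ^ m)).subgroupOf X) :=
    hp.comap_of_injective X.subtype X.subtype_injective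
  obtain ⟨Q, hQ⟩ := hQp.exists_le_sylow
  obtain ⟨x, hx⟩ := MulAction.exists_smul_eq X Q (hTp.toSylow hTs)
  have hin : (x : G) * (l⁻¹ * g * l * g⁻¹) ^ m * (x : G)⁻¹ ∈ T := by
    have h5 : (⟨(l⁻¹ * g * l * g⁻¹) ^ m, hmX (mem_zpowers _)⟩ : X) ∈ (Q : Subgroup X) :=
      hQ (mem_subgroupOf.2 (mem_zpowers _))
    have h6 : x * ⟨(l⁻¹ * g * l * g⁻¹) ^ m, hmX (mem_zpowers _)⟩ * x⁻¹ ∈ ((x • Q : Sylow 2 X) : Subgroup X) := by
      have e : x * ⟨(l⁻¹ * g * l * g⁻¹) ^ m, hmX (mem_zpowers _)⟩ * x⁻¹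
          = (MulAut.conj x) • (⟨(l⁻¹ * g * l * g⁻¹) ^ m, hmX (mem_zpowers _)⟩ : X) := rfl
      rw [e]
      exact Subgroup.smul_mem_pointwise_smul _ _ _ h5
    rw [hx] at h6
    exact mem_subgroupOf.1 h6
  exact M.not_tv_of_nm h4 (hT _ (inv_mem hin)) _ (hm.conj (hXV x.2))

end PreMod

end Cfsg.Agent.Omega.NatPair

end

section


/-!
# LEMMA NORM', group level (helper958, WrCv TEXT 3, bb #18813)

* `Nm.rr_conj`, `nm_of_rr` : `N_G(V)` against the linear group `Lin V = N_G(V) / C_G(V)`;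
* `PreMod.norm_of_o2` : the group level of `NormLev.Co.norm_of_o2`.
-/

set_option autoImplicit false
set_option linter.unusedSectionVars false

namespace Cfsg.Agent.Omega.NatPair.PreMod

open Subgroup Cfsg.Agent.Lib.SL2Mat

variable {G : Type*} [Group G] {F : Type*} [Field F] {V : Subgroup G} (M : PreMod F V)

/-- an element of `N_G(V)` which normalises the `SL₂(F)`, on the linear level -/
theorem Nm.rr_conj {s : normalizer (V : Set G)} (hs : M.Nm s) : ∀ x ∈ M.toCo.E, rr s * x * (rr s)⁻¹ ∈ M.toCo.E := by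
  intro x hx
  obtain ⟨h, rfl⟩ := rr_surj x
  obtain ⟨A, hA⟩ := (M.mem_E_iff h).1 hx
  obtain ⟨B, hB⟩ := hs h A hA
  rw [← rr_inv, ← rr_mul, ← rr_mul]
  exact (M.mem_E_iff _).2 ⟨B, hB⟩

/-- `rr g` normalises `E` for all `g ∈ N_G(V)`: all of `N_G(V)` normalises the `SL₂(F)` -/
theorem nm_of_rr (h : ∀ g : normalizer (V : Set G), rr g ∈ normalizer (M.toCo.E : Set (Lin V))) :
    ∀ g ∈ normalizer (V : Set G), M.Nm g := by
  intro g hg h' A hA
  have h2 : rr ⟨h', M.mem_normalizer hA⟩ ∈ M.toCo.E := (M.mem_E_iff _).2 ⟨A, hA⟩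
  have h3 := (mem_normalizer_iff.1 (h ⟨g, hg⟩) _).1 h2
  rw [← rr_inv, ← rr_mul, ← rr_mul] at h3
  exact (M.mem_E_iff _).1 h3

/-- **LEMMA NORM'**, group level: a nontrivial 2-group `O` which centralises `r ∈ V`, is normal in
`N_G(V) ∩ C_G(r)` and normalises the `SL₂(F)`, does not centralise `V`. -/
theorem norm_of_o2' [Finite F] [CharP F 2] {r : G} (hr : r ∈ V) (hr1 : r ≠ 1)
    {O : Subgroup G} (hO2 : IsPGroup 2 O) (hOV : O ≤ normalizer (V : Set G)) (hON : ∀ o ∈ O, M.Nm o)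
    (hOr : ∀ o ∈ O, o * r = r * o)
    (hn : ∀ n ∈ normalizer (V : Set G), n * r = r * n → n ∈ normalizer (O : Set G))
    (h1 : ¬ O ≤ centralizer (V : Set G)) : ∀ g ∈ normalizer (V : Set G), M.Nm g := by
  obtain ⟨x, rfl⟩ := (M.mem_iff r).1 hr
  set O' : Subgroup (Lin V) := (O.subgroupOf (normalizer (V : Set G))).map V.normalizerMonoidHom.rangeRestrict
    with hO'
  have hmem : ∀ y : Lin V, y ∈ O' ↔ ∃ o : normalizer (V : Set G), (o : G) ∈ O ∧ rr o = y := by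
    intro y
    rw [hO', Subgroup.mem_map]
    constructor
    · rintro ⟨o, ho, rfl⟩
      exact ⟨o, mem_subgroupOf.1 ho, rfl⟩
    · rintro ⟨o, ho, rfl⟩
      exact ⟨o, mem_subgroupOf.2 ho, rfl⟩
  have hTx : ∀ n : normalizer (V : Set G), M.toCo.T (rr n) x = x ↔ (n : G) * M.e x = M.e x * n := by
    intro n
    rw [← M.e_inj.eq_iff, M.e_T, mul_inv_eq_iff_eq_mul]
  apply M.nm_of_rr
  intro g
  refine M.toCo.norm_of_o2' (O := O') (r := x) (fun h => hr1 (by rw [h, M.e_zero])) ?_ ?_ ?_ ?_ ?_ _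
  · exact (hO2.comap_of_injective (normalizer (V : Set G)).subtype
      (normalizer (V : Set G)).subtype_injective).map _
  · intro y hy
    obtain ⟨o, ho, rfl⟩ := (hmem y).1 hy
    rw [mem_normalizer_iff]
    intro z
    constructor
    · exact Nm.rr_conj M (hON o ho) z
    · intro hz
      have h2 := Nm.rr_conj M (s := o⁻¹) (hON _ (inv_mem ho)) _ hz
      rw [rr_inv, inv_inv] at h2
      have e : (rr o)⁻¹ * (rr o * z * (rr o)⁻¹) * rr o = z := by group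
      rwa [e] at h2
  · intro y hy
    obtain ⟨o, ho, rfl⟩ := (hmem y).1 hy
    exact (hTx o).2 (hOr o ho)
  · intro n hn1 y hy
    obtain ⟨o, ho, rfl⟩ := (hmem y).1 hy
    obtain ⟨n, rfl⟩ := rr_surj n
    rw [← rr_inv, ← rr_mul, ← rr_mul]
    refine (hmem _).2 ⟨_, ?_, rfl⟩
    exact (mem_normalizer_iff.1 (hn n n.2 ((hTx n).1 hn1)) _).1 ho
  · intro h0
    apply h1
    intro o ho
    have h2 : rr ⟨o, hOV ho⟩ = 1 := by
      have h3 : rr ⟨o, hOV ho⟩ ∈ O' := (hmem _).2 ⟨⟨o, hOV ho⟩, ho, rfl⟩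
      rwa [h0, mem_bot] at h3
    rw [mem_centralizer_iff]
    intro v hv
    have h3 := rr_smul ⟨o, hOV ho⟩ ⟨v, hv⟩
    rw [h2, one_smul] at h3
    exact eq_mul_inv_iff_mul_eq.1 h3

/-- the literal form of TCARD 3 -/
theorem norm_of_o2 [Finite F] [CharP F 2] (_h4 : 4 ≤ Nat.card F) {r : G} (hr : r ∈ V) (hr1 : r ≠ 1)
    {O : Subgroup G} (hO2 : IsPGroup 2 O) (hOV : O ≤ normalizer (V : Set G)) (hON : ∀ o ∈ O, M.Nm o)
    (hOr : ∀ o ∈ O, o * r = r * o)
    (hn : ∀ n ∈ normalizer (V : Set G), n * r = r * n → n ∈ normalizer (O : Set G))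
    (h1 : ¬ O ≤ centralizer (V : Set G)) : ∀ g ∈ normalizer (V : Set G), M.Nm g :=
  M.norm_of_o2' hr hr1 hO2 hOV hON hOr hn h1

end Cfsg.Agent.Omega.NatPair.PreMod

end

end

-- merged: Cfsg.Agent.Mrg.Omega.IId.CvBig.NormMix
section

section


/-!
# The 2-groups which normalise a factor `V₁` and its line `R` act semilinearly on `V₁` (helper958)

`M : NatD F S P V D k`, THEOREM C: `hC : ∀ l, QL M l ≤ S`, `hup : FullUp M` (e.g. mixed pairs).

* `XB M i` : `{x ∈ N_G(V₁) : [C_G(V₁), x] ≤ O₂(C_G(V₁))}`;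
* `xframe` : `X ∩ U ≤ stab M i` for a Sylow 2-subgroup `U ≥ stab M i` of `N_G(V₁)`;
* `nm_mix` : **a 2-group `U`, `stab M i ≤ U ≤ N_G(V₁) ∩ N_G(R)`, acts semilinearly on `V₁`**; `nm_mixed` for mixed pairs.
-/

set_option autoImplicit false
set_option linter.unusedSectionVars false

namespace Cfsg.Agent.Omega.IId.NV

open Subgroup Pointwise Cfsg Cfsg.Agent.ZN Cfsg.Agent.ZN.ChoiceBase
open Cfsg.Agent.Omega.MinPar Cfsg.Agent.Omega.FFThm
open Cfsg.Agent.Lib.SL2Mat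
open Cfsg.Agent.MinSimple
open Cfsg.Agent.Omega.NatPair (ap ap_mul ap_one ap_inv_ap ap_ap_inv exists_ap ap_add NatMod PreMod)
open Cfsg.Agent.MinSimple.VModule (zc_le zc_comm zc_sq zc_le_zl o2_isPGroup o2_le normalizer_le_normalizer_zc)
open scoped commutatorElement

universe u

open NormBig

section big

variable {G : Type u} [Group G] [Finite G] {F : Type} [Field F] [Finite F] [CharP F 2] {S : Sylow 2 G}
  {P V D : Subgroup G} {k : ℕ} (M : NatD F S P V D k) (hC : ∀ l, QL M l ≤ (S : Subgroup G)) (hup : FullUp M)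

omit [Finite F] [CharP F 2] in
theorem nor_le_o2C (i : Fin k) : normalizer (fac M.toNatV i : Set G) ≤
    normalizer (o2 (centralizer (fac M.toNatV i : Set G)) : Set G) :=
  (NLFree.le_normalizer_cent le_rfl).trans (ZN.normalizer_le_normalizer_o2 _)

/-- `{x ∈ N_G(V₁) : [C_G(V₁), x] ≤ O₂(C_G(V₁))}` -/
def XB (i : Fin k) : Subgroup G :=
  cenMod (normalizer (fac M.toNatV i : Set G)) (centralizer (fac M.toNatV i : Set G))
    (o2 (centralizer (fac M.toNatV i : Set G))) (nor_le_o2C M i)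

include hC hup

theorem xframe {i : Fin k} {U : Subgroup G} (hU2 : IsPGroup 2 U) (hTU : stab M.toNatV i ≤ U)
    (hUN : U ≤ normalizer (fac M.toNatV i : Set G)) (hUs : ¬ 2 ∣ U.relIndex (normalizer (fac M.toNatV i : Set G))) :
    XB M i ⊓ U ≤ stab M.toNatV i ∧ ¬ 2 ∣ (XB M i ⊓ U).relIndex (XB M i) ∧ QL M i ≤ XB M i := by
  have hfact : Fact (Nat.Prime 2) := ⟨Nat.prime_two⟩
  set V₁ : Subgroup G := fac M.toNatV i with hV₁
  set R : Subgroup G := line M.toNatV i with hR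
  set Q : Subgroup G := o2 P with hQ
  set T : Subgroup G := stab M.toNatV i with hT
  set N₁ : Subgroup G := normalizer (V₁ : Set G) with hN₁
  set C₁ : Subgroup G := centralizer (V₁ : Set G) with hC₁
  have hRV : R ≤ V₁ := line_le _ _
  have hVz : ∀ {v : G}, v ∈ V₁ → v ∈ zl (S : Subgroup G) P := fun hv => M.V_le (fac_le _ _ hv)
  have hT2 : IsPGroup 2 T := S.isPGroup'.to_le (stab_le _ _)
  have hTN : T ≤ N₁ := stab_normalizes _ i
  have hQLT : QL M i ≤ T := QL_le_stab M hC i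
  have hQ2 : IsPGroup 2 Q := o2_isPGroup _
  have hCN : C₁ ≤ N₁ := centralizer_le_normalizer _
  have hNC : N₁ ≤ normalizer (C₁ : Set G) := NLFree.le_normalizer_cent le_rfl
  have hO : N₁ ≤ normalizer (o2 C₁ : Set G) := hNC.trans (ZN.normalizer_le_normalizer_o2 _)
  have hQC : Q ≤ C₁ := fun q hq => mem_centralizer_iff.2 fun v hv => (o2P_comm M hq (hVz hv)).symm
  have hQLC : ∀ l, l ≠ i → QL M l ≤ C₁ := fun l hl => QL_le_cent M hC (Ne.symm hl)
  have hQN : Q ≤ N₁ := hQC.trans hCN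
  have hQLN : ∀ l, QL M l ≤ N₁ := fun l => by
    by_cases h : l = i
    · subst h; exact hQLT.trans hTN
    · exact (hQLC l h).trans hCN
  have hgN : ∀ l, grp M.toNatV {l} ≤ N₁ := fun l => grp_normalizes M.toNatV {l} {i}
  -- `O₂(C_G(V₁)) ≤ Q`
  have hOQ : o2 C₁ ≤ Q := Up.le_o2_of_inv M hC hup (o2_isPGroup _) (hQN.trans hO) (fun l => (hQLN l).trans hO)
    fun l => (hgN l).trans hO
  -- `X`
  set X : Subgroup G := XB M i with hX
  have hXN : X ≤ N₁ := cenMod_le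
  have hNX : N₁ ≤ normalizer (X : Set G) := N_le_nor hNC
  have hCL : C₁ ≤ normalizer (QL M i : Set G) :=
    ((centralizer_le hRV).trans (centralizer_le_normalizer _)).trans (nor_line_le M i)
  have hQLX : QL M i ≤ X := by
    intro x hx
    refine ⟨hTN (hQLT hx), fun c hc => ?_⟩
    have h1 : QL M i ⊓ C₁ ≤ o2 C₁ := VModule.le_o2 inf_le_right ((QL_two M i).to_le inf_le_left)
      (Half.le_normalizer_inf hCL le_normalizer)
    refine h1 (mem_inf.2 ⟨mul_mem ((mem_normalizer_iff.1 (hCL hc) x).1 hx) (inv_mem hx), ?_⟩)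
    have h2 := (mem_normalizer_iff.1 (hNC (hTN (hQLT hx))) c⁻¹).1 (C₁.inv_mem hc)
    have e : c * x * c⁻¹ * x⁻¹ = c * (x * c⁻¹ * x⁻¹) := by group
    rw [e]
    exact mul_mem hc h2
  set TX : Subgroup G := X ⊓ U with hTX
  have hTXs : ¬ 2 ∣ TX.relIndex X := TwoPlus.not_dvd_inf hUN hUs hXN hNX
  have hTX2 : IsPGroup 2 TX := hU2.to_le inf_le_right
  have hTXX : TX ≤ X := inf_le_left
  have hTXN : TX ≤ N₁ := hTXX.trans hXN
  have hQLTX : QL M i ≤ TX := le_inf hQLX (hQLT.trans hTU)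
  have hTTX : T ≤ normalizer (TX : Set G) :=
    Half.le_normalizer_inf (hTN.trans hNX) (hTU.trans le_normalizer)
  have hTXC : TX ⊓ C₁ ≤ o2 C₁ := inf_le_of (hO := hO) rfl hTX2 hTXX
  -- `[C₁, TX] ≤ Q`
  have hcomm : ∀ t ∈ TX, ∀ c ∈ C₁, c * t * c⁻¹ * t⁻¹ ∈ Q := fun t ht c hc => hOQ ((hTXX ht).2 c hc)
  have hcomm' : ∀ t ∈ TX, ∀ c ∈ C₁, t * c * t⁻¹ * c⁻¹ ∈ Q := fun t ht c hc => by
    have h1 := inv_mem (hcomm t ht c hc)
    have e : (c * t * c⁻¹ * t⁻¹)⁻¹ = t * c * t⁻¹ * c⁻¹ := by group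
    rwa [e] at h1
  -- `TX ≤ N(Q)`
  have hTXQ : TX ≤ normalizer (Q : Set G) := le_nor_of fun t ht q hq => by
    have h1 := hcomm' t ht q (hQC hq)
    have e : t * q * t⁻¹ = (t * q * t⁻¹ * q⁻¹) * q := by group
    rw [e]
    exact mul_mem h1 hq
  -- `TX ≤ N(R)`
  have hTXR : TX ≤ normalizer (R : Set G) := by
    by_cases hle : TX ≤ Q
    · exact hle.trans (hQC.trans ((centralizer_le hRV).trans (centralizer_le_normalizer _)))
    obtain ⟨z, hz, hzQ, hzf⟩ := NLFree.exists_fix_mod (S := TX) (M := TX ⊓ Q) (Q := TX) hTX2 inf_le_left le_rfl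
      (Half.le_normalizer_inf le_normalizer hTXQ) le_normalizer (fun h => hle (h.trans inf_le_right))
    have hzQ' : z ∉ Q := fun h => hzQ ⟨hz, h⟩
    have hzC : z ∈ CL M := by
      refine ⟨hTXQ hz, fun l x hx => ?_⟩
      by_cases h : l = i
      · subst h
        have h1 := inv_mem (mem_inf.1 (hzf x (hQLTX hx))).2
        have e : (x * z * x⁻¹ * z⁻¹)⁻¹ = z * x * z⁻¹ * x⁻¹ := by group
        rwa [e] at h1
      · exact hcomm' z hz x (hQLC l h hx)
    have hzS : z ∈ SLQ M := Up.mem_SLQ M hC hup (hTX2.to_le (zpowers_le.2 hz)) (zpowers_le.2 hzC) (mem_zpowers z)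
    obtain ⟨hzst, b, hb⟩ := Up.up_of_comm M hC hup (SLQ_le_S M hC hzS) (hzC.2 i)
    have hzV : ∀ v ∈ V₁, z * v * z⁻¹ ∈ V₁ := fun v hv => (mem_normalizer_iff.1 (hTXN hz) v).1 hv
    have hb0 : b ≠ 0 := by
      rintro rfl
      apply hzQ'
      apply hOQ
      apply hTXC
      refine ⟨hz, mem_centralizer_iff.2 fun v hv => ?_⟩
      have h1 : z * v * z⁻¹ = v := by
        refine ext_fac M.toNatV (hzV v hv) hv ?_
        rw [hb v hv, up_zero, ap_one]
      exact (mul_inv_eq_iff_eq_mul.1 h1).symm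
    refine le_nor_of fun t ht r hr => ?_
    have hrV := hRV hr
    have htr : t * r * t⁻¹ ∈ V₁ := (mem_normalizer_iff.1 (hTXN ht) r).1 hrV
    have hzr : z * r * z⁻¹ = r := by
      refine ext_fac M.toNatV (hzV r hrV) hrV ?_
      rw [hb r hrV]
      apply NatPair.ext2
      · rw [NatPair.ap_zero', up_00, up_01, ((mem_line M.toNatV).1 hr).2]
        simp
      · rw [NatPair.ap_one', up_10, up_11]
        simp
    have hq := (mem_inf.1 (hzf t ht)).2
    have h1 : z * (t * r * t⁻¹) * z⁻¹ = t * r * t⁻¹ := by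
      have h2 := o2P_comm M hq (hVz (hzV _ htr))
      have h3 : t * (z * r * z⁻¹) * t⁻¹ =
          (t * z * t⁻¹ * z⁻¹) * (z * (t * r * t⁻¹) * z⁻¹) * (t * z * t⁻¹ * z⁻¹)⁻¹ := by group
      rw [h2, hzr] at h3
      calc z * (t * r * t⁻¹) * z⁻¹
          = z * (t * r * t⁻¹) * z⁻¹ * (t * z * t⁻¹ * z⁻¹) * (t * z * t⁻¹ * z⁻¹)⁻¹ := by group
        _ = t * r * t⁻¹ := h3.symm
    rw [hR, mem_line]
    refine ⟨htr, ?_⟩
    have h4 := hb _ htr
    rw [h1] at h4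
    have h5 := congrFun h4 0
    rw [NatPair.ap_zero', up_00, up_01] at h5
    have h6 : b * M.e (t * r * t⁻¹) i 1 = 0 := by linear_combination -h5
    exact (mul_eq_zero.1 h6).resolve_left hb0
  -- `TX ≤ T`
  have hTXT : TX ≤ T := by
    have h1 : TX ≤ GF M := by
      intro t ht
      rw [mem_GF]
      refine ⟨hTXQ ht, fun l => ?_⟩
      by_cases h : l = i
      · subst h
        exact le_normalizer_sup' (hTXR.trans (nor_line_le M _)) hTXQ ht
      · refine le_nor_of (K := TX) (fun t ht x hx => ?_) ht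
        have hx' : x ∈ C₁ := (sup_le (hQLC l h) hQC) hx
        have e : t * x * t⁻¹ = (t * x * t⁻¹ * x⁻¹) * x := by group
        rw [e]
        exact mul_mem (mem_sup_right (hcomm' t ht x hx')) hx
    have h2 : GF M ⊓ (S : Subgroup G) ≤ T := Up.inf_GF_le M hC hup
    have h3 : ¬ 2 ∣ (GF M ⊓ (S : Subgroup G)).relIndex (GF M) :=
      TwoPlus.not_dvd_inf (H := GF M ⊔ (S : Subgroup G)) le_sup_right
        (MinSimple.Basic.not_dvd_relIndex S le_sup_right) le_sup_left (sup_le le_normalizer (S_normalizes_GF M))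
    have h4 : IsPGroup 2 ↥(TX ⊔ GF M ⊓ (S : Subgroup G)) :=
      hTX2.to_sup_of_normal_left' (hT2.to_le h2) (h2.trans hTTX)
    exact (le_sup_left.trans (two_le_of h4 le_sup_right (sup_le h1 inf_le_left) h3)).trans h2
  exact ⟨hTXT, hTXs, hQLX⟩

omit hC hup [Finite F] [CharP F 2] in
/-- `up b` on `V₁`, in terms of `pre` -/
theorem ind_pre {i : Fin k} {x : G} {A : Matrix.SpecialLinearGroup (Fin 2) F}
    (hxn : ∀ v ∈ fac M.toNatV i, x * v * x⁻¹ ∈ fac M.toNatV i)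
    (h : ∀ v ∈ fac M.toNatV i, M.e (x * v * x⁻¹) i = ap A (M.e v i)) : (pre M.toNatV i).Ind x A := by
  intro y
  refine ext_fac M.toNatV (hxn _ ((pre M.toNatV i).e_mem y)) ((pre M.toNatV i).e_mem _) ?_
  rw [h _ ((pre M.toNatV i).e_mem y), pre_e, pre_e]

omit hC hup [Finite F] [CharP F 2] in
theorem pre_ind {i : Fin k} {x : G} {A : Matrix.SpecialLinearGroup (Fin 2) F} (h : (pre M.toNatV i).Ind x A) :
    ∀ v ∈ fac M.toNatV i, M.e (x * v * x⁻¹) i = ap A (M.e v i) := by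
  intro v hv
  obtain ⟨y, rfl⟩ := ((pre M.toNatV i).mem_iff v).1 hv
  rw [h y, pre_e, pre_e]

/-- `X` induces `SL₂(F)` on `V₁` -/
theorem lift_XB {i : Fin k} (hQLX : QL M i ≤ XB M i) (A : Matrix.SpecialLinearGroup (Fin 2) F) :
    ∃ g ∈ XB M i, (pre M.toNatV i).Ind g A := by
  have hXn : normalizer (fac M.toNatV i : Set G) ≤ normalizer (XB M i : Set G) := N_le_nor (NLFree.le_normalizer_cent le_rfl)
  have hup' : ∀ b : F, ∃ g ∈ XB M i, (pre M.toNatV i).Ind g (up b) := by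
    intro b
    obtain ⟨x, hx, hxb⟩ := hup i b
    exact ⟨x, hQLX hx, ind_pre M (fun v hv =>
      (mem_normalizer_iff.1 (stab_normalizes _ i (QL_le_stab M hC i hx)) v).1 hv) hxb⟩
  have hlo : ∀ b : F, ∃ g ∈ XB M i, (pre M.toNatV i).Ind g (lo b) := by
    intro b
    obtain ⟨x, hx, hxb⟩ := hup' (-b)
    obtain ⟨w, hw, hwA⟩ := exists_lift M.toNatV i (wm 1 one_ne_zero)
    have hw' : (pre M.toNatV i).Ind w (wm 1 one_ne_zero) := ind_pre M (fun v hv => grp_conj_fac hw hv) fun v hv =>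
      hwA v hv.1
    refine ⟨w * x * w⁻¹, (mem_normalizer_iff.1 (hXn (grp_normalizes M.toNatV {i} {i} hw)) x).1 hx, ?_⟩
    have h1 := (hw'.mul _ hxb).mul _ (hw'.inv _)
    have e : wm (1 : F) one_ne_zero * up (-b) * (wm 1 one_ne_zero)⁻¹ = lo b := by
      rw [wm_up, mul_inv_cancel_right]
      congr 1
      simp
    rwa [e] at h1
  obtain ⟨a, b, c, d, rfl⟩ := exists_up_lo A
  obtain ⟨x₁, h1, h1'⟩ := hup' a
  obtain ⟨x₂, h2, h2'⟩ := hlo b
  obtain ⟨x₃, h3, h3'⟩ := hup' c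
  obtain ⟨x₄, h4, h4'⟩ := hlo d
  exact ⟨x₁ * x₂ * x₃ * x₄, mul_mem (mul_mem (mul_mem h1 h2) h3) h4, ((h1'.mul _ h2').mul _ h3').mul _ h4'⟩

omit hC hup in
theorem cent_mem_XB {i : Fin k} {c : G} (hc : c ∈ o2 (centralizer (fac M.toNatV i : Set G))) : c ∈ XB M i := by
  have hcC := ZN.o2_le _ hc
  refine ⟨centralizer_le_normalizer _ hcC, fun x hx => ?_⟩
  exact mul_mem ((mem_normalizer_iff.1 (ZN.le_normalizer_o2 _ hx) c).1 hc) (inv_mem hc)

/-- If `X` normalises the `SL₂(F)` on `V₁` then `QL M i ≤ O₂(C_X(r))`. -/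
theorem QL_le_o2_of_norm {i : Fin k} (hQLX : QL M i ≤ XB M i) {r : G} (hr : r ∈ line M.toNatV i) (hr1 : r ≠ 1)
    (hn : ∀ g ∈ XB M i, ∀ h ∈ XB M i, ∀ A, (pre M.toNatV i).Ind h A → ∃ B, (pre M.toNatV i).Ind (g * h * g⁻¹) B) :
    QL M i ≤ o2 (XB M i ⊓ centralizer ({r} : Set G)) := by
  set V₁ : Subgroup G := fac M.toNatV i with hV₁
  set C₁ : Subgroup G := centralizer (V₁ : Set G) with hC₁
  set X : Subgroup G := XB M i with hX
  set H : Subgroup G := centralizer ({r} : Set G) with hH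
  have hRV : line M.toNatV i ≤ V₁ := line_le _ _
  have hXN : X ≤ normalizer (V₁ : Set G) := cenMod_le
  have hrV : r ∈ V₁ := hRV hr
  have hr0 : M.e r i 0 ≠ 0 := by
    intro h
    apply hr1
    refine ext_fac M.toNatV hrV (one_mem _) ?_
    rw [e_one]
    exact NatPair.ext2 h ((mem_line M.toNatV).1 hr).2
  have hQLH : QL M i ≤ H := fun x hx => mem_centralizer_singleton_iff.2
    (mem_centralizer_iff.1 (o2_cent_line' M i hx) r hr).symm
  have hQLind : ∀ x ∈ QL M i, ∃ b : F, (pre M.toNatV i).Ind x (up b) := by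
    intro x hx
    obtain ⟨b, hb⟩ := o2_up_big M hC hx
    exact ⟨b, ind_pre M (fun v hv =>
      (mem_normalizer_iff.1 (stab_normalizes _ i (QL_le_stab M hC i hx)) v).1 hv) hb⟩
  let Y : Subgroup G :=
    { carrier := {x | x ∈ X ⊓ H ∧ ∃ b : F, (pre M.toNatV i).Ind x (up b)}
      one_mem' := ⟨one_mem _, 0, by rw [up_zero]; exact (pre M.toNatV i).ind_one⟩
      mul_mem' := by
        rintro x y ⟨h1, b, hb⟩ ⟨h2, c, hc⟩
        refine ⟨mul_mem h1 h2, b + c, ?_⟩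
        rw [← up_mul]
        exact hb.mul _ hc
      inv_mem' := by
        rintro x ⟨h1, b, hb⟩
        refine ⟨inv_mem h1, -b, ?_⟩
        rw [← up_inv]
        exact hb.inv _ }
  have hYXH : Y ≤ X ⊓ H := fun y hy => hy.1
  have hYn : X ⊓ H ≤ normalizer (Y : Set G) := by
    refine le_nor_of ?_
    rintro g hg x ⟨hx, b, hb⟩
    refine ⟨mul_mem (mul_mem hg hx) (inv_mem hg), ?_⟩
    obtain ⟨B, hB⟩ := hn g hg.1 x hx.1 _ hb
    have hgr : g * r * g⁻¹ = r := mul_inv_eq_iff_eq_mul.2 (mem_centralizer_singleton_iff.1 hg.2)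
    have hxr : x * r * x⁻¹ = r := mul_inv_eq_iff_eq_mul.2 (mem_centralizer_singleton_iff.1 hx.2)
    have h1 : g * x * g⁻¹ * r * (g * x * g⁻¹)⁻¹ = r := by
      have hgr' : g⁻¹ * r * g = r := by
        conv_lhs => rw [← hgr]
        group
      calc g * x * g⁻¹ * r * (g * x * g⁻¹)⁻¹ = g * (x * (g⁻¹ * r * g) * x⁻¹) * g⁻¹ := by group
        _ = r := by rw [hgr', hxr, hgr]
    have h2 := pre_ind M hB r hrV
    rw [h1] at h2
    have h3 := congrFun h2 0
    have h4 := congrFun h2 1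
    rw [NatPair.ap_zero', ((mem_line M.toNatV).1 hr).2, mul_zero, add_zero] at h3
    rw [NatPair.ap_one', ((mem_line M.toNatV).1 hr).2, mul_zero, add_zero] at h4
    have h00 : ent B 0 0 = 1 := by
      have : (ent B 0 0 - 1) * M.e r i 0 = 0 := by linear_combination -h3
      exact sub_eq_zero.1 ((mul_eq_zero.1 this).resolve_right hr0)
    have h10 : ent B 1 0 = 0 := (mul_eq_zero.1 h4.symm).resolve_right hr0
    have h11 : ent B 1 1 = 1 := by
      have := det_eq B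
      rw [h00, h10] at this
      linear_combination this
    refine ⟨ent B 0 1, ?_⟩
    have e : B = up (ent B 0 1) := ext_ent (by rw [h00, up_00]) (by rw [up_01]) (by rw [h10, up_10])
      (by rw [h11, up_11])
    rw [← e]
    exact hB
  have hQLY : QL M i ≤ Y := fun x hx => ⟨⟨hQLX hx, hQLH hx⟩, hQLind x hx⟩
  have hOY : o2 C₁ ≤ Y := by
    intro c hc
    have hcC := ZN.o2_le _ hc
    refine ⟨⟨cent_mem_XB M hc, mem_centralizer_singleton_iff.2 (mem_centralizer_iff.1 hcC r hrV).symm⟩, 0, ?_⟩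
    rw [up_zero]
    intro x
    rw [ap_one, ← mem_centralizer_iff.1 hcC _ ((pre M.toNatV i).e_mem x), mul_inv_cancel_right]
  have hYO : Y ≤ normalizer (o2 C₁ : Set G) := (hYXH.trans (inf_le_left.trans hXN)).trans (nor_le_o2C M i)
  set W : Subgroup G := QL M i ⊔ o2 C₁ with hW
  have hW2 : IsPGroup 2 W := (QL_two M i).to_sup_of_normal_right' (o2_isPGroup _) (hQLY.trans hYO)
  have hYW : Y ≤ normalizer (W : Set G) := by
    intro y hy
    obtain ⟨b, hb⟩ := hy.2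
    obtain ⟨x, hx, hxb⟩ := hup i b
    have hxi : (pre M.toNatV i).Ind x (up b) := ind_pre M (fun v hv =>
      (mem_normalizer_iff.1 (stab_normalizes _ i (QL_le_stab M hC i hx)) v).1 hv) hxb
    have hcY : x⁻¹ * y ∈ Y := mul_mem (inv_mem (hQLY hx)) hy
    have hcC : x⁻¹ * y ∈ C₁ := by
      have h1 := (hxi.inv _).mul _ hb
      rw [inv_mul_cancel] at h1
      refine mem_centralizer_iff.2 fun v hv => ?_
      obtain ⟨z, rfl⟩ := ((pre M.toNatV i).mem_iff v).1 hv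
      have h2 := h1 z
      rw [ap_one] at h2
      exact (mul_inv_eq_iff_eq_mul.1 h2).symm
    have hcW : x⁻¹ * y ∈ normalizer (W : Set G) := by
      have hK : C₁ ≤ normalizer (W : Set G) := by
        refine le_nor_of fun c hc w hw => ?_
        have hmap : cj c W ≤ W := by
          change Subgroup.map _ _ ≤ _
          rw [hW, Subgroup.map_sup]
          refine sup_le ?_ ?_
          · rintro _ ⟨x', hx', rfl⟩
            change c * x' * c⁻¹ ∈ _
            have h5 : c * x' * c⁻¹ * x'⁻¹ ∈ o2 C₁ := (hQLX hx').2 c hc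
            have e : c * x' * c⁻¹ = (c * x' * c⁻¹ * x'⁻¹) * x' := by group
            rw [e]
            exact mul_mem (mem_sup_right h5) (mem_sup_left hx')
          · change cj c (o2 C₁) ≤ _
            rw [cj_eq_of_mem_normalizer (ZN.le_normalizer_o2 _ hc)]
            exact le_sup_right
        exact hmap ⟨w, hw, rfl⟩
      exact hK hcC
    have hxW : x ∈ normalizer (W : Set G) := le_normalizer (mem_sup_left hx)
    have := mul_mem hxW hcW
    rwa [mul_inv_cancel_left] at this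
  have h1 : W ≤ o2 Y := VModule.le_o2 (sup_le hQLY hOY) hW2 hYW
  have h2 : o2 Y ≤ o2 (X ⊓ H) := VModule.le_o2 ((ZN.o2_le _).trans hYXH) (o2_isPGroup _)
    (hYn.trans (ZN.normalizer_le_normalizer_o2 _))
  exact le_sup_left.trans (h1.trans h2)

omit hC hup [Finite F] [CharP F 2] in
/-- four elements -/
theorem four_eq {R : Subgroup G} (h4 : Nat.card R = 4) (hsq : ∀ x ∈ R, x * x = 1) {r a y : G} (hr : r ∈ R)
    (hr1 : r ≠ 1) (ha : a ∈ R) (ha1 : a ≠ 1) (har : a ≠ r) (hy : y ∈ R) (hy1 : y ≠ 1) (hyr : y ≠ r) :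
    y = a ∨ y = r * a := by
  by_contra hcon
  rw [not_or] at hcon
  have hsub : ({1, r, a, r * a, y} : Set G) ⊆ (R : Set G) := by
    rintro x (rfl | rfl | rfl | rfl | rfl)
    · exact one_mem _
    · exact hr
    · exact ha
    · exact mul_mem hr ha
    · exact hy
  have hfin : (R : Set G).Finite := Set.toFinite _
  have h1 := Set.ncard_le_ncard hsub hfin
  have h2 : (R : Set G).ncard = 4 := h4
  have hra1 : r * a ≠ 1 := by
    intro h
    apply har
    have h3 := hsq r hr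
    exact mul_left_cancel (h.trans h3.symm)
  have h5 : ({1, r, a, r * a, y} : Set G).ncard = 5 := by
    have e1 : (1 : G) ∉ ({r, a, r * a, y} : Set G) := by
      simp only [Set.mem_insert_iff, Set.mem_singleton_iff, not_or]
      exact ⟨hr1.symm, ha1.symm, hra1.symm, hy1.symm⟩
    have e2 : r ∉ ({a, r * a, y} : Set G) := by
      simp only [Set.mem_insert_iff, Set.mem_singleton_iff, not_or]
      refine ⟨har.symm, fun h => ha1 ?_, hyr.symm⟩
      exact (left_eq_mul.1 h)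
    have e3 : a ∉ ({r * a, y} : Set G) := by
      simp only [Set.mem_insert_iff, Set.mem_singleton_iff, not_or]
      refine ⟨fun h => hr1 ?_, fun h => hcon.1 h.symm⟩
      exact (right_eq_mul.1 h)
    have e4 : r * a ∉ ({y} : Set G) := by
      simp only [Set.mem_singleton_iff]
      exact fun h => hcon.2 h.symm
    rw [Set.ncard_insert_of_notMem e1 (Set.toFinite _), Set.ncard_insert_of_notMem e2 (Set.toFinite _),
      Set.ncard_insert_of_notMem e3 (Set.toFinite _), Set.ncard_insert_of_notMem e4 (Set.toFinite _),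
      Set.ncard_singleton]
  omega

/-- a 2-element `t ∈ C_G(R)` which normalises `X ∩ U` acts on `V₁` as some `up b`, if there are no transvections -/
theorem up_of_tvfree {i : Fin k} (hF : Nat.card F = 4) {TX : Subgroup G} (hTXT : TX ≤ stab M.toNatV i)
    (hQLTX : QL M i ≤ TX) {N : Subgroup G} (htv : ∀ g ∈ N, ∀ c, ¬ NatPair.PreMod.Tv (fac M.toNatV i) c g)
    (hTXN : TX ≤ N) {t : G} (htN : t ∈ N) (htV : t ∈ normalizer (fac M.toNatV i : Set G))
    (ht2 : ∃ n : ℕ, t ^ 2 ^ n = 1) (htX : t ∈ normalizer (TX : Set G))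
    (htR : ∀ r ∈ line M.toNatV i, t * r * t⁻¹ = r) : ∃ b : F, (pre M.toNatV i).Ind t (up b) := by
  have hfact : Fact (Nat.Prime 2) := ⟨Nat.prime_two⟩
  set V₁ : Subgroup G := fac M.toNatV i with hV₁
  set R : Subgroup G := line M.toNatV i with hR
  have hRV : R ≤ V₁ := line_le _ _
  have htv' : ∀ v ∈ V₁, t * v * t⁻¹ ∈ V₁ := fun v hv => (mem_normalizer_iff.1 htV v).1 hv
  -- the commutators
  have hcoord : ∀ {x v : G} {b : F}, (∀ v ∈ V₁, x * v * x⁻¹ ∈ V₁) →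
      (∀ v ∈ V₁, M.e (x * v * x⁻¹) i = ap (up b) (M.e v i)) → v ∈ V₁ → M.e (x * v * x⁻¹ * v⁻¹) i = ![b * M.e v i 1, 0] := by
    intro x v b hxn hxb hv
    rw [M.mul _ (hxn v hv).1 _ (inv_mem hv.1), e_inv M.toNatV hv.1, Pi.add_apply, Pi.neg_apply, hxb v hv]
    apply NatPair.ext2
    · rw [Pi.add_apply, NatPair.ap_zero', up_00, up_01]
      simp
    · rw [Pi.add_apply, NatPair.ap_one', up_10, up_11]
      simp
  obtain ⟨u, hu, hue⟩ := exists_fac M.toNatV i ![0, 1]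
  -- `t` acts on `V₁ / R` as a scalar
  obtain ⟨x, hx, hxb⟩ := hup i 1
  have hxn : ∀ v ∈ V₁, x * v * x⁻¹ ∈ V₁ := fun v hv =>
    (mem_normalizer_iff.1 (stab_normalizes _ i (QL_le_stab M hC i hx)) v).1 hv
  have hx' : t * x * t⁻¹ ∈ TX := (mem_normalizer_iff.1 htX x).1 (hQLTX hx)
  have hxst : t * x * t⁻¹ ∈ stab M.toNatV i := hTXT hx'
  have htR' : ∀ r ∈ R, t⁻¹ * r * t = r := fun r hr => by
    conv_lhs => rw [← htR r hr]
    group
  have hxR : ∀ r ∈ R, t * x * t⁻¹ * r * (t * x * t⁻¹)⁻¹ = r := by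
    intro r hr
    have h1 : x * r * x⁻¹ = r := by
      rw [← mem_centralizer_iff.1 (o2_cent_line' M i hx) r hr, mul_inv_cancel_right]
    calc t * x * t⁻¹ * r * (t * x * t⁻¹)⁻¹ = t * (x * (t⁻¹ * r * t) * x⁻¹) * t⁻¹ := by group
      _ = r := by rw [htR' r hr, h1, htR r hr]
  obtain ⟨b', hb'⟩ : ∃ b' : F, ∀ v ∈ V₁, M.e (t * x * t⁻¹ * v * (t * x * t⁻¹)⁻¹) i = ap (up b') (M.e v i) := by
    refine exists_up (SP M (stab_le _ _ hxst)) hxR fun v hv => ?_
    obtain ⟨n, hn⟩ := S.isPGroup' ⟨_, stab_le _ _ hxst⟩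
    exact comm_line M.toNatV (SP M) hxst ⟨n, congrArg Subtype.val hn⟩
      (fun r hr => mul_inv_eq_iff_eq_mul.1 (hxR r hr)) hv
  have hx'n : ∀ v ∈ V₁, t * x * t⁻¹ * v * (t * x * t⁻¹)⁻¹ ∈ V₁ := fun v hv =>
    (mem_normalizer_iff.1 (stab_normalizes _ i hxst) v).1 hv
  have hkey : ∀ v ∈ V₁, M.e v i 1 = b' * M.e (t * v * t⁻¹) i 1 := by
    intro v hv
    have h1 := hcoord hxn hxb hv
    have h2 : x * v * x⁻¹ * v⁻¹ ∈ R := by
      rw [hR, mem_line]
      exact ⟨mul_mem (hxn v hv) (inv_mem hv), by rw [h1]; rfl⟩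
    have h3 := htR _ h2
    have e : t * (x * v * x⁻¹ * v⁻¹) * t⁻¹ =
        t * x * t⁻¹ * (t * v * t⁻¹) * (t * x * t⁻¹)⁻¹ * (t * v * t⁻¹)⁻¹ := by group
    have h4 := hcoord hx'n hb' (htv' v hv)
    rw [← e, h3, h1] at h4
    have := congrFun h4 0
    simpa using this
  have hb0 : b' ≠ 0 := by
    intro h0
    have := hkey u hu
    rw [hue, h0] at this
    simp at this
  have hsc : ∀ v ∈ V₁, M.e (t * v * t⁻¹) i 1 = b'⁻¹ * M.e v i 1 := fun v hv => by
    rw [hkey v hv, inv_mul_cancel_left₀ hb0]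
  have hpow : ∀ n : ℕ, ∀ v ∈ V₁, t ^ n * v * (t ^ n)⁻¹ ∈ V₁ ∧ M.e (t ^ n * v * (t ^ n)⁻¹) i 1 = b'⁻¹ ^ n * M.e v i 1 := by
    intro n
    induction n with
    | zero => intro v hv; simpa using hv
    | succ n ih =>
      intro v hv
      obtain ⟨h5, h6⟩ := ih v hv
      have e : t ^ (n + 1) * v * (t ^ (n + 1))⁻¹ = t * (t ^ n * v * (t ^ n)⁻¹) * t⁻¹ := by
        rw [pow_succ']; group
      rw [e]
      exact ⟨htv' _ h5, by rw [hsc _ h5, h6]; ring⟩
  have hb1 : b'⁻¹ = 1 := by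
    obtain ⟨n, hn⟩ := ht2
    have h5 := (hpow (2 ^ n) u hu).2
    rw [hn, hue] at h5
    have e : (1 : G) * u * 1⁻¹ = u := by group
    rw [e, hue] at h5
    have h5' : b'⁻¹ ^ 2 ^ n = 1 := by
      have h7 : b'⁻¹ ^ 2 ^ n * (1 : F) = 1 := h5.symm
      rwa [mul_one] at h7
    have h6 : (b'⁻¹ - 1) ^ 2 ^ n = 0 := by
      rw [sub_pow_char_pow, one_pow, h5', sub_self]
    exact sub_eq_zero.1 ((pow_eq_zero_iff (by positivity)).1 h6)
  have hsc' : ∀ v ∈ V₁, M.e (t * v * t⁻¹) i 1 = M.e v i 1 := fun v hv => by rw [hsc v hv, hb1, one_mul]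
  -- correct by an element of `QL M i`
  obtain ⟨y, hy, hyb⟩ := hup i (M.e (t * u * t⁻¹) i 0)
  have hyn : ∀ v ∈ V₁, y * v * y⁻¹ ∈ V₁ := fun v hv =>
    (mem_normalizer_iff.1 (stab_normalizes _ i (QL_le_stab M hC i hy)) v).1 hv
  have hyi : (pre M.toNatV i).Ind y (up (M.e (t * u * t⁻¹) i 0)) := ind_pre M hyn hyb
  have hyu : y * u * y⁻¹ = t * u * t⁻¹ := by
    refine ext_fac M.toNatV (hyn u hu) (htv' u hu) ?_
    rw [hyb u hu]
    apply NatPair.ext2
    · rw [NatPair.ap_zero', up_00, up_01, hue]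
      simp
    · rw [NatPair.ap_one', up_10, up_11, hue, hsc' u hu, hue]
      simp
  set s := y⁻¹ * t with hs
  have hsu : s * u * s⁻¹ = u := by
    calc s * u * s⁻¹ = y⁻¹ * (t * u * t⁻¹) * y := by rw [hs]; group
      _ = u := by rw [← hyu]; group
  have hyR : ∀ r ∈ R, y⁻¹ * r * y = r := by
    intro r hr
    have h1 := mem_centralizer_iff.1 (o2_cent_line' M i hy) r hr
    calc y⁻¹ * r * y = y⁻¹ * (r * y) := by group
      _ = y⁻¹ * (y * r) := by rw [h1]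
      _ = r := by group
  have hsR : ∀ r ∈ R, s * r * s⁻¹ = r := by
    intro r hr
    calc s * r * s⁻¹ = y⁻¹ * (t * r * t⁻¹) * y := by rw [hs]; group
      _ = r := by rw [htR r hr, hyR r hr]
  have hyst := QL_le_stab M hC i hy
  have hsV : s ∈ normalizer (V₁ : Set G) := mul_mem (inv_mem (stab_normalizes _ i hyst)) htV
  have hsN : s ∈ N := mul_mem (inv_mem (hTXN (hQLTX hy))) htN
  -- `C_{V₁}(s)`
  set Cs : Subgroup G := V₁ ⊓ centralizer ({s} : Set G) with hCs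
  have hmemCs : ∀ {v : G}, v ∈ V₁ → s * v * s⁻¹ = v → v ∈ Cs := fun hv h =>
    ⟨hv, mem_centralizer_singleton_iff.2 (mul_inv_eq_iff_eq_mul.1 h).symm⟩
  have hCs' : ∀ v ∈ Cs, s * v * s⁻¹ = v := fun v hv =>
    mul_inv_eq_iff_eq_mul.2 (mem_centralizer_singleton_iff.1 hv.2).symm
  have hRC : R ≤ Cs := fun r hr => hmemCs (hRV hr) (hsR r hr)
  have huC : u ∈ Cs := hmemCs hu hsu
  have huR : u ∉ R := fun h => by
    have := ((mem_line M.toNatV).1 h).2
    rw [hue] at this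
    simp at this
  by_cases hall : V₁ ≤ Cs
  · refine ⟨M.e (t * u * t⁻¹) i 0, ?_⟩
    have h1 : (pre M.toNatV i).Ind s 1 := fun x => by
      rw [ap_one, hCs' _ (hall ((pre M.toNatV i).e_mem x))]
    have h2 := hyi.mul _ h1
    rw [mul_one] at h2
    rwa [hs, mul_inv_cancel_left] at h2
  · exfalso
    have hcR : Nat.card R = 4 := by rw [hR, card_line, hF]
    have hcV : Nat.card V₁ = 16 := by rw [hV₁, card_fac, hF]; norm_num
    have hlt1 : R < Cs := lt_of_le_of_ne hRC fun h => huR (by rw [h]; exact huC)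
    have hcard1 : Nat.card R < Nat.card Cs := by
      refine lt_of_le_of_ne (Subgroup.card_le_of_le hRC) fun h => hlt1.ne ?_
      exact Subgroup.eq_of_le_of_card_ge hRC h.ge
    have hCsV : Cs ≤ V₁ := inf_le_left
    have hrel : Nat.card Cs * Cs.relIndex V₁ = Nat.card V₁ := by
      have := Subgroup.relIndex_mul_relIndex ⊥ Cs V₁ bot_le hCsV
      rwa [Subgroup.relIndex_bot_left, Subgroup.relIndex_bot_left] at this
    have hd4 : Nat.card R ∣ Nat.card Cs := Subgroup.card_dvd_of_le hRC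
    have hrel2 : Cs.relIndex V₁ = 2 := by
      have hne1 : Cs.relIndex V₁ ≠ 1 := fun h => hall (Subgroup.relIndex_eq_one.1 h)
      rw [hcV] at hrel
      rw [hcR] at hcard1 hd4
      obtain ⟨m, hm⟩ := hd4
      rw [hm] at hrel hcard1
      have hm2 : 2 ≤ m := by omega
      have h5 : m * Cs.relIndex V₁ = 4 := by nlinarith
      have h6 : Cs.relIndex V₁ ≤ 2 := by
        by_contra h7
        push Not at h7
        nlinarith
      have h7 : Cs.relIndex V₁ ≠ 0 := by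
        intro h0
        rw [h0] at h5
        omega
      omega
    obtain ⟨v₀, hv₀, hv₀C⟩ := SetLike.not_le_iff_exists.1 hall
    have hsv₀ : s * v₀ * s⁻¹ ∈ V₁ := (mem_normalizer_iff.1 hsV v₀).1 hv₀
    have hcomm : ∀ a ∈ V₁, ∀ b ∈ V₁, a * b = b * a := fun a ha b hb => NV.comm M.toNatV ha.1 hb.1
    refine htv s hsN (v₀⁻¹ * (s * v₀ * s⁻¹)) ⟨mul_mem (inv_mem hv₀) hsv₀, fun h => hv₀C ?_, hsV, fun v hv => ?_,
      v₀, hv₀, fun h => hv₀C (hmemCs hv₀ h)⟩
    · exact hmemCs hv₀ (inv_mul_eq_one.1 h).symm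
    · by_cases hvC : v ∈ Cs
      · exact Or.inl (hCs' v hvC)
      · right
        have h3 := Subgroup.mul_mem_iff_of_index_two (H := Cs.subgroupOf V₁) hrel2 (a := ⟨v, hv⟩)
          (b := ⟨v₀⁻¹, inv_mem hv₀⟩)
        rw [mem_subgroupOf, mem_subgroupOf, mem_subgroupOf] at h3
        have h4 : v * v₀⁻¹ ∈ Cs := h3.2 ⟨fun h => absurd h hvC, fun h => absurd (by simpa using inv_mem h) hv₀C⟩
        have h5 := hCs' _ h4
        calc s * v * s⁻¹ = (s * (v * v₀⁻¹) * s⁻¹) * (s * v₀ * s⁻¹) := by group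
          _ = v * v₀⁻¹ * (s * v₀ * s⁻¹) := by rw [h5]
          _ = v * (v₀⁻¹ * (s * v₀ * s⁻¹)) := by group

/-- **A 2-group `U₀`, `stab M i ≤ U₀ ≤ N_G(V₁) ∩ N_G(R)`, acts semilinearly on `V₁`.** -/
theorem nm_mix {i : Fin k} {U₀ : Subgroup G} (hU₀2 : IsPGroup 2 U₀) (hTU₀ : stab M.toNatV i ≤ U₀)
    (hU₀V : U₀ ≤ normalizer (fac M.toNatV i : Set G)) (hU₀R : U₀ ≤ normalizer (line M.toNatV i : Set G)) :
    ∀ t ∈ U₀, (pre M.toNatV i).Nm t := by
  have hfact : Fact (Nat.Prime 2) := ⟨Nat.prime_two⟩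
  set V₁ : Subgroup G := fac M.toNatV i with hV₁
  set R : Subgroup G := line M.toNatV i with hR
  set T : Subgroup G := stab M.toNatV i with hT
  set N₁ : Subgroup G := normalizer (V₁ : Set G) with hN₁
  set C₁ : Subgroup G := centralizer (V₁ : Set G) with hC₁
  have hRV : R ≤ V₁ := line_le _ _
  have hT2 : IsPGroup 2 T := S.isPGroup'.to_le (stab_le _ _)
  have hTN : T ≤ N₁ := stab_normalizes _ i
  have hQLT : QL M i ≤ T := QL_le_stab M hC i
  have hNC : N₁ ≤ normalizer (C₁ : Set G) := NLFree.le_normalizer_cent le_rfl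
  obtain ⟨U, hU₀U, hUN, hU2, hUs⟩ := Half.exists_sylow_le hU₀2 hU₀V
  obtain ⟨hTXT, hTXs, hQLX⟩ := xframe M hC hup hU2 (hTU₀.trans hU₀U) hUN hUs
  set X : Subgroup G := XB M i with hX
  have hXN : X ≤ N₁ := cenMod_le
  have hNX : N₁ ≤ normalizer (X : Set G) := N_le_nor hNC
  set TX : Subgroup G := X ⊓ U with hTX
  have hTX2 : IsPGroup 2 TX := hU2.to_le inf_le_right
  have hTXX : TX ≤ X := inf_le_left
  have hTXN : TX ≤ N₁ := hTXX.trans hXN
  have hQLTX : QL M i ≤ TX := le_inf hQLX (hQLT.trans (hTU₀.trans hU₀U))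
  -- `r`
  have hR2 : IsPGroup 2 R := (S.isPGroup'.to_le (V_le_S M)).to_le (hRV.trans (fac_le _ _))
  obtain ⟨r, hr, hr1, hrc⟩ := Half.exists_fixed hR2 (line_ne_bot' (M := M.toNatV) i) hU₀2 hU₀R
  have hrf : r ∈ V₁ := hRV hr
  have hrS : ∀ t ∈ T, t * r = r * t := fun t ht => mul_inv_eq_iff_eq_mul.1 (hrc t (hTU₀ ht))
  set H : Subgroup G := centralizer ({r} : Set G) with hH
  have hTH : T ≤ H := fun t ht => mem_centralizer_singleton_iff.2 (hrS t ht)
  set O : Subgroup G := o2 (X ⊓ H) with hOdef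
  have hOT : O ≤ T := by
    have h1 : TX ≤ X ⊓ H := le_inf hTXX (hTXT.trans hTH)
    have h2 : ¬ 2 ∣ TX.relIndex (X ⊓ H) := fun h => hTXs (h.trans
      ⟨_, (Subgroup.relIndex_mul_relIndex TX (X ⊓ H) X h1 inf_le_left).symm⟩)
    exact (VModule.o2_le_of_sylow hTX2 h2).trans hTXT
  by_cases hcen : O ≤ centralizer (V₁ : Set G)
  swap
  · intro t ht
    refine nm_of_o2 (pre M.toNatV i) hrf hr1 (o2_isPGroup _ : IsPGroup 2 O) (hOT.trans hTN)
      (fun o ho => Nm_stab (SP M) M.toNatV i o (hOT ho)) (fun o ho => hrS o (hOT ho)) (fun n hn hnr => ?_) hcen t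
      (hU₀V ht)
    have h1 : n ∈ normalizer (H : Set G) := le_normalizer (mem_centralizer_singleton_iff.2 hnr)
    refine ZN.normalizer_le_normalizer_o2 _ ?_
    exact Half.le_normalizer_inf (K := N₁ ⊓ normalizer (H : Set G)) (inf_le_left.trans hNX) inf_le_right ⟨hn, h1⟩
  -- `O` centralises `V₁`
  have hVX : V₁ ≤ X := by
    intro v hv
    refine ⟨le_normalizer hv, fun c hc => ?_⟩
    have h1 := mem_centralizer_iff.1 hc v hv
    have e : c * v * c⁻¹ * v⁻¹ = 1 := by rw [← h1]; group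
    rw [e]
    exact one_mem _
  have hlift := lift_XB M hC hup (i := i) hQLX
  have hTXNm : ∀ t ∈ TX, (pre M.toNatV i).Nm t := fun t ht => Nm_stab (SP M) M.toNatV i t (hTXT ht)
  rcases (pre M.toNatV i).dich_subX hXN hVX hlift hTX2 hTXX hTXs hTXNm with hn | hexc
  · -- `X` normalises the `SL₂(F)`
    exfalso
    have h1 := QL_le_o2_of_norm M hC hup hQLX hr hr1 hn
    obtain ⟨x, hx, hxb⟩ := hup i 1
    obtain ⟨u, hu, hue⟩ := exists_fac M.toNatV i ![0, 1]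
    have h2 := mem_centralizer_iff.1 (hcen (h1 hx)) u hu
    have h3 := hxb u hu
    have h4 : x * u * x⁻¹ = u := by rw [← h2, mul_inv_cancel_right]
    rw [h4, hue] at h3
    have h5 := congrFun h3 0
    rw [NatPair.ap_zero', up_00, up_01] at h5
    simp at h5
  · have h4 := hexc.card
    have htv := NatPair.PreMod.tv_free (pre M.toNatV i) hXN hlift hTX2 hTXX hTXs hTXNm h4.ge hexc.fuse hNX
    have hUTX : U₀ ≤ normalizer (TX : Set G) :=
      Half.le_normalizer_inf (hU₀V.trans hNX) (hU₀U.trans le_normalizer)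
    -- the elements of `U₀` which centralise `R`
    have hstep : ∀ t ∈ U₀, (∀ r ∈ R, t * r * t⁻¹ = r) → ∃ b : F, (pre M.toNatV i).Ind t (up b) := by
      intro t ht htR
      obtain ⟨n, hn⟩ := hU₀2 ⟨t, ht⟩
      exact up_of_tvfree M hC hup h4 hTXT hQLTX htv hTXN (hU₀V ht) (hU₀V ht) ⟨n, congrArg Subtype.val hn⟩
        (hUTX ht) htR
    intro t ht
    by_cases htR : ∀ r ∈ R, t * r * t⁻¹ = r
    · obtain ⟨b, hb⟩ := hstep t ht htR
      exact PreMod.Nm.of_ind _ hb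
    · -- an element of `TX` which moves `R`
      have hcR : Nat.card R = 4 := by rw [hR, card_line, h4]
      obtain ⟨x, hx, hxR⟩ : ∃ x ∈ TX, ∃ ρ ∈ R, x * ρ * x⁻¹ ≠ ρ := by
        by_contra hcon
        push Not at hcon
        obtain ⟨w, -, -, -, h2⟩ := hexc.point
        have h3 : R ≤ V₁ ⊓ centralizer (TX : Set G) := fun ρ hρ =>
          ⟨hRV hρ, mem_centralizer_iff.2 fun x hx => mul_inv_eq_iff_eq_mul.1 (hcon x hx ρ hρ)⟩
        have h5 := Subgroup.card_le_of_le h3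
        rw [h2, hcR] at h5
        omega
      have hxT : x ∈ T := hTXT hx
      have hxU : x ∈ U₀ := hTU₀ hxT
      have hsq : ∀ x ∈ R, x * x = 1 := fun x hx => NV.sq M.toNatV (hRV hx).1
      -- a third element
      obtain ⟨a, ha, ha1, har⟩ : ∃ a ∈ R, a ≠ 1 ∧ a ≠ r := by
        by_contra hcon
        push Not at hcon
        have h5 : (R : Set G) ⊆ {1, r} := fun y hy => by
          by_cases hy1 : y = 1
          · exact Or.inl hy1
          · exact Or.inr (hcon y hy hy1)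
        have h6 := Set.ncard_le_ncard h5 (Set.toFinite _)
        have h7 : (R : Set G).ncard = 4 := hcR
        rw [Set.ncard_pair hr1.symm, h7] at h6
        omega
      -- the elements of `U₀` on `R`
      have hfa : ∀ g ∈ U₀, g * a * g⁻¹ = a ∨ g * a * g⁻¹ = r * a := by
        intro g hg
        refine four_eq hcR hsq hr hr1 ha ha1 har ((mem_normalizer_iff.1 (hU₀R hg) a).1 ha) (fun h => ha1 ?_)
          (fun h => har ?_)
        · have e : a = g⁻¹ * (g * a * g⁻¹) * g := by group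
          rw [e, h]; group
        · have h5 := hrc g hg
          have e : a = g⁻¹ * (g * a * g⁻¹) * g := by group
          rw [e, h]
          have e2 : r = g⁻¹ * (g * r * g⁻¹) * g := by group
          rw [h5] at e2
          exact e2.symm
      have hall : ∀ g ∈ U₀, g * a * g⁻¹ = a → ∀ ρ ∈ R, g * ρ * g⁻¹ = ρ := by
        intro g hg hga ρ hρ
        by_cases hρ1 : ρ = 1
        · rw [hρ1]; group
        by_cases hρr : ρ = r
        · rw [hρr]; exact hrc g hg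
        rcases four_eq hcR hsq hr hr1 ha ha1 har hρ hρ1 hρr with h5 | h5
        · rw [h5]; exact hga
        · rw [h5]
          calc g * (r * a) * g⁻¹ = (g * r * g⁻¹) * (g * a * g⁻¹) := by group
            _ = r * a := by rw [hrc g hg, hga]
      have hmv : ∀ g ∈ U₀, (∃ ρ ∈ R, g * ρ * g⁻¹ ≠ ρ) → g * a * g⁻¹ = r * a := by
        rintro g hg ⟨ρ, hρ, hne⟩
        exact (hfa g hg).resolve_left fun h => hne (hall g hg h ρ hρ)
      push Not at htR
      have h5 := hmv t ht htR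
      have h6 := hmv x hxU hxR
      have h7 : ∀ ρ ∈ R, x⁻¹ * t * ρ * (x⁻¹ * t)⁻¹ = ρ := by
        refine hall _ (mul_mem (inv_mem hxU) ht) ?_
        calc x⁻¹ * t * a * (x⁻¹ * t)⁻¹ = x⁻¹ * (t * a * t⁻¹) * x := by group
          _ = x⁻¹ * (x * a * x⁻¹) * x := by rw [h5, h6]
          _ = a := by group
      obtain ⟨b, hb⟩ := hstep _ (mul_mem (inv_mem hxU) ht) h7
      have h8 : (pre M.toNatV i).Nm (x⁻¹ * t) := PreMod.Nm.of_ind _ hb
      intro h A hA
      obtain ⟨B, hB⟩ := h8 h A hA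
      obtain ⟨B', hB'⟩ := hTXNm x hx _ B hB
      refine ⟨B', ?_⟩
      have e : x * (x⁻¹ * t * h * (x⁻¹ * t)⁻¹) * x⁻¹ = t * h * t⁻¹ := by group
      rwa [e] at hB'

end big

section mixed

variable {G : Type u} [Group G] [Finite G] {F F' : Type} [Field F] [Finite F] [CharP F 2] [Field F'] [Finite F']
  [CharP F' 2] {S S' : Sylow 2 G} {P V D P' V' D' : Subgroup G} {k k' : ℕ}

/-- mixed pairs: `QL M l` induces the full root group on `fac M l` -/
theorem fullUp_of_mix {M : NatD F S P V D k} {M' : NatD F' S' P' V' D' k'} {i : Fin k} {i' : Fin k'}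
    (L : Cv.LineD M M' i i') (hC : ∀ l, QL M l ≤ (S : Subgroup G)) (hC' : ∀ l, QL M' l ≤ (S' : Subgroup G))
    (hu : ¬ Cv.UnM M i) : FullUp M := by
  intro l b
  obtain ⟨u, hu1, hue⟩ := exists_fac M.toNatV l ![0, 1]
  obtain ⟨r, hr1, hre⟩ := exists_fac M.toNatV l ![b, 0]
  have hrl : r ∈ line M.toNatV l := (mem_line M.toNatV).2 ⟨hr1, by rw [hre]; rfl⟩
  have hul : u ∉ line M.toNatV l := fun h => by
    have := ((mem_line M.toNatV).1 h).2
    rw [hue] at this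
    simp at this
  obtain ⟨a, ha, har⟩ := ((fullAt_of L hC hC' hu).all l).full u hu1 hul r hrl
  have haQ : a ∈ QL M l := KX_le (char2_line' M l) (fun y hy => NV.sq M.toNatV (line_le _ _ hy).1) ha
  obtain ⟨b', hb'⟩ := o2_up_big M hC haQ
  have haf : a * u * a⁻¹ ∈ fac M.toNatV l :=
    (mem_normalizer_iff.1 (stab_normalizes _ l (QL_le_stab M hC l haQ)) u).1 hu1
  have h1 : M.e (a * u * a⁻¹ * u⁻¹) l 0 = b' := by
    rw [M.mul _ haf.1 _ (inv_mem hu1.1), e_inv M.toNatV hu1.1, Pi.add_apply, Pi.neg_apply, hb' u hu1, hue]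
    rw [Pi.add_apply, NatPair.ap_zero', up_00, up_01]
    simp
  have h2 : b' = b := by
    rw [← h1, har, hre]; rfl
  exact ⟨a, haQ, by rw [← h2]; exact hb'⟩

/-- **Mixed pairs: every 2-group `U`, `stab M i ≤ U ≤ N_G(V₁) ∩ N_G(R)`, acts semilinearly on `V₁`.** -/
theorem nm_mixed {M : NatD F S P V D k} {M' : NatD F' S' P' V' D' k'} {i : Fin k} {i' : Fin k'}
    (L : Cv.LineD M M' i i') (hC : ∀ l, QL M l ≤ (S : Subgroup G)) (hC' : ∀ l, QL M' l ≤ (S' : Subgroup G))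
    (hu : ¬ Cv.UnM M i) {U : Subgroup G} (hU2 : IsPGroup 2 U) (hTU : stab M.toNatV i ≤ U)
    (hUV : U ≤ normalizer (fac M.toNatV i : Set G)) (hUR : U ≤ normalizer (line M.toNatV i : Set G)) :
    ∀ t ∈ U, (pre M.toNatV i).Nm t := nm_mix M hC (fullUp_of_mix L hC hC' hu) hU2 hTU hUV hUR

end mixed

end Cfsg.Agent.Omega.IId.NV

end

section


/-!
# CvBig, CASE 2a, `q ≥ 4`, any `k`: the partners (`partnerK_self`, `partnerK_mixed`) and the plug of helper796's `big2A4`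
-/

set_option autoImplicit false
set_option linter.unusedSectionVars false

namespace Cfsg.Agent.Omega.IId.NV

open Subgroup Cfsg Cfsg.Agent.ZN Cfsg.Agent.ZN.ChoiceBase
open Cfsg.Agent.Omega.MinPar Cfsg.Agent.Omega.FFThm
open Cfsg.Agent.Omega.Mix (RMod Char2)
open Cfsg.Agent.Omega.IId.M4 (toRMod toRMod_line nmG)
open Cfsg.Agent.Omega.IId.Cv (LineD UnM OverT)
open Cfsg.Agent.Omega.IId.Cv.TwoFour (Partner vec10_ne)

universe u

section partner

variable {G : Type u} [Group G] [Finite G] {F : Type} [Field F] [Finite F] [CharP F 2] {S : Sylow 2 G}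
  {P V D : Subgroup G} {k : ℕ} (M : NatD F S P V D k) (hC : ∀ l, QL M l ≤ (S : Subgroup G)) {i : Fin k}
include hC

/-- the partner `V_i^c` -/
theorem partnerK_self {c : G} (hc : c ∈ normalizer (line M.toNatV i : Set G))
    (hne : ∃ v ∈ fac M.toNatV i, ∃ w ∈ fac M.toNatV i, v * (c * w * c⁻¹) ≠ c * w * c⁻¹ * v) :
    Partner (line M.toNatV i) (toRMod (pre M.toNatV i)) ((toRMod (pre M.toNatV i)).conj c) where
  K' := by
    have h1 := BTwo.cj_mono (g := c) (fac_le_KX_self M hC i)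
    rwa [BTwo.cj_eq_self_iff.2 (normalizer_le_normalizer_KX _ hc)] at h1
  VQ := fac_le_QL_self M hC i
  QN := (QL_le_stab M hC i).trans (stab_le_nmG (SP M) M.toNatV i)
  QN' := by
    have h1 := BTwo.cj_mono (g := c) ((QL_le_stab M hC i).trans (stab_le_nmG (SP M) M.toNatV i))
    have h2 : BTwo.cj c (QL M i) = QL M i := BTwo.cj_eq_self_iff.2 (ZN.le_normalizer_o2 _ hc)
    rw [h2] at h1
    exact h1
  ne := by
    obtain ⟨v, hv, w, hw, h⟩ := hne
    exact ⟨v, hv, _, BTwo.conj_mem_cj hw, h⟩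
  line := ⟨![1, 0], vec10_ne, by rw [toRMod_line, pre_line]⟩
  line' := by
    refine ⟨![1, 0], vec10_ne, ?_⟩
    have h1 := (toRMod (pre M.toNatV i)).conj_line c ![1, 0]
    rw [toRMod_line, pre_line] at h1
    exact ((BTwo.cj_eq_self_iff.2 hc).symm.trans h1.symm)

/-- the partner `V'_{i'}` of a pair -/
theorem partnerK_mixed {F' : Type} [Field F'] [Finite F'] [CharP F' 2] {S' : Sylow 2 G} {P' V' D' : Subgroup G}
    {k' : ℕ} (M' : NatD F' S' P' V' D' k') (hC' : ∀ l, QL M' l ≤ (S' : Subgroup G)) {i' : Fin k'}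
    (L : LineD M M' i i') :
    Partner (line M.toNatV i) (toRMod (pre M.toNatV i)) (toRMod (pre M'.toNatV i')) where
  K' := by rw [show line M.toNatV i = _ from L.eq']; exact fac_le_KX_self M' hC' i'
  VQ := fac_le_QL_self M hC i
  QN := (QL_le_stab M hC i).trans (stab_le_nmG (SP M) M.toNatV i)
  QN' := by
    rw [show line M.toNatV i = _ from L.eq']
    exact (QL_le_stab M' hC' i').trans (stab_le_nmG (SP M') M'.toNatV i')
  ne := L.ne
  line := ⟨![1, 0], vec10_ne, by rw [toRMod_line, pre_line]⟩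
  line' := ⟨![1, 0], vec10_ne, by rw [toRMod_line, pre_line]; exact L.eq'⟩

end partner

/-- helper796's `big2A4` as a proposition -/
def Big2A4P : Prop :=
  ∀ (G : Type u) [Group G] [Finite G] (F : Type) [Field F] [Finite F] [CharP F 2] (S : Sylow 2 G)
    (P V D : Subgroup G) (k : ℕ) (M : NatD F S P V D k) (i : Fin k), 2 < k → (∀ l, QL M l ≤ (S : Subgroup G)) →
    D ≠ ⊥ → ∀ (F' : Type) [Field F'] [Finite F'] [CharP F' 2] (V' N' : Subgroup G) (M' : RMod F' V' N'),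
    Partner (line M.toNatV i) (toRMod (pre M.toNatV i)) M' →
    (∀ U : Subgroup G, IsPGroup 2 U → stab M.toNatV i ≤ U → U ≤ normalizer (fac M.toNatV i : Set G) →
      U ≤ normalizer (line M.toNatV i : Set G) → ∀ t ∈ U, (pre M.toNatV i).Nm t) → 4 ≤ Nat.card F →
    ∃ T₁, OverT M i T₁

end Cfsg.Agent.Omega.IId.NV

namespace Cfsg.Agent.Omega.IId.Cv

open Cfsg Cfsg.Agent.Omega.Frame Cfsg.Agent.Omega.IId.NV

universe u

/-- `Big2A4 K` from `big2A4`. -/
theorem big2A4_of (h : Big2A4P.{u}) (K : Cls.{u}) : Big2A4 K := by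
  intro G _ _ S _ P F _ _ _ V D k M hk hC hD i hu h4
  have hN := nmBig G S P F V D k M hC i hu h4
  obtain ⟨c, hc, v, hv, w, hw, hne⟩ := hu
  exact h G F S P V D k M i hk hC hD F _ _ _ (partnerK_self M hC hc ⟨v, hv, w, hw, hne⟩)
    (fun U _ _ hUV _ t ht => hN t (hUV ht)) h4

/-- a Sylow 2-subgroup of `N_G(R)` over `stab M i` normalises `V_i`: `V_i` mixed, `q ≥ 4`, `D ≠ 1`. -/
theorem over_mixed_of (h : Big2A4P.{u}) {G : Type u} [Group G] [Finite G] {F F' : Type} [Field F] [Finite F] [CharP F 2] [Field F']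
    [Finite F'] [CharP F' 2] {S S' : Sylow 2 G} {P V D P' V' D' : Subgroup G} {k k' : ℕ} {M : NatD F S P V D k}
    {M' : NatD F' S' P' V' D' k'} {i : Fin k} {i' : Fin k'} (L : LineD M M' i i')
    (hC : ∀ l, QL M l ≤ (S : Subgroup G)) (hC' : ∀ l, QL M' l ≤ (S' : Subgroup G)) (hu : ¬ UnM M i) (hk : 2 < k)
    (hD : D ≠ ⊥) (h4 : 4 ≤ Nat.card F) : ∃ T₁, OverT M i T₁ :=
  h G F S P V D k M i hk hC hD F' _ _ _ (partnerK_mixed M hC M' hC' L)
    (fun _ hU2 hTU hUV hUR => nm_mixed L hC hC' hu hU2 hTU hUV hUR) h4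

/-- mixed pairs are impossible for `q ≥ 4`, `k > 2`, `D ≠ 1` -/
theorem mixed_false_of (h : Big2A4P.{u}) {G : Type u} [Group G] [Finite G] {F F' : Type} [Field F] [Finite F] [CharP F 2] [Field F']
    [Finite F'] [CharP F' 2] {S S' : Sylow 2 G} {P V D P' V' D' : Subgroup G} {k k' : ℕ} {M : NatD F S P V D k}
    {M' : NatD F' S' P' V' D' k'} {i : Fin k} {i' : Fin k'} (L : LineD M M' i i')
    (hC : ∀ l, QL M l ≤ (S : Subgroup G)) (hC' : ∀ l, QL M' l ≤ (S' : Subgroup G)) (hu : ¬ UnM M i)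
    (hu' : ¬ UnM M' i') (hk : 2 < k) (hD : D ≠ ⊥) (h4 : 4 ≤ Nat.card F) : False := by
  obtain ⟨T₁, hT⟩ := over_mixed_of h L hC hC' hu hk hD h4
  exact mixK_end L hC hC' hu hu' (by omega) hT.two hT.fac hT.line hT.syl

end Cfsg.Agent.Omega.IId.Cv

end

end
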