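import Cfsg.Agent.Mrg.Omega.IId.BigD.Surv.End
import Cfsg.Agent.Mrg.Omega.IId.Big.Of
import Cfsg.Agent.Mrg.Omega.IId.Big.Base
import Cfsg.Agent.Mrg.Omega.IId.ThmCD.Cor
import Cfsg.Agent.Mrg.Omega.IId.BigD.Inst
import Cfsg.Agent.Mrg.Omega.IId.ThmCD.Blk
import Cfsg.Agent.Mrg.Omega.IId.CvBig.Bts
import Cfsg.Agent.Mrg.Omega.IId.Cv.TwoBTwo

-- merged: Cfsg.Agent.Mrg.Omega.IId.BigD.Surv.Plug
section

section


/-!
# CvBig (ii), `q = 2` (bb OMEGA 21130, helper165): the plug over `Sit0 M i`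

* `Sit0.exists_sd` : the frame `Sd S O₂(P) (fac M) v`, `v l ∈ line M l`, `v i` prescribed;
* **`Sit0.surv_false`** : (SURV) is impossible.
-/

set_option autoImplicit false
set_option linter.unusedSectionVars false

namespace Cfsg.Agent.Omega.IId.NV.BigD

open Subgroup Pointwise Cfsg Cfsg.Agent.ZN Cfsg.Agent.ZN.ChoiceBase
open Cfsg.Agent.Omega.MinPar Cfsg.Agent.Omega.FFThm
open Cfsg.Agent.MinSimple.VModule (o2_isPGroup)
open Cfsg.Agent.Omega.IId.NV
open Cfsg.Agent.Omega.IId.Big (Fr Vo conj_mem norm_of comm_of_conj conj_of_comm isPGroup_of_sq le_Vo Vo_le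
  cent_of_closure norm_o2)
open Triangle (KK KK_conj KK_le_o2 mem_cent mem_KK mem_zpowers_iff_of_sq cent_conj o2_cent_conj)
open Cfsg.Agent.Omega.IId.Surv (Sd Sv CX)

universe u

local notation "cz" v:max => centralizer ({v} : Set _)
local notation "qz" v:max => ZN.o2 (centralizer ({v} : Set _))

variable {G : Type u} [Group G] [Finite G] {F : Type} [Field F] [Finite F] [CharP F 2] {S : Sylow 2 G}
  {P V D : Subgroup G} {k : ℕ} {M : NatD F S P V D k} {i : Fin k}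

include M in
/-- a 2-subgroup of `C_G(V)` normal in `C_G(V)` lies in `O₂(P)` -/
theorem le_o2_of_cent {N : Subgroup G} (hN : IsPGroup 2 N) (hNC : N ≤ centralizer (V : Set G))
    (hn : centralizer (V : Set G) ≤ normalizer (N : Set G)) : N ≤ ZN.o2 P := by
  have hp : Fact (Nat.Prime 2) := ⟨Nat.prime_two⟩
  have hSP : (S : Subgroup G) ≤ P := SP M
  set C : Subgroup G := centralizer (V : Set G) with hC
  have h1 : N ≤ ZN.o2 C := MinSimple.VModule.le_o2 hNC hN hn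
  have hPC : P ≤ normalizer (C : Set G) := by
    apply norm_of
    intro p hp c hc
    refine mem_centralizer_iff.2 fun x hx => ?_
    have hx' : p⁻¹ * x * p ∈ V := cj_mem' M.toNatV hp hx
    have h2 := mem_centralizer_iff.1 hc _ hx'
    calc x * (p * c * p⁻¹) = p * ((p⁻¹ * x * p) * c) * p⁻¹ := by group
      _ = p * c * p⁻¹ * x := by rw [h2]; group
  have hPo : P ≤ normalizer (ZN.o2 C : Set G) := norm_o2 hPC
  have h2 : ZN.o2 C ≤ (S : Subgroup G) := by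
    have h3 : IsPGroup 2 ((S : Subgroup G) ⊔ ZN.o2 C : Subgroup G) :=
      IsPGroup.to_sup_of_normal_right' S.isPGroup' (o2_isPGroup C) (hSP.trans hPo)
    rw [← S.is_maximal' h3 le_sup_left]
    exact le_sup_right
  exact h1.trans (MinSimple.VModule.le_o2 (h2.trans hSP) (o2_isPGroup C) hPo)

namespace Sit0

variable (h : Sit0 M i)
include h

/-- **The frame.** -/
theorem exists_sd {v₁ : G} (hv₁ : v₁ ∈ line M.toNatV i) (hv₁1 : v₁ ≠ 1) :
    ∃ v : Fin k → G, v i = v₁ ∧ Sd (S : Subgroup G) (ZN.o2 P) (fac M.toNatV) v := by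
  classical
  have hSP : (S : Subgroup G) ≤ P := h.SP
  choose v₀ hv₀ hv₀1 using exists_line M
  obtain ⟨v, ev⟩ : ∃ v : Fin k → G, v = Function.update v₀ i v₁ := ⟨_, rfl⟩
  have hvi : v i = v₁ := by rw [ev, Function.update_self]
  have hv : ∀ l, v l ∈ line M.toNatV l := by
    intro l
    by_cases hl : l = i
    · subst hl; rw [hvi]; exact hv₁
    · rw [ev, Function.update_of_ne hl]; exact hv₀ l
  have hv1 : ∀ l, v l ≠ 1 := by
    intro l
    by_cases hl : l = i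
    · subst hl; rw [hvi]; exact hv₁1
    · rw [ev, Function.update_of_ne hl]; exact hv₀1 l
  have hline : ∀ s (hs : s ∈ (S : Subgroup G)) l, s * v l * s⁻¹ = v (sg M.toNatV (hSP hs) l) := by
    intro s hs l
    have h1 : s * v l * s⁻¹ ∈ line M.toNatV (sg M.toNatV (hSP hs) l) := by
      rw [← conj_line M.toNatV hSP hs]
      exact ⟨v l, hv l, rfl⟩
    exact (eq_of_line h.two (hv _) (hv1 _) h1).resolve_left (cj_ne_one (hv1 l))
  have hPo : P ≤ normalizer (ZN.o2 P : Set G) := MinSimple.VModule.le_normalizer_o2 P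
  refine ⟨v, hvi, ?_⟩
  refine
    { fr := h.fr
      vV := fun l => line_le _ l (hv l)
      v1 := hv1
      perm := ?_
      tr := ?_
      KS := fun l => (h.fr.KK_le_q (line_le _ l (hv l)) (hv1 l)).trans (h.cc l _ (hv l) (hv1 l)).1
      VK := fun l j p hp hp1 => ((fac_le _ j).trans M.V_le).trans (zl_le_KK h.cc h.two hp hp1)
      QS := o2_le_S M
      QV := fun l x hx q hq => (MinSimple.VModule.mem_zc.1 (V_le_zz M hx.1)).2.1 q hq
      QQ := ThmC.TwoOf.centralizer_o2_le M.hG S M.star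
      NQ := ?_
      KQ := fun l p hp hp1 => ((h.fr.KK_le_q hp hp1).trans (q_le_P h.cc hp hp1)).trans hPo
      SQ := hSP.trans hPo
      SY := fun s hs hsV z hz => h.comm_of_fac (hSP hs) hsV hz }
  · intro s hs l
    refine ⟨sg M.toNatV (hSP hs) l, fun x hx => ?_, hline s hs l⟩
    rw [← conj_fac M.toNatV (hSP hs)]
    exact ⟨x, hx, rfl⟩
  · intro l j
    obtain ⟨s, hs, h1⟩ := exists_trans M.toNatV hSP l j
    refine ⟨s, hs, ?_⟩
    rw [conj_fac M.toNatV (hSP hs)] at h1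
    rw [hline s hs l, fac_inj M.toNatV h1]
  · intro N hN h1 h2
    refine le_o2_of_cent (M := M) hN (fun n hn => mem_centralizer_iff.2 fun x hx => ?_)
      (norm_of fun c hcc n hn => ?_)
    · have h3 : V ≤ centralizer ({n} : Set G) :=
        (V_le_iSup (M := M)).trans (iSup_le fun l y hy => mem_cent.2 (h1 l y hy n hn).symm)
      exact mem_cent.1 (h3 hx)
    · exact h2 c (fun l x hx => (mem_centralizer_iff.1 hcc x hx.1).symm) n hn

/-- **(SURV) is impossible.** -/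
theorem surv_false {v₁ y g : G} (hv₁ : v₁ ∈ line M.toNatV i) (hv₁1 : v₁ ≠ 1) (hy : y ∈ zc (ZN.o2 P))
    (hy1 : y ≠ 1) (hyX : ∀ p ∈ fac M.toNatV i, p ≠ 1 → ∀ x ∈ KK p, x * y = y * x)
    (hyT : ∀ t ∈ stab M.toNatV i, t * y = y * t) (hg : g * v₁ * g⁻¹ = v₁ * y) (hgy : g * y * g⁻¹ = y)
    (hgF : g ∈ normalizer ((fac M.toNatV i ⊔ zpowers y : Subgroup G) : Set G)) : False := by
  obtain ⟨v, hvi, hsd⟩ := h.exists_sd hv₁ hv₁1
  subst hvi
  refine Sv.false (S := S) (Q := ZN.o2 P) (V := fac M.toNatV) (v := v) (i := i) (y := y) (g₀ := g)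
    { sd := hsd
      hy := hy
      y1 := hy1
      yX := hyX
      yT := fun t ht htv => hyT t ?_
      gv := hg
      gy := hgy
      gF := hgF }
  refine mem_inf.2 ⟨ht, mem_normalizer_iff.2 fun x => ⟨fun hx => hsd.fix_line ht htv hx, fun hx => ?_⟩⟩
  have h2 := hsd.fix_line (inv_mem ht) ((show Commute t (v i) from htv).inv_left).eq hx
  have e : t⁻¹ * (t * x * t⁻¹) * t⁻¹⁻¹ = x := by group
  rwa [e] at h2

end Sit0

end Cfsg.Agent.Omega.IId.NV.BigD

end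

section


/-!
# CvBig, CASE 2a, `q = 2` (bb OMEGA 20837 (0)-(3), helper487; the rest: helper165, `Sit0.surv_false`)

`T ≥ stab M i` is maximal among the 2-subgroups of `N(V_i)` and not Sylow in `C_G(v_i)`, `D ≠ 1`.

* `Sit0.exists_x` : `x ∈ C(T₁) ∩ C(X)`, `x ≠ 1`, for a 2-group `T₁ ≥ stab M i` and all of its elements;
* `Sit0.case_B` : `O₂(C(x)) ≰ N(V_i)`;
* `Sit0.twoA` : contradiction;
* `Cv.big2A2 : Big2A2 K`.
-/

set_option autoImplicit false
set_option linter.unusedSectionVars false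

namespace Cfsg.Agent.Omega.IId.NV.BigD

open Subgroup Pointwise Cfsg Cfsg.Agent.ZN Cfsg.Agent.ZN.ChoiceBase
open Cfsg.Agent.Omega.MinPar Cfsg.Agent.Omega.FFThm
open Cfsg.Agent.MinSimple.VModule (o2_isPGroup)
open Cfsg.Agent.Omega.IId.NV
open Cfsg.Agent.Omega.IId.Big (Fr Vo conj_mem norm_of comm_of_conj conj_of_comm isPGroup_of_sq le_Vo Vo_le
  cent_of_closure norm_o2 XX_le KK_le_XX cent_of_XX)
open Triangle (KK KK_conj KK_le_o2 mem_cent mem_KK mem_zpowers_iff_of_sq cent_conj o2_cent_conj)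
open Node

universe u

local notation "cz" v:max => centralizer ({v} : Set _)
local notation "qz" v:max => ZN.o2 (centralizer ({v} : Set _))

section gen

variable {G : Type u} [Group G] [Finite G]

/-- `C_G(O₂(L)) ≤ O₂(L)` for `L ∈ L(S)` with `O₂(N_G(O₂(L))) = O₂(L)` -/
theorem cent_o2_le (hc : IsCharacteristicTwoType G) {S : Sylow 2 G} {L : Subgroup G}
    (hL : IsLoc (S : Subgroup G) L) : centralizer (o2 L : Set G) ≤ o2 L := by
  have h1 := hL.normalizer_o2 S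
  have hLN := ZN.le_normalizer_o2 L
  have h2 : o2 (normalizer (o2 L : Set G)) ≤ o2 L := MinPar.o2_le_o2 S hL.le hLN
  have h3 : o2 L ≤ o2 (normalizer (o2 L : Set G)) :=
    MinSimple.VModule.le_o2 le_normalizer (o2_isPGroup L) le_rfl
  have h4 := IsLoc.char2 S hc h1
  rw [le_antisymm h2 h3] at h4
  exact fun x hx => h4 ⟨centralizer_le_normalizer _ hx, hx⟩

/-- a larger 2-group in `N` -/
theorem exists_larger' {T N : Subgroup G} (hT : IsPGroup 2 T) (hTN : T ≤ N) (hd : 2 ∣ T.relIndex N) :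
    ∃ X : Subgroup G, IsPGroup 2 X ∧ T ≤ X ∧ X ≤ N ∧ T ≠ X := by
  have : Fact (Nat.Prime 2) := ⟨Nat.prime_two⟩
  have h1 : IsPGroup 2 (T.subgroupOf N) := hT.comap_of_injective _ N.subtype_injective
  obtain ⟨Q, hQ⟩ := h1.exists_le_sylow
  refine ⟨(Q : Subgroup N).map N.subtype, Q.2.map _, fun y hy => ⟨⟨y, hTN hy⟩, hQ hy, rfl⟩, map_subtype_le _, fun h => ?_⟩
  have h2 : T.subgroupOf N = Q := by
    rw [h]
    exact comap_map_eq_self_of_injective N.subtype_injective _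
  have h3 : ¬ 2 ∣ (Q : Subgroup N).index := Q.not_dvd_index
  apply h3
  rw [← h2]
  exact hd

end gen

variable {G : Type u} [Group G] [Finite G] {F : Type} [Field F] [Finite F] [CharP F 2] {S : Sylow 2 G}
  {P V D : Subgroup G} {k : ℕ} {M : NatD F S P V D k} {i : Fin k}

namespace Sit0

variable (h : Sit0 M i)
include h

theorem cent_o2P : centralizer (o2 P : Set G) ≤ o2 P := cent_o2_le h.c2 h.par.isLoc

/-- an involution centralised by `stab M i` lies in `Ω₁Z(O₂(P))` -/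
theorem mem_zz {x : G} (hxx : x * x = 1) (hx : ∀ t ∈ stab M.toNatV i, t * x = x * t) : x ∈ zc (o2 P) := by
  have h1 : ∀ t ∈ o2 P, t * x = x * t := fun t ht => hx t (h.o2_le_stab ht)
  have h2 : x ∈ centralizer (o2 P : Set G) := mem_centralizer_iff.2 h1
  exact ZN.mem_zc.2 ⟨h.cent_o2P h2, h1, by rw [pow_two]; exact hxx⟩

/-- the elements of `Ω₁Z(O₂(P))` are linear -/
theorem lin_zz {c s : G} (hc : c ∈ zc (o2 P)) (hs : s ∈ fac M.toNatV i) (hs1 : s ≠ 1) :
    Lin (fac M.toNatV i) s c := by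
  refine ⟨h.zz_q hs hs1 hc, fun r hr hrV => ?_⟩
  refine h.comm_of_fac (q_le_P h.cc hs hs1 (h.fr.KK_le_q hs hs1 hr)) (fun l x hx => ?_) hc
  by_cases hl : l = i
  · subst hl; exact hrV x hx
  · exact h.fr.Qc i l hl s hs hs1 r (h.fr.KK_le_q hs hs1 hr) x hx

/-- `z ∈ Ω₁Z(T)` : `z` or `v z` is centralised by `⟨W_s⟩` -/
theorem mcov {T : Subgroup G} {v z : G} (m : Mx (fac M.toNatV) i T v) (hz : z ∈ zc (o2 P))
    (hzT : ∀ t ∈ T, t * z = z * t) : Cn (fac M.toNatV i) z ∨ Cn (fac M.toNatV i) (v * z) := by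
  have hfr := h.fr
  obtain ⟨b, hb, hb1, hvb⟩ := hfr.exists_other (i := i) v
  have hvb' : v * b ∈ fac M.toNatV i := mul_mem m.vV hb
  have hbb := hfr.sq i b hb
  have hne1 : v * b ≠ 1 := fun h0 => hvb (by
    calc v = v * (b * b) := by rw [hbb, mul_one]
      _ = (v * b) * b := by group
      _ = b := by rw [h0, one_mul])
  have hzV : ∀ y ∈ fac M.toNatV i, z * y = y * z := fun y hy =>
    MinSimple.VModule.zc_comm (o2 P) z hz y (V_le_zz M (NV.fac_le _ i hy))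
  obtain ⟨a, ha, hac⟩ := exists_a hfr m.vV m.v1 hb hb1 hvb (h.lin_zz hz hb hb1) (h.lin_zz hz hvb' hne1) hzV
  obtain ⟨t, ht, e⟩ := exists_t hfr m
  have htT : t ∈ T := m.qT (hfr.KK_le_q m.vV m.v1 ht)
  by_cases ha1 : a = 1
  · left; rwa [ha1, one_mul] at hac
  by_cases hav : a = v
  · right; rwa [hav] at hac
  exfalso
  have h1 := hac.conj (m.TV htT)
  have h2 : t * (a * z) * t⁻¹ = v * (a * z) := by
    calc t * (a * z) * t⁻¹ = (t * a * t⁻¹) * (t * z * t⁻¹) := by group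
      _ = v * a * z := by rw [e a ha ha1 hav, conj_of_comm (hzT t htT)]
      _ = v * (a * z) := by group
  rw [h2] at h1
  have h3 := h1.mul hac.inv
  rw [mul_inv_cancel_right] at h3
  exact m.v1 (eq_one_of_Cn hfr m.vV h3)

/-- two distinct elements of `Ω₁Z(S)#` -/
theorem exists_two_zc (hD : D ≠ ⊥) : ∃ x ∈ zc (S : Subgroup G), ∃ y ∈ zc (S : Subgroup G), x ≠ 1 ∧ y ≠ 1 ∧ x ≠ y := by
  obtain ⟨d, hd, hd1⟩ := (Subgroup.bot_or_exists_ne_one D).resolve_left hD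
  have hD' : ∀ d ∈ D, d ∈ zc (S : Subgroup G) := by
    intro d hd
    have h1 : d ∈ zc (o2 P) := zl_le_zz M (M.D_le hd)
    exact ZN.mem_zc.2 ⟨o2_le_S M (ZN.zc_le _ h1), fun s hs => D_comm' (M := M) (h.SP hs) hd, (ZN.mem_zc.1 h1).2.2⟩
  obtain ⟨y, hy, hyD⟩ : ∃ y ∈ zc (S : Subgroup G), y ∉ D := by
    by_contra hcon
    push Not at hcon
    apply h.par.not_zc
    intro p hp
    refine centralizer_le_normalizer _ (mem_centralizer_iff.2 fun x hx => ?_)
    exact (D_comm' (M := M) hp (hcon x hx)).symm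
  exact ⟨d, hD' d hd, y, hy, hd1, fun e => hyD (e ▸ one_mem _), fun e => hyD (e ▸ hd)⟩

/-- **(1)** : `x ∈ C(T₁) ∩ C(X)` for every 2-group `T₁` which contains `T`. -/
theorem exists_x (hD : D ≠ ⊥) {T T₁ : Subgroup G} {v : G} (m : Mx (fac M.toNatV) i T v)
    (hT : stab M.toNatV i ≤ T) (hTT : T ≤ T₁) (hT₁ : IsPGroup 2 T₁) :
    ∃ x, x ≠ 1 ∧ x * x = 1 ∧ (∀ t ∈ T₁, t * x = x * t) ∧ x ∈ zc (o2 P) ∧ Cn (fac M.toNatV i) x := by
  have : Fact (Nat.Prime 2) := ⟨Nat.prime_two⟩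
  obtain ⟨S', hS'⟩ := hT₁.exists_le_sylow
  obtain ⟨x, hx, y, hy, hx1, hy1, hxy⟩ : ∃ x ∈ zc (S' : Subgroup G), ∃ y ∈ zc (S' : Subgroup G),
      x ≠ 1 ∧ y ≠ 1 ∧ x ≠ y := by
    obtain ⟨x, hx, y, hy, hx1, hy1, hxy⟩ := h.exists_two_zc hD
    obtain ⟨g, hg⟩ := MulAction.exists_smul_eq G S S'
    have key : ∀ z ∈ zc (S : Subgroup G), g * z * g⁻¹ ∈ zc (S' : Subgroup G) := by
      intro z hz
      obtain ⟨h1, h2, h3⟩ := ZN.mem_zc.1 hz
      have hmem : ∀ s, s ∈ (S' : Subgroup G) ↔ g⁻¹ * s * g ∈ (S : Subgroup G) := by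
        intro s
        rw [← hg]
        show s ∈ MulAut.conj g • (S : Subgroup G) ↔ _
        rw [Subgroup.mem_pointwise_smul_iff_inv_smul_mem, ← map_inv, MulAut.smul_def, MulAut.conj_apply, inv_inv]
      refine ZN.mem_zc.2 ⟨(hmem _).2 ?_, fun s hs => ?_, ?_⟩
      · have e : g⁻¹ * (g * z * g⁻¹) * g = z := by group
        rwa [e]
      · have h4 := h2 _ ((hmem s).1 hs)
        calc s * (g * z * g⁻¹) = g * ((g⁻¹ * s * g) * z) * g⁻¹ := by group
          _ = g * z * g⁻¹ * s := by rw [h4]; group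
      · rw [pow_two] at h3 ⊢
        calc g * z * g⁻¹ * (g * z * g⁻¹) = g * (z * z) * g⁻¹ := by group
          _ = 1 := by rw [h3]; group
    exact ⟨_, key x hx, _, key y hy, cj_ne_one hx1, cj_ne_one hy1, fun e =>
      hxy (mul_left_cancel (mul_right_cancel e))⟩
  have key : ∀ z ∈ zc (S' : Subgroup G), z * z = 1 ∧ (∀ t ∈ T₁, t * z = z * t) ∧ z ∈ zc (o2 P) ∧
      (Cn (fac M.toNatV i) z ∨ Cn (fac M.toNatV i) (v * z)) := by
    intro z hz
    obtain ⟨h1, h2, h3⟩ := ZN.mem_zc.1 hz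
    have h4 : z * z = 1 := by rw [← pow_two]; exact h3
    have h5 : ∀ t ∈ T₁, t * z = z * t := fun t ht => h2 t (hS' ht)
    have h6 : z ∈ zc (o2 P) := h.mem_zz h4 fun t ht => h5 t (hTT (hT ht))
    exact ⟨h4, h5, h6, h.mcov m h6 fun t ht => h5 t (hTT ht)⟩
  obtain ⟨a1, a2, a3, a4⟩ := key x hx
  obtain ⟨b1, b2, b3, b4⟩ := key y hy
  rcases a4 with a4 | a4
  · exact ⟨x, hx1, a1, a2, a3, a4⟩
  rcases b4 with b4 | b4
  · exact ⟨y, hy1, b1, b2, b3, b4⟩
  have hyx : y⁻¹ = y := inv_eq_of_mul_eq_one_left b1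
  obtain ⟨c1, c2, c3, -⟩ := key (x * y) (mul_mem hx hy)
  refine ⟨x * y, fun h0 => hxy ?_, c1, c2, c3, ?_⟩
  · rw [← hyx]; exact eq_inv_of_mul_eq_one_left h0
  · have hvx : v * x = x * v := by
      have hvz : v ∈ zc (o2 P) := V_le_zz M (NV.fac_le _ i m.vV)
      exact MinSimple.VModule.zc_comm (o2 P) v hvz x a3
    have e : v * x * (v * y)⁻¹ = x * y := by
      calc v * x * (v * y)⁻¹ = v * x * y⁻¹ * v⁻¹ := by group
        _ = v * (x * y) * v⁻¹ := by rw [hyx]; group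
        _ = x * y := by
          have hvz : v ∈ zc (o2 P) := V_le_zz M (NV.fac_le _ i m.vV)
          rw [MinSimple.VModule.zc_comm (o2 P) v hvz _ c3, mul_inv_cancel_right]
    rw [← e]
    exact a4.mul b4.inv

/-- a 2-subgroup of `N(V_i)` normalised by `X` centralises `V_i` -/
theorem cen_norm {N : Subgroup G} (hN2 : IsPGroup 2 N) (hNV : N ≤ normalizer (fac M.toNatV i : Set G))
    (hXN : Big.XX (fac M.toNatV) i ≤ normalizer (N : Set G)) : N ≤ centralizer (fac M.toNatV i : Set G) := by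
  obtain ⟨v, hv, hv1⟩ := exists_line M i
  have hvi := line_le _ i hv
  have hV2 : IsPGroup 2 (fac M.toNatV i) := isPGroup_of_sq fun x hx => h.fr.sq i x hx
  have hne : fac M.toNatV i ≠ ⊥ := fun h0 => hv1 (by rwa [h0, mem_bot] at hvi)
  obtain ⟨w, hw, hw1, hwN⟩ := Half.exists_fixed hV2 hne hN2 hNV
  intro x hx
  rw [mem_centralizer_iff]
  intro u hu
  by_cases hu1 : u = 1
  · rw [hu1, one_mul, mul_one]
  obtain ⟨d, hd, hdu⟩ := xx_trans h.fr hw hu hw1 hu1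
  have h1 : d⁻¹ * x * d ∈ N := by
    have := conj_mem hXN (inv_mem hd) hx
    rwa [inv_inv] at this
  have h2 := comm_of_conj (hwN _ h1)
  rw [← hdu]
  calc d * w * d⁻¹ * x = d * (w * (d⁻¹ * x * d)) * d⁻¹ := by group
    _ = x * (d * w * d⁻¹) := by rw [← h2]; group

/-- **Case (B)** : `O₂(C(x)) ≰ N(V_i)`. -/
theorem case_B {T : Subgroup G} {v x : G} (m : Mx (fac M.toNatV) i T v) (hT : stab M.toNatV i ≤ T)
    (hxT : ∀ t ∈ T, t * x = x * t) (hxC : Cn (fac M.toNatV i) x)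
    (hB : ¬ qz x ≤ normalizer (fac M.toNatV i : Set G)) :
    ∃ w ∈ normalizer (T : Set G), w * v = v * w ∧ w ∉ normalizer (fac M.toNatV i : Set G) ∧
      ∀ y ∈ fac M.toNatV i, w * y * w⁻¹ ∈ zc (o2 P) := by
  have hfact : Fact (Nat.Prime 2) := ⟨Nat.prime_two⟩
  have hfr := h.fr
  have hTx : T ≤ cz x := fun t ht => mem_cent.2 (hxT t ht)
  have hXx : Big.XX (fac M.toNatV) i ≤ cz x := fun g hg => mem_cent.2 (cent_of_XX hxC g hg)
  obtain ⟨O, hO⟩ : ∃ O, O = qz x := ⟨_, rfl⟩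
  have hO2 : IsPGroup 2 O := by rw [hO]; exact o2_isPGroup _
  have hTO : T ≤ normalizer (O : Set G) := by rw [hO]; exact hTx.trans (le_normalizer_o2 _)
  have hXO : Big.XX (fac M.toNatV) i ≤ normalizer (O : Set G) := by rw [hO]; exact hXx.trans (le_normalizer_o2 _)
  rw [← hO] at hB
  have hN : O ⊓ normalizer (fac M.toNatV i : Set G) ≤ centralizer (fac M.toNatV i : Set G) :=
    h.cen_norm (hO2.to_le inf_le_left) inf_le_right
      (inf_norm hXO ((xx_norm hfr i).trans le_normalizer))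
  obtain ⟨O₀, hO₀⟩ : ∃ O₀, O₀ = O ⊓ centralizer (fac M.toNatV i : Set G) := ⟨_, rfl⟩
  have hO₀O : O₀ ≤ O := by rw [hO₀]; exact inf_le_left
  have hO₀V : O₀ ≤ centralizer (fac M.toNatV i : Set G) := by rw [hO₀]; exact inf_le_right
  have hTO₀ : T ≤ normalizer (O₀ : Set G) := by rw [hO₀]; exact inf_norm hTO (cent_norm m.TV)
  have hO₀T : O₀ ≤ T := m.le_T (hO2.to_le hO₀O) hTO₀ (hO₀V.trans (centralizer_le_normalizer _))
  have hlt : O₀ < O := by
    refine lt_of_le_of_ne hO₀O fun e => hB ?_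
    rw [← e]
    exact hO₀V.trans (centralizer_le_normalizer _)
  have hlt2 := Lib.GoldschmidtFusion.lt_inf_normalizer hO2 hlt
  obtain ⟨w, hw, hwO₀, hwT⟩ := SideOf.exists_fixed_mod (T := T) (not_le_of_gt hlt2) inf_le_right
    (hO2.to_le inf_le_left) m.T2 hTO₀ (inf_norm hTO (hTO₀.trans le_normalizer))
  have hwn : w ∈ normalizer (O₀ : Set G) := hw.2
  have hwn' : ∀ x ∈ O₀, w⁻¹ * x * w ∈ O₀ := fun x hx => by
    have := (mem_normalizer_iff.1 (inv_mem hwn) x).1 hx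
    rwa [inv_inv] at this
  have hwNT : w ∈ normalizer (T : Set G) := by
    refine BTwo.mem_normalizer_of_conj fun t ht => ?_
    have e : w * t * w⁻¹ = (t * w * t⁻¹ * w⁻¹)⁻¹ * t := by group
    rw [e]
    exact mul_mem (inv_mem (hO₀T (hwT t ht))) ht
  obtain ⟨Ts, hTs⟩ : ∃ Ts, Ts = T ⊓ centralizer (fac M.toNatV i : Set G) := ⟨_, rfl⟩
  have hTsT : Ts ≤ T := by rw [hTs]; exact inf_le_left
  have hTsV : Ts ≤ centralizer (fac M.toNatV i : Set G) := by rw [hTs]; exact inf_le_right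
  have hO₀Ts : O₀ ≤ Ts := by rw [hTs]; exact le_inf hO₀T hO₀V
  have hPTs : o2 P ≤ Ts := by
    rw [hTs]
    refine le_inf (h.o2_le_stab.trans hT) fun x hx => mem_centralizer_iff.2 fun u hu => ?_
    exact ((ZN.mem_zc.1 (V_le_zz M (NV.fac_le _ i hu))).2.1 x hx).symm
  have hTsw : ∀ t ∈ Ts, w⁻¹ * t * w ∈ Ts := by
    intro t ht
    have h1 : t⁻¹ * w * t * w⁻¹ ∈ O₀ := by
      have := hwT t⁻¹ (inv_mem (hTsT ht))
      rwa [inv_inv] at this
    have h2 := hwn' _ h1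
    have e : w⁻¹ * t * w = t * (w⁻¹ * (t⁻¹ * w * t * w⁻¹) * w)⁻¹ := by group
    rw [e]
    exact mul_mem ht (inv_mem (hO₀Ts h2))
  -- `V_i^w ≤ ZZ`
  have hwV : ∀ b ∈ fac M.toNatV i, w * b * w⁻¹ ∈ zc (o2 P) := by
    intro b hb
    have h1 : ∀ t ∈ Ts, t * (w * b * w⁻¹) = w * b * w⁻¹ * t := by
      intro t ht
      have h1 := mem_centralizer_iff.1 (hTsV (hTsw t ht)) b hb
      calc t * (w * b * w⁻¹) = w * ((w⁻¹ * t * w) * b) * w⁻¹ := by group
        _ = w * b * w⁻¹ * t := by rw [← h1]; group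
    have h2 : w * b * w⁻¹ ∈ centralizer (o2 P : Set G) := mem_centralizer_iff.2 fun t ht => h1 t (hPTs ht)
    refine ZN.mem_zc.2 ⟨h.cent_o2P h2, fun t ht => h1 t (hPTs ht), ?_⟩
    rw [pow_two]
    calc w * b * w⁻¹ * (w * b * w⁻¹) = w * (b * b) * w⁻¹ := by group
      _ = 1 := by rw [h.fr.sq i b hb]; group
  have hwnot : w ∉ normalizer (fac M.toNatV i : Set G) := fun h0 => hwO₀ (by
    rw [hO₀]; exact ⟨hw.1, hN ⟨hw.1, h0⟩⟩)
  refine ⟨w, hwNT, ?_, hwnot, hwV⟩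
  obtain ⟨b, hb, hb1, hvb⟩ := hfr.exists_other (i := i) v
  obtain ⟨a, ha, hab⟩ := hfr.move m.vV hb m.v1 hb1 hvb
  have haT : a ∈ T := m.qT (hfr.KK_le_q m.vV m.v1 ha)
  have ho : w * a * w⁻¹ * a⁻¹ ∈ O₀ := by
    have h1 := inv_mem (hwT a haT)
    have e : (a * w * a⁻¹ * w⁻¹)⁻¹ = w * a * w⁻¹ * a⁻¹ := by group
    rwa [e] at h1
  have hOy : ∀ o ∈ O₀, o * (w * b * w⁻¹) = w * b * w⁻¹ * o := by
    intro o ho
    have h1 := mem_centralizer_iff.1 (hO₀V (hwn' o ho)) b hb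
    calc o * (w * b * w⁻¹) = w * ((w⁻¹ * o * w) * b) * w⁻¹ := by group
      _ = w * b * w⁻¹ * o := by rw [← h1]; group
  have hOv : ∀ o ∈ O₀, o * v = v * o := fun o ho => (mem_centralizer_iff.1 (hO₀V ho) v m.vV).symm
  have key : w * v * w⁻¹ = (w * a * w⁻¹ * a⁻¹) * (a * (w * b * w⁻¹) * a⁻¹) * (w * a * w⁻¹ * a⁻¹)⁻¹ *
      (w * b * w⁻¹)⁻¹ := by
    have e : v = a * b * a⁻¹ * b⁻¹ := by rw [hab, mul_inv_cancel_right]
    calc w * v * w⁻¹ = w * (a * b * a⁻¹ * b⁻¹) * w⁻¹ := by rw [← e]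
      _ = _ := by group
  rcases hfr.KK_act m.vV ha (h.zz_q m.vV m.v1 (hwV b hb)) with h1 | h1
  · rw [h1, hOy _ ho, mul_inv_cancel_right, mul_inv_cancel] at key
    exact (m.v1 (by
      calc v = w⁻¹ * (w * v * w⁻¹) * w := by group
        _ = 1 := by rw [key]; group)).elim
  · rw [h1] at key
    have h2 : (w * a * w⁻¹ * a⁻¹) * (v * (w * b * w⁻¹)) = v * (w * b * w⁻¹) * (w * a * w⁻¹ * a⁻¹) := by
      calc (w * a * w⁻¹ * a⁻¹) * (v * (w * b * w⁻¹)) = ((w * a * w⁻¹ * a⁻¹) * v) * (w * b * w⁻¹) := by group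
        _ = v * ((w * a * w⁻¹ * a⁻¹) * (w * b * w⁻¹)) := by rw [hOv _ ho]; group
        _ = _ := by rw [hOy _ ho]; group
    rw [h2, mul_inv_cancel_right, mul_inv_cancel_right] at key
    exact comm_of_conj key

/-- **CASE 2a, `q = 2`**: `T` is Sylow in `N_G(line M i)`. -/
theorem twoA (hD : D ≠ ⊥) {T : Subgroup G} {v : G} (hv : v ∈ line M.toNatV i) (m : Mx (fac M.toNatV) i T v)
    (hT : stab M.toNatV i ≤ T) : ¬ 2 ∣ T.relIndex (normalizer (line M.toNatV i : Set G)) := by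
  intro hd
  have hfact : Fact (Nat.Prime 2) := ⟨Nat.prime_two⟩
  have hfr := h.fr
  have hv1 := m.v1
  rw [h.norm_line hv hv1] at hd
  obtain ⟨T₁, hT₁, hTT, hTv, hne⟩ := exists_larger' m.T2 (fun t ht => mem_cent.2 (m.Tv t ht)) hd
  obtain ⟨x, hx1, hxx, hxT₁, hxz, hxC⟩ := h.exists_x hD m hT hTT hT₁
  have hxT : ∀ t ∈ T, t * x = x * t := fun t ht => hxT₁ t (hTT ht)
  -- `w`
  obtain ⟨w, hw, hwv, hwV, hcomm, hL⟩ : ∃ w ∈ normalizer (T : Set G), w * v = v * w ∧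
      w ∉ normalizer (fac M.toNatV i : Set G) ∧
      (∀ z ∈ fac M.toNatV i, ∀ y ∈ fac M.toNatV i, w * y * w⁻¹ * z = z * (w * y * w⁻¹)) ∧
      ∀ y ∈ fac M.toNatV i, ∀ s ∈ fac M.toNatV i, s ≠ 1 → s ≠ v → Lin (fac M.toNatV i) s (w * y * w⁻¹) := by
    by_cases hB : qz x ≤ normalizer (fac M.toNatV i : Set G)
    · -- Case (A)
      have hXx : Big.XX (fac M.toNatV) i ≤ cz x := fun g hg => mem_cent.2 (cent_of_XX hxC g hg)
      have h1 := h.cen_norm (o2_isPGroup (cz x)) hB (hXx.trans (le_normalizer_o2 _))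
      have h2 : ∀ y ∈ fac M.toNatV i, ∀ q ∈ qz x, y * q = q * y := fun y hy q hq =>
        mem_centralizer_iff.1 (h1 hq) y hy
      have h3 : fac M.toNatV i ≤ qz x := fun y hy => by
        refine Big.Supply.cz_char2 h.c2 hxx hx1 ⟨mem_cent.2 ?_, mem_centralizer_iff.2 fun q hq => (h2 y hy q hq).symm⟩
        exact MinSimple.VModule.zc_comm (o2 P) y (V_le_zz M (NV.fac_le _ i hy)) x hxz
      have hlt2 := Lib.GoldschmidtFusion.lt_inf_normalizer hT₁ (lt_of_le_of_ne hTT hne)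
      obtain ⟨w, ⟨hwT₁, hwN⟩, hwT⟩ := SetLike.exists_of_lt hlt2
      have hwv : w * v = v * w := mem_cent.1 (hTv hwT₁)
      refine ⟨w, hwN, hwv, fun h0 => hwT ?_, lin_half hfr m hxT (hxT₁ w hwT₁) hxC hwN hwv h3 h2⟩
      have h4 : T ⊔ zpowers w ≤ T := m.mx _ (hT₁.to_le (sup_le hTT (by rwa [zpowers_le]))) le_sup_left
        (sup_le m.TV (by rwa [zpowers_le]))
      exact h4 (mem_sup_right (mem_zpowers w))
    · -- Case (B)
      obtain ⟨w, hw, hwv, hwV, hwz⟩ := h.case_B m hT hxT hxC hB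
      exact ⟨w, hw, hwv, hwV, fun z hz y hy =>
        MinSimple.VModule.zc_comm (o2 P) _ (hwz y hy) z (V_le_zz M (NV.fac_le _ i hz)),
        fun y hy s hs hs1 _ => h.lin_zz (hwz y hy) hs hs1⟩
  obtain ⟨a, ha, ha1, hav, y, hy, hy1, hyv, k', he, hk1, hkk, hkT, hkC, hkV⟩ :=
    exists_k hfr m hw hwv hwV hcomm hL
  have hkz : k' ∈ zc (o2 P) := h.mem_zz hkk fun t ht => hkT t (hT ht)
  -- `k^(w⁻¹)`
  have hkw : ∀ t ∈ T, t * (w⁻¹ * k' * w) = w⁻¹ * k' * w * t := by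
    intro t ht
    have h1 : w * t * w⁻¹ ∈ T := (mem_normalizer_iff.1 hw t).1 ht
    have h2 := hkT _ h1
    calc t * (w⁻¹ * k' * w) = w⁻¹ * ((w * t * w⁻¹) * k') * w := by group
      _ = w⁻¹ * k' * w * t := by rw [h2]; group
  have hkwz : w⁻¹ * k' * w ∈ zc (o2 P) := by
    refine h.mem_zz ?_ fun t ht => hkw t (hT ht)
    calc w⁻¹ * k' * w * (w⁻¹ * k' * w) = w⁻¹ * (k' * k') * w := by group
      _ = 1 := by rw [hkk]; group
  have h7 : Cn (fac M.toNatV i) (w⁻¹ * k' * w) ∨ Cn (fac M.toNatV i) (w⁻¹ * (v * k') * w) := by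
    rcases h.mcov m hkwz hkw with h1 | h1
    · exact Or.inl h1
    · right
      have e : w⁻¹ * (v * k') * w = v * (w⁻¹ * k' * w) := by
        calc w⁻¹ * (v * k') * w = w⁻¹ * v * k' * w := by group
          _ = v * (w⁻¹ * k' * w) := by
            have h2 : w⁻¹ * v = v * w⁻¹ := by
              rw [eq_mul_inv_iff_mul_eq, mul_assoc, ← hwv, inv_mul_cancel_left]
            rw [h2]; group
      rwa [e]
  obtain ⟨g, hg, hgk, hgF⟩ := exists_gamma hfr m hwv ha ha1 hav hy hy1 hyv he hkk hkC hkV h7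
  exact h.surv_false hv hv1 hkz hk1 hkC (fun t ht => hkT t (hT ht)) hg hgk hgF

end Sit0

end Cfsg.Agent.Omega.IId.NV.BigD

end

end

-- merged: Cfsg.Agent.Mrg.Omega.IId.BigD.Ccd
section

section


/-!
# CvBig, `q = 2`, CASE 1, over helper653's THEOREM C (`NV.thmCD`)
-/

set_option autoImplicit false

namespace Cfsg.Agent.Omega.IId.NV.BigD

open Subgroup Pointwise Cfsg Cfsg.Agent.ZN Cfsg.Agent.ZN.ChoiceBase
open Cfsg.Agent.Omega.MinPar Cfsg.Agent.Omega.FFThm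

universe u

variable {G : Type u} [Group G] [Finite G] {F : Type} [Field F] [Finite F] [CharP F 2] {S : Sylow 2 G}
  {P V D : Subgroup G} {k : ℕ}

/-- THEOREM C in the form `CCD` -/
theorem ccd (M : NatD F S P V D k) (hF : Nat.card F = 2) : CCD M := fun i v hv hv1 => by
  obtain ⟨h1, -, h2⟩ := NV.thmCD M hF (i := i) hv hv1
  exact ⟨h1, fun l hl q hq x hx => (mem_centralizer_iff.1 (h2 l hl hq) x hx).symm⟩

/-- **CASE 1, `q = 2`, all `k ≥ 2`, all `D`**: `T = N_S(V_i)` Sylow in `N_G(R)`, `V_i` unmixed: contradiction. -/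
theorem false_two (M : NatD F S P V D k) (hF : Nat.card F = 2) (hk : 2 ≤ k) (hD : D ≠ ⊥ ∨ 2 < k) {i : Fin k}
    (hu : Cv.UnM M i) (hd : ¬ 2 ∣ (stab M.toNatV i).relIndex (normalizer (line M.toNatV i : Set G))) : False :=
  Sit.false_of { toSit0 := Sit0.of_unm hF hk (ccd M hF) hu, unm := hu, odd := hd } hD

end Cfsg.Agent.Omega.IId.NV.BigD

end

section


/-!
# The socket `Big2A2` of `CvBigN` (bb OMEGA 20837, 21130): CASE 2a does not occur, `q = 2`

(helper487; after the element `k`: helper165.)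
-/

set_option autoImplicit false
set_option linter.unusedSectionVars false

namespace Cfsg.Agent.Omega.IId.Cv

open Subgroup Pointwise Cfsg Cfsg.Agent.ZN Cfsg.Agent.ZN.ChoiceBase
open Cfsg.Agent.Omega.MinPar Cfsg.Agent.Omega.Frame
open Cfsg.Agent.Omega.IId.NV Cfsg.Agent.Omega.IId.NV.BigD
open Cfsg.Agent.Omega.IId.Big (comm_of_conj conj_of_comm isPGroup_of_sq)
open Triangle (KK mem_cent mem_KK)

universe u

/-- a maximal 2-subgroup of `N` over `A` -/
theorem exists_max_two {G : Type u} [Group G] [Finite G] {A N : Subgroup G} (hA : IsPGroup 2 A) (hAN : A ≤ N) :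
    ∃ T : Subgroup G, IsPGroup 2 T ∧ A ≤ T ∧ T ≤ N ∧ ∀ B : Subgroup G, IsPGroup 2 B → T ≤ B → B ≤ N → B ≤ T := by
  obtain ⟨T, hAT, hT⟩ := (Set.toFinite {B : Subgroup G | IsPGroup 2 B ∧ B ≤ N}).exists_le_maximal (a := A) ⟨hA, hAN⟩
  exact ⟨T, hT.prop.1, hAT, hT.prop.2, fun B hB hTB hBN => hT.le_of_ge ⟨hB, hBN⟩ hTB⟩

section two

variable {G : Type u} [Group G] [Finite G] {F : Type} [Field F] [Finite F] [CharP F 2] {S : Sylow 2 G}
  {P V D : Subgroup G} {k : ℕ} {M : NatD F S P V D k} {i : Fin k}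

/-- `Sit0` from `Mv` -/
theorem sit0_of_mv (hF : Nat.card F = 2) (hk : 2 ≤ k) (hm : Mv M i) : Sit0 M i := by
  obtain ⟨v, hv, hv1⟩ := BigD.exists_line M i
  obtain ⟨x, hx, y, hy, hxy⟩ := hm
  have hvv : v * v = 1 := mul_self_zc (V_le_zz M (NV.fac_le _ i (NV.line_le _ i hv)))
  refine Sit0.of_KK hF hk (ccd M hF) (NV.line_le _ i hv) hv1 ⟨x, mem_KK.2 ⟨(mem_KX.1 hx).1 v hv, fun q hq => ?_⟩,
    y, hy, hxy⟩
  rw [← BigD.normalizer_line_eq hF hv hv1] at hq
  rcases BigD.eq_of_line hF hv hv1 ((mem_KX.1 hx).2 q hq) with h1 | h1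
  · rw [h1]; exact one_mem _
  · rw [h1]; exact mem_zpowers v

/-- **CASE 2a does not occur, `q = 2`, `D ≠ 1`, all `k ≥ 2`.** -/
theorem exists_overT (h : Sit0 M i) (hD : D ≠ ⊥) : ∃ T₁, OverT M i T₁ := by
  obtain ⟨v, hv, hv1⟩ := BigD.exists_line M i
  have hvi := NV.line_le _ i hv
  have hfr := h.fr
  obtain ⟨T, hT2, hTT, hTV, hmx⟩ := exists_max_two (h.T2) (NV.stab_normalizes M.toNatV i)
  have hqT : ZN.o2 (centralizer ({v} : Set G)) ≤ T := (h.q_T hv hv1).trans hTT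
  -- `T ≤ C(v)`
  have hTv : ∀ t ∈ T, t * v = v * t := by
    have hV2 : IsPGroup 2 (NV.fac M.toNatV i) := isPGroup_of_sq fun x hx => hfr.sq i x hx
    have hne : NV.fac M.toNatV i ≠ ⊥ := fun h0 => hv1 (by rwa [h0, mem_bot] at hvi)
    obtain ⟨u, hu, hu1, huT⟩ := Half.exists_fixed hV2 hne hT2 hTV
    have huv : u = v := by
      by_contra hne
      obtain ⟨a, ha, hau⟩ := hfr.move hvi hu hv1 hu1 (Ne.symm hne)
      rw [huT a (hqT (hfr.KK_le_q hvi hv1 ha))] at hau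
      exact hv1 (right_eq_mul.1 hau)
    intro t ht
    rw [← huv]
    exact comm_of_conj (huT t ht)
  have m : Node.Mx (NV.fac M.toNatV) i T v := ⟨hvi, hv1, hT2, hTV, hTv, hqT, hmx⟩
  refine ⟨T, hT2, hTT, hTV, ?_, h.twoA hD hv m hTT⟩
  rw [h.norm_line hv hv1]
  exact fun t ht => mem_cent.2 (hTv t ht)

end two

/-- **`Big2A2`** -/
theorem big2A2 (K : Cls.{u}) : Big2A2 K := fun _ _ _ _ _ _ _ _ _ _ _ _ _ _ hk _ hD _ hm hF =>
  exists_overT (sit0_of_mv hF (by omega) hm) hD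

end Cfsg.Agent.Omega.IId.Cv

end

end

-- merged: Cfsg.Agent.Mrg.Omega.IId.CvBig.UsTwo
section

/-!
# CvBig, `q = 2`, `V_i` unmixed, `T₁` a Sylow 2-subgroup of `G` (helper540)

* `Sit0 M i` : helper730's `BigD.Sit` without its field `odd` (`stab M i` need not be Sylow in `N_G(R)`): `WV`, `fr`,
  `comm_of_fac`, `q_dich`, `zz_q`;
* `Sit0.dec` : `z ∈ Ω₁Z(O₂(P))` centralised by `W_v`, `1 ≠ v ∈ line M i`, is `u * z'`, `u ∈ {1, v}`, `z'` centralised by
  `W_v` and `W_b`;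
* `Sit0.WW_le_KK`, `Sit0.X_cen`;
* `pos_big` : the exit `Pos`;
* `bigUS2` : `BigUS2 K`.
-/

set_option autoImplicit false
set_option linter.unusedSectionVars false

namespace Cfsg.Agent.Omega.IId.NV.BigUs

open Cfsg.Agent.Omega.IId.NV.BigD hiding Sit0

open Subgroup Pointwise Cfsg Cfsg.Agent.ZN Cfsg.Agent.ZN.ChoiceBase
open Cfsg.Agent.Omega.MinPar Cfsg.Agent.Omega.FFThm
open Cfsg.Agent.MinSimple.VModule (o2_isPGroup)
open Cfsg.Agent.Omega.IId.NV
open Cfsg.Agent.Omega.IId.Big (Fr Vo conj_mem norm_of comm_of_conj conj_of_comm isPGroup_of_sq le_Vo Vo_le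
  cent_of_closure)
open Triangle (KK KK_conj KK_le_o2 mem_cent mem_KK mem_zpowers_iff_of_sq cent_conj o2_cent_conj)

universe u

local notation "cz" v:max => centralizer ({v} : Set _)
local notation "qz" v:max => ZN.o2 (centralizer ({v} : Set _))

/-- `V_i` is unmixed, `q = 2` (`BigD.Sit` without `odd`). -/
structure Sit0 {G : Type u} [Group G] [Finite G] {F : Type} [Field F] [Finite F] [CharP F 2] {S : Sylow 2 G}
    {P V D : Subgroup G} {k : ℕ} (M : NatD F S P V D k) (i : Fin k) : Prop where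
  two : Nat.card F = 2
  cc : CCD M
  unm : ∃ g ∈ normalizer (line M.toNatV i : Set G), ∃ v ∈ fac M.toNatV i, ∃ w ∈ fac M.toNatV i,
    v * (g * w * g⁻¹) ≠ g * w * g⁻¹ * v

namespace Sit0

variable {G : Type u} [Group G] [Finite G] {F : Type} [Field F] [Finite F] [CharP F 2] {S : Sylow 2 G}
  {P V D : Subgroup G} {k : ℕ} {M : NatD F S P V D k} {i : Fin k} (h : Sit0 M i)
include h

theorem c2 : IsCharacteristicTwoType G := M.hG

theorem par : IsParS (S : Subgroup G) P := M.star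

theorem SP : (S : Subgroup G) ≤ P := NV.SP M

theorem T2 : IsPGroup 2 (stab M.toNatV i) := S.isPGroup'.to_le (stab_le _ i)

theorem TP : stab M.toNatV i ≤ P := (stab_le _ i).trans h.SP

theorem sqV {v : G} (hv : v ∈ V) : v * v = 1 := mul_self_zc (V_le_zz M hv)

/-- `W_v` moves `V_l` for all points `v ∈ V_l` -/
theorem WV : ∀ l, ∀ v ∈ fac M.toNatV l, v ≠ 1 → ∃ g ∈ KK v, ∃ x ∈ fac M.toNatV l, g * x ≠ x * g := by
  intro l v hv hv1
  obtain ⟨v₀, hv₀, hv₀1⟩ := BigD.exists_line M i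
  obtain ⟨g, hg, a, ha, b, hb, hne⟩ := h.unm
  rw [BigD.normalizer_line_eq h.two hv₀ hv₀1] at hg
  have h1 : g * b * g⁻¹ ∈ KK v₀ := by
    have h2 := KK_conj (h := g) (V_le_KK_line h.cc h.two hv₀ hv₀1 (NV.fac_le _ i hb))
    rwa [conj_of_comm (mem_cent.1 hg)] at h2
  obtain ⟨y, hy, hyv, hyi, -⟩ := exists_P_conj (line_le _ i hv₀) hv₀1 hv hv1
  refine ⟨y * (g * b * g⁻¹) * y⁻¹, ?_, y * a * y⁻¹, (hyi a).1 ha, fun e => hne ?_⟩
  · have h2 := KK_conj (h := y) h1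
    rwa [hyv] at h2
  · calc a * (g * b * g⁻¹) = y⁻¹ * (y * a * y⁻¹ * (y * (g * b * g⁻¹) * y⁻¹)) * y := by group
      _ = g * b * g⁻¹ * a := by rw [← e]; group

/-- **428's frame** -/
theorem fr : Fr (⨆ l, fac M.toNatV l) (fac M.toNatV) := by
  have hle : (⨆ l, fac M.toNatV l) ≤ V := iSup_le fun l => NV.fac_le _ l
  have hsq : ∀ x ∈ V, x * x = 1 := fun x hx => h.sqV hx
  have hc2 : ∀ l, ∀ v ∈ fac M.toNatV l, v ≠ 1 → cz v ⊓ centralizer (qz v : Set G) ≤ qz v := fun l v hv hv1 =>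
    Big.Supply.cz_char2 h.c2 (hsq v (NV.fac_le _ l hv)) hv1
  refine
    { S2 := isPGroup_of_sq fun x hx => hsq x (hle hx)
      sq := fun l x hx => hsq x (NV.fac_le _ l hx)
      comm := fun l m x hx y hy => NV.comm M.toNatV hx.1 hy.1
      four := fun l => by rw [card_fac, h.two]; norm_num
      Qc := fun l m hlm v hv hv1 q hq x hx => qz_comm h.cc hlm hv hv1 hq hx
      VQ := fun l m v hv hv1 => ?_
      WV := h.WV
      c2 := hc2
      perm := fun s hs l => ⟨l, fun x => ?_⟩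
      zS := ZN.zc_le _ }
  · intro x hx
    exact KK_le_o2 (hsq v (NV.fac_le _ l hv)) (hc2 l v hv hv1)
      (zl_le_KK h.cc h.two hv hv1 (M.V_le (NV.fac_le _ m hx)))
  · have hsV := hle hs
    constructor
    · intro hx
      rw [NV.comm M.toNatV hsV hx.1, mul_inv_cancel_right]
      exact hx
    · intro hx
      have h1 := NV.comm M.toNatV (inv_mem hsV) hx.1
      have e : x = s⁻¹ * (s * x * s⁻¹) * s := by group
      rw [e, h1, inv_mul_cancel_right]
      exact hx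

/-- an element of `P` which commutes with all factors centralises `Ω₁Z(O₂(P))` -/
theorem comm_of_fac {x z : G} (hx : x ∈ P) (hxV : ∀ l, ∀ v ∈ fac M.toNatV l, x * v = v * x)
    (hz : z ∈ zc (o2 P)) : x * z = z * x := by
  refine comm_zz M hx (fun v hv => ?_) hz
  have h1 : (⨆ l, fac M.toNatV l) ≤ centralizer ({x} : Set G) :=
    iSup_le fun l w hw => mem_cent.2 (hxV l w hw).symm
  exact (mem_cent.1 (h1 (V_le_iSup hv))).symm

/-- the action of `Q_v` on `Ω₁Z(O₂(P))`: trivial or that of `a ∈ W_v` -/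
theorem q_dich {l : Fin k} {v b a : G} (hv : v ∈ fac M.toNatV l) (hv1 : v ≠ 1) (hb : b ∈ fac M.toNatV l)
    (hb1 : b ≠ 1) (hvb : v ≠ b) (ha : a ∈ KK v) (hab : a * b * a⁻¹ = v * b) {r : G} (hr : r ∈ qz v) :
    (∀ z ∈ zc (o2 P), r * z = z * r) ∨ ∀ z ∈ zc (o2 P), r * a * z = z * (r * a) := by
  have hfr := h.fr
  have hQP := q_le_P h.cc hv hv1
  have haQ : a ∈ qz v := hfr.KK_le_q hv hv1 ha
  have hbK : b ∈ KK v := zl_le_KK h.cc h.two hv hv1 (M.V_le (NV.fac_le _ l hb))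
  have hact : ∀ r ∈ qz v, r * b * r⁻¹ = b ∨ r * b * r⁻¹ = v * b := by
    intro r hr
    rcases hfr.KK_act hv hbK hr with h1 | h1
    · left
      have h2 := comm_of_conj h1
      rw [← h2]; group
    · right
      have h2 : b * r = v * r * b := by rw [← h1]; group
      have h3 : r * v = v * r := (mem_cent.1 ((o2_le _) hr))
      have h4 : v * v = 1 := hfr.sq l v hv
      have h5 : r * b = v * (b * r) := by
        rw [h2]
        calc r * b = (v * v) * r * b := by rw [h4, one_mul]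
          _ = v * (v * r * b) := by group
      rw [h5]; group
  have hbV : ∀ r ∈ qz v, r * b = b * r → ∀ m, ∀ w ∈ fac M.toNatV m, r * w = w * r := by
    intro r hr hrb m x hx
    by_cases hl : m = l
    · subst hl
      have h3 : r * v = v * r := (mem_cent.1 ((o2_le _) hr))
      rcases hfr.cases4 hv hb hv1 hb1 hvb hx with rfl | rfl | rfl | rfl
      · simp
      · exact h3
      · exact hrb
      · calc r * (v * b) = (r * v) * b := by group
          _ = v * (r * b) := by rw [h3]; group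
          _ = v * b * r := by rw [hrb]; group
    · exact hfr.Qc l m hl v hv hv1 r hr x hx
  rcases hact r hr with h1 | h1
  · left
    intro z hz
    exact h.comm_of_fac (hQP hr) (hbV r hr (comm_of_conj h1)) hz
  · right
    intro z hz
    have hra : r * a ∈ qz v := mul_mem hr haQ
    refine h.comm_of_fac (hQP hra) (hbV _ hra ?_) hz
    apply comm_of_conj
    have h3 : r * v = v * r := (mem_cent.1 ((o2_le _) hr))
    have h4 : v * v = 1 := hfr.sq l v hv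
    calc r * a * b * (r * a)⁻¹ = r * (a * b * a⁻¹) * r⁻¹ := by group
      _ = (r * v) * b * r⁻¹ := by rw [hab]; group
      _ = v * (r * b * r⁻¹) := by rw [h3]; group
      _ = (v * v) * b := by rw [h1]; group
      _ = b := by rw [h4, one_mul]

/-- **`Ω₁Z(O₂(P)) ≤ Q_v`** -/
theorem zz_q {l : Fin k} {v : G} (hv : v ∈ fac M.toNatV l) (hv1 : v ≠ 1) : zc (o2 P) ≤ qz v := by
  have hfr := h.fr
  have hfact : Fact (Nat.Prime 2) := ⟨Nat.prime_two⟩
  have hzn : P ≤ normalizer (zc (o2 P) : Set G) := zz_nor P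
  have hVz : V ≤ zc (o2 P) := V_le_zz M
  have hzab := MinSimple.VModule.zc_comm (o2 P)
  have hzsq : ∀ z ∈ zc (o2 P), z * z = 1 := fun z hz => mul_self_zc hz
  have hQP := q_le_P h.cc hv hv1
  have hzC : zc (o2 P) ≤ cz v := fun z hz => mem_cent.2 (hzab z hz v (hVz (NV.fac_le _ l hv)))
  obtain ⟨b, hb, hb1, hvb⟩ := hfr.exists_other (i := l) v
  obtain ⟨a, ha, hab⟩ := hfr.move hv hb hv1 hb1 hvb
  have haQ : a ∈ qz v := hfr.KK_le_q hv hv1 ha
  have hr2 := fun r (hr : r ∈ qz v) => h.q_dich hv hv1 hb hb1 hvb ha hab hr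
  have haa : ∀ z ∈ zc (o2 P), a * a * z = z * (a * a) := by
    intro z hz
    rcases hr2 a haQ with h1 | h1
    · calc a * a * z = a * (a * z) := by group
        _ = a * (z * a) := by rw [h1 z hz]
        _ = (a * z) * a := by group
        _ = (z * a) * a := by rw [h1 z hz]
        _ = z * (a * a) := by group
    · exact h1 z hz
  have haz : ∀ z ∈ zc (o2 P), a * z * a⁻¹ ∈ zc (o2 P) := fun z hz => conj_mem hzn (hQP haQ) hz
  have hat : ∀ z ∈ zc (o2 P), a * (a * z * a⁻¹ * z⁻¹) = a * z * a⁻¹ * z⁻¹ * a := by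
    intro z hz
    have h1 := haa z hz
    have h2 : a * (a * z * a⁻¹) * a⁻¹ = z := by
      calc a * (a * z * a⁻¹) * a⁻¹ = (a * a * z) * (a * a)⁻¹ := by group
        _ = z := by rw [h1]; group
    have h3 : a * (a * z * a⁻¹ * z⁻¹) * a⁻¹ = a * z * a⁻¹ * z⁻¹ := by
      have h5 : (a * z * a⁻¹)⁻¹ = a * z * a⁻¹ := inv_eq_of_mul_eq_one_left (hzsq _ (haz z hz))
      have h6 : z⁻¹ = z := inv_eq_of_mul_eq_one_left (hzsq _ hz)
      calc a * (a * z * a⁻¹ * z⁻¹) * a⁻¹ = (a * (a * z * a⁻¹) * a⁻¹) * (a * z * a⁻¹)⁻¹ := by group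
        _ = z * (a * z * a⁻¹) := by rw [h2, h5]
        _ = (a * z * a⁻¹) * z := hzab _ hz _ (haz z hz)
        _ = a * z * a⁻¹ * z⁻¹ := by rw [h6]
    exact comm_of_conj h3
  have htZ : ∀ z ∈ zc (o2 P), a * z * a⁻¹ * z⁻¹ ∈ qz v ⊓ centralizer ((qz v : Subgroup G) : Set G) := by
    intro z hz
    have ht : a * z * a⁻¹ * z⁻¹ ∈ zc (o2 P) := mul_mem (haz z hz) (inv_mem hz)
    have hcen : a * z * a⁻¹ * z⁻¹ ∈ centralizer ((qz v : Subgroup G) : Set G) := by
      rw [mem_centralizer_iff]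
      intro r hr
      rcases hr2 r hr with h1 | h1
      · exact h1 _ ht
      · have h2 := h1 _ ht
        have h3 := hat z hz
        have h4 : r * (a * z * a⁻¹ * z⁻¹) * a = a * z * a⁻¹ * z⁻¹ * r * a := by
          calc r * (a * z * a⁻¹ * z⁻¹) * a = r * (a * z * a⁻¹ * z⁻¹ * a) := by group
            _ = r * a * (a * z * a⁻¹ * z⁻¹) := by rw [← h3]; group
            _ = a * z * a⁻¹ * z⁻¹ * r * a := by rw [h2]; group
        exact mul_right_cancel h4
    exact ⟨hfr.c2 l v hv hv1 ⟨hzC ht, hcen⟩, hcen⟩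
  refine Big.Syl.le_o2_of_chain (hfr.c2 l v hv hv1) hzC (fun z hz r hr => ?_) (fun z hz y hy => ?_)
  · rcases hr2 r hr with h1 | h1
    · have e : z * r * z⁻¹ * r⁻¹ = 1 := by rw [← h1 z hz]; group
      rw [e]
      exact one_mem _
    · have h2 := h1 z hz
      have h3 : z * r * z⁻¹ * r⁻¹ = r * (a * z * a⁻¹ * z⁻¹) * r⁻¹ := by
        calc z * r * z⁻¹ * r⁻¹ = (z * (r * a)) * a⁻¹ * z⁻¹ * r⁻¹ := by group
          _ = r * (a * z * a⁻¹ * z⁻¹) * r⁻¹ := by rw [← h2]; group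
      rw [h3]
      have h4 := htZ z hz
      have h5 : r * (a * z * a⁻¹ * z⁻¹) * r⁻¹ = a * z * a⁻¹ * z⁻¹ := by
        rw [mem_centralizer_iff.1 h4.2 r hr, mul_inv_cancel_right]
      rw [h5]
      exact h4
  · have h1 : ∀ m, ∀ w ∈ fac M.toNatV m, y * w = w * y := fun m w hw => by
      have hwQ : w ∈ qz v := hfr.VQ l m v hv hv1 hw
      exact (mem_centralizer_iff.1 hy.2 w hwQ).symm
    exact (h.comm_of_fac (hQP hy.1) h1 hz).symm


theorem o2_le_stab : o2 P ≤ stab M.toNatV i := by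
  refine le_inf (o2_le_S M) (norm_of fun x hx v hv => ?_)
  rw [((ZN.mem_zc.1 (V_le_zz M (NV.fac_le _ i hv))).2.1 x hx), mul_inv_cancel_right]
  exact hv

/-- `z ∈ Ω₁Z(O₂(P))` centralised by `W_v`: `u * z`, `u ∈ {1, v}`, is centralised by `W_v` and `W_b`. -/
theorem dec {v b z : G} (hv : v ∈ fac M.toNatV i) (hv1 : v ≠ 1) (hb : b ∈ fac M.toNatV i) (hb1 : b ≠ 1) (hvb : v ≠ b)
    (hz : z ∈ zc (o2 P)) (hvz : ∀ g ∈ KK v, g * z = z * g) :
    ∃ u, (u = 1 ∨ u = v) ∧ (∀ g ∈ KK v, g * (u * z) = u * z * g) ∧ ∀ g ∈ KK b, g * (u * z) = u * z * g := by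
  have hfr := h.fr
  have hfact : Fact (Nat.Prime 2) := ⟨Nat.prime_two⟩
  obtain ⟨a, ha, hab⟩ := hfr.move hb hv hb1 hv1 (Ne.symm hvb)
  have hvv : v * v = 1 := hfr.sq i v hv
  have hbb : b * b = 1 := hfr.sq i b hb
  have hcomm : v * b = b * v := hfr.comm i i v hv b hb
  have hzv : z * v = v * z :=
    MinSimple.VModule.zc_comm (o2 P) z hz v (V_le_zz M (NV.fac_le _ i hv))
  have hvg : ∀ g ∈ KK v, g * v = v * g := fun g hg => (mem_KK.1 hg).1
  have hzb := h.zz_q hb hb1 hz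
  have hvq : v ∈ zc (o2 P) := V_le_zz M (NV.fac_le _ i hv)
  -- an element `z' ∈ Ω₁Z(O₂(P))` which commutes with `a` commutes with `W_b`
  have key : ∀ z' ∈ zc (o2 P), a * z' = z' * a → ∀ g ∈ KK b, g * z' = z' * g := by
    intro z' hz' haz g hg
    rcases h.q_dich hb hb1 hv hv1 (Ne.symm hvb) ha hab (hfr.KK_le_q hb hb1 hg) with h1 | h1
    · exact h1 z' hz'
    · have h2 := h1 z' hz'
      have h3 : g * z' * a = z' * g * a := by
        calc g * z' * a = g * (a * z') := by rw [haz, mul_assoc]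
          _ = g * a * z' := by rw [mul_assoc]
          _ = z' * g * a := by rw [h2, mul_assoc]
      exact mul_right_cancel h3
  rcases hfr.KK_act hb ha hzb with h1 | h1
  · refine ⟨1, Or.inl rfl, fun g hg => by rw [one_mul]; exact hvz g hg, fun g hg => ?_⟩
    rw [one_mul]
    exact key z hz (comm_of_conj h1) g hg
  · refine ⟨v, Or.inr rfl, fun g hg => ?_, fun g hg => ?_⟩
    · rw [← mul_assoc, hvg g hg, mul_assoc, hvz g hg, mul_assoc]
    · refine key (v * z) (mul_mem hvq hz) (comm_of_conj ?_) g hg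
      calc a * (v * z) * a⁻¹ = (a * v * a⁻¹) * (a * z * a⁻¹) := by group
        _ = b * v * (b * z) := by rw [hab, h1]
        _ = v * z := by rw [← hcomm, mul_assoc, ← mul_assoc b b z, hbb, one_mul]

end Sit0

section ww

variable {G : Type u} [Group G] [Finite G]

theorem normalizer_of_two {R : Subgroup G} (hR : Nat.card R = 2) {v : G} (hv : v ∈ R) (hv1 : v ≠ 1) :
    normalizer (R : Set G) = cz v := by
  apply le_antisymm
  · intro g hg
    have h1 := (mem_normalizer_iff.1 hg v).1 hv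
    exact mem_cent.2 (comm_of_conj ((Two.eq_or_eq_of_card_two hR hv hv1 h1).resolve_left (cj_ne_one hv1)))
  · intro g hg
    refine centralizer_le_normalizer _ (mem_centralizer_iff.2 fun y hy => ?_)
    rcases Two.eq_or_eq_of_card_two hR hv hv1 hy with h1 | h1
    · rw [h1, one_mul, mul_one]
    · rw [h1]; exact (mem_cent.1 hg).symm

/-- `W ≤ KK v`, `R = {1, v}` -/
theorem WW_le_KK {ι : Type*} {V : Subgroup G} {R : ι → Subgroup G} (b : BTwo.BT V R) {o : ι}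
    (hR : Nat.card (R o) = 2) {v : G} (hv : v ∈ R o) (hv1 : v ≠ 1) : BTwo.WW V (R o) ≤ KK v := by
  intro x hx
  refine mem_KK.2 ⟨?_, fun q hq => ?_⟩
  · exact b.QR o x (b.W_le_Q o hx) v hv
  · have hq' : q ∈ BTwo.QQ (R o) := by
      have e := normalizer_of_two hR hv hv1
      change q ∈ ZN.o2 (normalizer (R o : Set G))
      rw [e]; exact hq
    have h1 := inv_mem (b.WQ o hq' hx)
    have e : (q * x * q⁻¹ * x⁻¹)⁻¹ = x * q * x⁻¹ * q⁻¹ := by group
    rw [e] at h1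
    rcases Two.eq_or_eq_of_card_two hR hv hv1 h1 with h2 | h2
    · rw [h2]; exact one_mem _
    · rw [h2]; exact mem_zpowers v

end ww

end Cfsg.Agent.Omega.IId.NV.BigUs

namespace Cfsg.Agent.Omega.IId.NV

open Subgroup Pointwise Cfsg Cfsg.Agent.ZN Cfsg.Agent.ZN.ChoiceBase
open Cfsg.Agent.Omega.MinPar Cfsg.Agent.Omega.FFThm
open Cfsg.Agent.Lib.SL2Mat
open Cfsg.Agent.MinSimple
open Cfsg.Agent.Omega.NatPair (NatMod)
open Cfsg.Agent.Omega.HTwo.Entry (Pos)
open Cfsg.Agent.MinSimple.VModule (zc_le zc_comm zc_sq zc_le_zl le_normalizer_o2 o2_isPGroup o2_le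
  normalizer_le_normalizer_zc le_normalizer_zl)
open Cfsg.Agent.Omega.IId.Triangle (KK mem_cent)

universe u

section main

variable {G : Type u} [Group G] [Finite G] {F : Type} [Field F] [Finite F] [CharP F 2] {S : Sylow 2 G}
  {P V D : Subgroup G} {k : ℕ} (M : NatD F S P V D k) (hF : Nat.card F = 2)
  (hC : ∀ l, QL M l ≤ (S : Subgroup G))

include hF hC in
/-- **`T₁` Sylow in `G`, `q = 2`, any number of factors: the position.** -/
theorem pos_big (hD : D ≠ ⊥) {i : Fin k} (hu : UnMx M i) (T₁ : Sylow 2 G) (hT : stab M.toNatV i ≤ T₁)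
    (hTV : (T₁ : Subgroup G) ≤ normalizer (fac M.toNatV i : Set G))
    (hTR : (T₁ : Subgroup G) ≤ normalizer (line M.toNatV i : Set G)) :
    ∃ (N : NatMod F (fac M.toNatV i)) (P₁ : Subgroup G) (o : BTwo.Pt N) (r z : G),
      Pos T₁ P₁ (fac M.toNatV i) (BTwo.pt N) o r z := by
  have : NeZero k := ⟨by rintro rfl; exact i.elim0⟩
  obtain ⟨N, B⟩ := bts_big_two M hC hF hu
  have h0 : BigUs.Sit0 M i := ⟨hF, BigD.ccd M hF, hu⟩
  have hfr := h0.fr
  have hSP := SP M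
  obtain ⟨a, ha, ha1⟩ := BigD.exists_line M i
  have haV := line_le _ i ha
  have haa : a * a = 1 := hfr.sq i a haV
  have hN := BigD.normalizer_line_eq (M := M) hF ha ha1
  set X := BTwo.XX (fac M.toNatV i) (BTwo.pt N) with hX
  have hXV : X ≤ normalizer (fac M.toNatV i : Set G) := B.bts.toBT.X_le_NV
  set P₁ := (T₁ : Subgroup G) ⊔ X with hP₁
  have hPV : P₁ ≤ normalizer (fac M.toNatV i : Set G) := sup_le hTV hXV
  have hQT : QL M i ≤ T₁ := (QL_le_stab M hC i).trans hT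
  have hPT : o2 P ≤ T₁ := h0.o2_le_stab.trans hT
  have haT : a ∈ zc (T₁ : Subgroup G) := by
    refine VModule.mem_zc.2 ⟨hPT (VModule.zc_le _ (V_le_zz M haV.1)), fun y hy => ?_, by rw [pow_two, haa]⟩
    have h1 := hTR hy
    rw [hN] at h1
    exact mem_centralizer_singleton_iff.1 h1
  -- a second point
  obtain ⟨b, hb, hb1, hab⟩ := hfr.exists_other (i := i) a
  let o : BTwo.Pt N := ⟨line M.toNatV i, ![1, 0], FourSide.vec_ne, B.line.symm⟩
  have hcard : ∀ o' : BTwo.Pt N, Nat.card (BTwo.pt N o') = 2 := by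
    rintro ⟨_, w, hw, rfl⟩
    change Nat.card (N.line w) = 2
    rw [N.card_line hw, hF]
  obtain ⟨o', ho'⟩ := B.bts.toBT.R_cov b hb
  have hoo : o ≠ o' := by
    rintro rfl
    rcases BigD.eq_of_line hF ha ha1 ho' with h1 | h1
    · exact hb1 h1
    · exact hab h1.symm
  have hWa : BTwo.WW (fac M.toNatV i) (BTwo.pt N o) ≤ KK a := BigUs.WW_le_KK B.bts.toBT (hcard o) ha ha1
  have hWb : BTwo.WW (fac M.toNatV i) (BTwo.pt N o') ≤ KK b := BigUs.WW_le_KK B.bts.toBT (hcard o') ho' hb1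
  have hKT : KK a ≤ T₁ := by
    refine (hfr.KK_le_q haV ha1).trans ?_
    change ZN.o2 (centralizer ({a} : Set G)) ≤ _
    rw [← hN]
    exact hQT
  -- the decomposition of `Ω₁(Z(T₁))`
  have hdec : ∀ z ∈ zc (T₁ : Subgroup G), ∃ u, (u = 1 ∨ u = a) ∧
      ∃ z' ∈ zc (T₁ : Subgroup G) ⊓ centralizer (P₁ : Set G), z = u * z' := by
    intro z hz
    obtain ⟨hzT, hzc, hz2⟩ := VModule.mem_zc.1 hz
    have hzQ : z ∈ QL M i :=
      char2_line' M i (mem_inf.2 ⟨hTR hzT, mem_centralizer_iff.2 fun q hq => hzc q (hQT hq)⟩)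
    have hzY : z ∈ zc (o2 P) := by
      have hzS : z ∈ (S : Subgroup G) := hC i hzQ
      have hzP : z ∈ P := hSP hzS
      have h1 : z ∈ o2 P :=
        IsLoc.char2 S h0.c2 h0.par.isLoc ⟨hzP, mem_centralizer_iff.2 fun q hq => hzc q (hPT hq)⟩
      exact VModule.mem_zc.2 ⟨h1, fun q hq => hzc q (hPT hq), hz2⟩
    obtain ⟨u, hu2, h3, h4⟩ := h0.dec haV ha1 hb hb1 hab hzY fun g hg => hzc g (hKT hg)
    have huu : u * u = 1 := by
      rcases hu2 with rfl | rfl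
      · exact one_mul _
      · exact haa
    have hu3 : u ∈ zc (T₁ : Subgroup G) := by
      rcases hu2 with rfl | rfl
      · exact one_mem _
      · exact haT
    refine ⟨u, hu2, u * z, mem_inf.2 ⟨mul_mem hu3 hz, ?_⟩, by rw [← mul_assoc, huu, one_mul]⟩
    refine mem_cen_sup (fun y hy => (VModule.mem_zc.1 (mul_mem hu3 hz)).2.1 y hy) fun y hy => ?_
    rw [hX, B.bts.toBT.X_eq hoo] at hy
    have h5 : BTwo.WW (fac M.toNatV i) (BTwo.pt N o) ⊔ BTwo.WW (fac M.toNatV i) (BTwo.pt N o') ≤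
        centralizer ({u * z} : Set G) :=
      sup_le (fun x hx => mem_cent.2 (h3 x (hWa hx))) fun x hx => mem_cent.2 (h4 x (hWb hx))
    exact mem_cent.1 (h5 hy)
  obtain ⟨z₁, hz₁, hz₁1, hz₁a⟩ := exists_third M hD T₁ a
  obtain ⟨u, hu', z, hz, rfl⟩ := hdec z₁ hz₁
  refine ⟨N, P₁, o, a, z, {
    toBT := B.bts.toBT, card_R := hcard, char2 := M.hG, S_V := hTV, S_R := hTR,
    S_P := le_sup_left, P_V := hPV, P_trans := ?_, P_Z := ?_, r_ne := ha1, r_sq := haa, r_iff := ?_,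
    z_mem := hz, z_ne := ?_ }⟩
  · intro k
    obtain ⟨y, hy, e⟩ := B.bts.toBT.trans_X_one o k
    exact ⟨y, (le_sup_right : X ≤ _) hy, e⟩
  · intro y hy w hw
    obtain ⟨u', hu2, w', hw', rfl⟩ := hdec w hw
    have h1 : y * w' = w' * y := mem_centralizer_iff.1 (mem_inf.1 hw').2 y hy
    have h2 : y * (u' * w') * y⁻¹ * (u' * w')⁻¹ = y * u' * y⁻¹ * u'⁻¹ := by
      calc y * (u' * w') * y⁻¹ * (u' * w')⁻¹ = y * u' * (w' * y⁻¹) * w'⁻¹ * u'⁻¹ := by group
        _ = y * u' * (y⁻¹ * (y * w') * y⁻¹) * w'⁻¹ * u'⁻¹ := by group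
        _ = y * u' * (y⁻¹ * (w' * y) * y⁻¹) * w'⁻¹ * u'⁻¹ := by rw [h1]
        _ = y * u' * y⁻¹ * u'⁻¹ := by group
    rw [h2]
    have h3 : u' ∈ fac M.toNatV i := by
      rcases hu2 with rfl | rfl
      · exact one_mem _
      · exact haV
    exact mul_mem ((mem_normalizer_iff.1 (hPV hy) _).1 h3) (inv_mem h3)
  · intro y
    refine ⟨fun hy => BigD.eq_of_line hF ha ha1 hy, ?_⟩
    rintro (rfl | rfl)
    · exact one_mem _
    · exact ha
  · rintro rfl
    rw [mul_one] at hz₁1 hz₁a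
    rcases hu' with h1 | h1
    · exact hz₁1 h1
    · exact hz₁a h1

end main

end Cfsg.Agent.Omega.IId.NV

namespace Cfsg.Agent.Omega.IId.Cv

open Subgroup Cfsg Cfsg.Agent.ZN
open Cfsg.Agent.Omega.IId.NV
open Cfsg.Agent.Omega.HOne.Cut (TS0 Three0 More0 EndL known_of_pos)

universe u

/-- **`BigUS2`** : `T₁` is a Sylow 2-subgroup of `G`, `q = 2`. -/
theorem bigUS2 {K : Cfsg.Agent.Omega.Frame.Cls.{u}} (hT : TS0.{u, u}) (h3 : Three0.{u, u}) (hm : More0.{u, u})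
    (hE : EndL.{u}) : BigUS2 K := by
  intro G _ _ S hH P F _ _ _ V D k M _ hC hD i hu S₁ hO hF
  obtain ⟨N, P₁, o, r, z, p⟩ := pos_big M hF hC hD hu S₁ hO.le hO.fac hO.line
  exact known_of_pos hT h3 hm hE (hH.conj S₁).ctx (hH.conj S₁).full (hH.conj S₁).allIn p

end Cfsg.Agent.Omega.IId.Cv

end
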